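import Cfsg.Agent.Lib.Walter.Outer.ThreeField
import Cfsg.Agent.Lib.Walter.Three.Centralizer

/-!
# A field element has order three and the field has characteristic three

The frame of `C(t)` has the same simple subgroup and its field part carries the prime of the element.
-/

set_option autoImplicit false
set_option linter.unusedSectionVars false
set_option linter.style.haveILetI false

namespace CfsgLib.Walter.Outer

open Subgroup
open CfsgLib.BGroup.FieldKill (Frame)

universe u

variable {G : Type u} [Group G] [Finite G]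

/-- Two finite fields of odd order with `PSL(2)` of the same order. -/
theorem card_eq_of_psl {F F' : Type} [Field F] [Fintype F] [Field F'] [Fintype F']
    (ho : Odd (Fintype.card F)) (ho' : Odd (Fintype.card F'))
    (e : Nat.card (Matrix.ProjectiveSpecialLinearGroup (Fin 2) F) =
      Nat.card (Matrix.ProjectiveSpecialLinearGroup (Fin 2) F')) : Fintype.card F = Fintype.card F' := by
  have h1 := BGroup.FieldKill.two_mul_card_psl ho
  have h2 := BGroup.FieldKill.two_mul_card_psl ho'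
  rw [e] at h1
  have h3 := Fintype.one_lt_card (α := F)
  have h4 := Fintype.one_lt_card (α := F')
  rcases lt_trichotomy (Fintype.card F) (Fintype.card F') with hlt | heq | hlt
  · exfalso
    have := Nat.mul_lt_mul'' hlt (Nat.mul_lt_mul'' (show Fintype.card F - 1 < Fintype.card F' - 1 by omega)
      (show Fintype.card F + 1 < Fintype.card F' + 1 by omega))
    omega
  · exact heq
  · exfalso
    have := Nat.mul_lt_mul'' hlt (Nat.mul_lt_mul'' (show Fintype.card F' - 1 < Fintype.card F - 1 by omega)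
      (show Fintype.card F' + 1 < Fintype.card F + 1 by omega))
    omega

/-- The field part: every prime is three and divides the order of the field. -/
theorem three_of_frame (h : Eight G) (hsec : SectionsOK G) (hTQ : ThreeQuotStmt.{u}) (Φ : Frame G) {l : ℕ}
    (hl : l.Prime) (hd : l ∣ Nat.card Φ.D) : l = 3 ∧ 3 ∣ Fintype.card Φ.F := by
  obtain ⟨P, rfl⟩ := exists_part (Φ := Φ) hl hd
  obtain ⟨F₁, _, _, hF₁, ⟨e₁⟩⟩ := Φ.cent P.g P.mem
  have hodd : Odd (Fintype.card F₁) := (Φ.two_ne).of_dvd_nat (hF₁ ▸ dvd_pow_self _ (orderOf_pos P.g).ne')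
  have h1 := Fintype.one_lt_card (α := F₁)
  rw [Nat.odd_iff] at hodd
  rcases (show Fintype.card F₁ = 3 ∨ 5 ≤ Fintype.card F₁ by omega) with h3 | h5
  · exact P.three_of_small h hsec hTQ h3 hF₁
  · exact P.three_of_big h hsec rfl h5 hF₁ e₁

/-- An element of `C(t)` of odd order lies in `E`. -/
theorem mem_E_of_odd {t x : G} (T : Centralizer G t) (hx : x ∈ centralizer ({t} : Set G))
    (ho : Odd (orderOf x)) : x ∈ T.E := by
  obtain ⟨hA, hB, hcomm, -, hsup⟩ := T.prod
  have hn : T.E ≤ normalizer ((zpowers t : Subgroup G) : Set G) := fun e he =>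
    centralizer_le_normalizer _ (mem_centralizer_iff.2 fun a ha => hcomm a ha e he)
  obtain ⟨a, ha, e, he, hxe⟩ := Invol.mem_sup_of_normalizing hn (hsup.ge hx)
  obtain ⟨j, hj⟩ := ho
  have hc : Commute a e := hcomm a ha e he
  have ha2 : a * a = 1 := by
    obtain ⟨i, hi⟩ := mem_zpowers_iff.1 ha
    rw [← hi, ← ((Commute.refl t).mul_zpow), Invol.invol_mul_self T.order_t, one_zpow]
  have h2 : x ^ (2 * (j + 1)) = x := by
    rw [show 2 * (j + 1) = 2 * j + 1 + 1 by omega, pow_succ, ← hj, pow_orderOf_eq_one, one_mul]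
  rw [← h2, pow_mul, ← hxe, hc.mul_pow, pow_two a, ha2, one_mul]
  exact pow_mem (pow_mem he _) _

/-- `K` is normal in `C(t)`. -/
theorem conj_mem_K {t : G} (T : Centralizer G t) {c : G} (hc : c ∈ centralizer ({t} : Set G)) {k : G}
    (hk : k ∈ T.K) : c * k * c⁻¹ ∈ T.K := by
  obtain ⟨hA, hB, hcomm, -, hsup⟩ := T.prod
  have hn : T.E ≤ normalizer ((zpowers t : Subgroup G) : Set G) := fun e he =>
    centralizer_le_normalizer _ (mem_centralizer_iff.2 fun a ha => hcomm a ha e he)
  obtain ⟨a, ha, e, he, rfl⟩ := Invol.mem_sup_of_normalizing hn (hsup.ge hc)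
  have h1 : e * k * e⁻¹ ∈ T.K := T.K_normal e he k hk
  have h2 : Commute a (e * k * e⁻¹) := hcomm a ha _ (T.K_le h1)
  rwa [show a * e * k * (a * e)⁻¹ = a * (e * k * e⁻¹) * a⁻¹ by group, h2.eq, mul_inv_cancel_right]

theorem three_of_quot (h : Eight G) (hsec : SectionsOK G) (hTQ : ThreeQuotStmt.{u}) {t : G}
    {T : Centralizer G t} (D : FieldElt T) : D.l = 3 ∧ 3 ∣ Fintype.card T.F := by
  classical
  obtain ⟨e⟩ := T.iso
  obtain ⟨hPs, hPna⟩ := CfsgLib.Perm.Dickson.psl_simple_noncomm (F := T.F)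
    (by rw [Nat.card_eq_fintype_card]; have := T.five_le; omega)
  haveI := hPs
  haveI : Nontrivial T.K := e.toEquiv.nontrivial
  haveI hKs : IsSimpleGroup T.K := IsSimpleGroup.isSimpleGroup_of_surjective e.symm.toMonoidHom e.symm.surjective
  set C := centralizer ({t} : Set G) with hC
  have hKC : T.K ≤ C := T.K_le.trans T.prod.2.1
  have hns : ¬ Group.IsSolvable C := by
    intro hs
    haveI := hs
    haveI : Group.IsSolvable T.K := Group.isSolvable_of_isSolvable_injective (inclusion_injective hKC)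
    haveI : Group.IsSolvable (Matrix.ProjectiveSpecialLinearGroup (Fin 2) T.F) :=
      Group.isSolvable_of_surjective (f := e.toMonoidHom) e.surjective
    exact hPna ⟨⟨fun a b => IsSimpleGroup.comm_iff_isSolvable.2 inferInstance a b⟩⟩
  have hcore : Cfsg.oddCore C = ⊥ := by
    haveI : (Cfsg.oddCore C).Normal := Subgroup.sSup_normal _ (fun _ h => h.1)
    set V := (Cfsg.oddCore C).map C.subtype with hV
    have hVodd : Odd (Nat.card V) := by
      rw [hV, card_map_of_injective C.subtype_injective, ← Nat.not_even_iff_odd, even_iff_two_dvd]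
      exact CfsgLib.Coprime.pPrimeCore_not_dvd Nat.prime_two
    have hVn : ∀ c ∈ C, ∀ v ∈ V, c * v * c⁻¹ ∈ V := fun c hc v hv =>
      BGroup.FieldKill.conj_mem_map_of_normal _ hc hv
    haveI : (V.subgroupOf T.K).Normal := ⟨fun v hv k => hVn k (hKC k.2) v hv⟩
    have hbot : ∀ v ∈ V, v ∈ T.K → v = 1 := by
      intro v hv hvK
      rcases (inferInstance : (V.subgroupOf T.K).Normal).eq_bot_or_eq_top with hb | ht
      · have : (⟨v, hvK⟩ : T.K) ∈ V.subgroupOf T.K := hv
        rw [hb, mem_bot] at this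
        exact congrArg Subtype.val this
      · exfalso
        have ha : D.a ∈ V := subgroupOf_eq_top.1 ht D.a_mem
        refine Nat.not_even_iff_odd.2 hVodd (even_iff_two_dvd.2 ?_)
        rw [← D.order_a]
        exact Subgroup.orderOf_dvd_natCard _ ha
    rw [eq_bot_iff]
    intro v hv
    have hvV : (v : G) ∈ V := mem_map_of_mem C.subtype hv
    refine mem_bot.2 (Subtype.ext ?_)
    refine T.faithful _ (mem_E_of_odd T v.2 (hVodd.of_dvd_nat (Subgroup.orderOf_dvd_natCard _ hvV))) fun k hk => ?_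
    have h1 : (v : G) * k * (v : G)⁻¹ * k⁻¹ = 1 := by
      refine hbot _ ?_ (mul_mem (conj_mem_K T v.2 hk) (inv_mem hk))
      rw [show (v : G) * k * (v : G)⁻¹ * k⁻¹ = (v : G) * (k * (v : G)⁻¹ * k⁻¹) by group]
      exact mul_mem hvV (hVn k (hKC hk) _ (inv_mem hvV))
    exact mul_inv_eq_iff_eq_mul.1 (mul_inv_eq_one.1 h1)
  obtain ⟨Φ, rfl⟩ := h.exists_frame T.order_t hns hcore
  -- the same simple subgroup
  obtain ⟨hΦs, -⟩ := CfsgLib.Perm.Dickson.psl_simple_noncomm (F := Φ.F)
    (by rw [Nat.card_eq_fintype_card]; have := Φ.five_le; omega)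
  haveI := hΦs
  haveI : Nontrivial Φ.K := Φ.e.toEquiv.nontrivial
  haveI hΦKs : IsSimpleGroup Φ.K :=
    IsSimpleGroup.isSimpleGroup_of_surjective Φ.e.symm.toMonoidHom Φ.e.symm.surjective
  have hΦC : Φ.K ≤ C := fun k hk => mem_centralizer_singleton_iff.2 (Φ.K_comm k hk).eq
  set I := Φ.K ⊓ T.K with hI
  have hIn : ∀ c ∈ C, ∀ i ∈ I, c * i * c⁻¹ ∈ I := fun c hc i hi =>
    ⟨Φ.K_conj (mem_centralizer_singleton_iff.1 hc) hi.1, conj_mem_K T hc hi.2⟩
  haveI : (I.subgroupOf Φ.K).Normal := ⟨fun i hi k => hIn k (hΦC k.2) i hi⟩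
  haveI : (I.subgroupOf T.K).Normal := ⟨fun i hi k => hIn k (hKC k.2) i hi⟩
  have hIne : I ≠ ⊥ := by
    intro hbot
    haveI : Fact (Nat.Prime 3) := ⟨Nat.prime_three⟩
    obtain ⟨z, hz⟩ := exists_prime_orderOf_dvd_card' (G := Φ.K) 3
      ((BGroup.FieldKill.three_dvd_card_psl Φ.two_ne).trans (Nat.card_congr Φ.e.toEquiv).symm.dvd)
    rw [← Subgroup.orderOf_coe] at hz
    have h1 : (z : G) = 1 := by
      refine T.faithful _ (mem_E_of_odd T (hΦC z.2) (by rw [hz]; decide)) fun k hk => ?_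
      have h2 : (z : G) * k * (z : G)⁻¹ * k⁻¹ ∈ I := by
        refine ⟨?_, T.K.mul_mem (conj_mem_K T (hΦC z.2) hk) (T.K.inv_mem hk)⟩
        rw [show (z : G) * k * (z : G)⁻¹ * k⁻¹ = (z : G) * (k * (z : G)⁻¹ * k⁻¹) by group]
        exact mul_mem z.2 (Φ.K_conj (mem_centralizer_singleton_iff.1 (hKC hk)) (inv_mem z.2))
      rw [hbot, mem_bot] at h2
      exact mul_inv_eq_iff_eq_mul.1 (mul_inv_eq_one.1 h2)
    rw [h1, orderOf_one] at hz
    omega
  have hle1 : Φ.K ≤ T.K := by
    rcases (inferInstance : (I.subgroupOf Φ.K).Normal).eq_bot_or_eq_top with hb | ht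
    · exact absurd (eq_bot_iff.2 fun i hi => mem_bot.2 (by
        have : (⟨i, hi.1⟩ : Φ.K) ∈ I.subgroupOf Φ.K := hi
        rw [hb, mem_bot] at this
        exact congrArg Subtype.val this)) hIne
    · exact (subgroupOf_eq_top.1 ht).trans inf_le_right
  have hle2 : T.K ≤ Φ.K := by
    rcases (inferInstance : (I.subgroupOf T.K).Normal).eq_bot_or_eq_top with hb | ht
    · exact absurd (eq_bot_iff.2 fun i hi => mem_bot.2 (by
        have : (⟨i, hi.2⟩ : T.K) ∈ I.subgroupOf T.K := hi
        rw [hb, mem_bot] at this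
        exact congrArg Subtype.val this)) hIne
    · exact (subgroupOf_eq_top.1 ht).trans inf_le_left
  have hKK : Φ.K = T.K := le_antisymm hle1 hle2
  have hTodd : Odd (Fintype.card T.F) := by
    rw [Nat.odd_iff]; rcases T.mod_eight with h' | h' <;> omega
  have hcard : Fintype.card T.F = Fintype.card Φ.F := card_eq_of_psl hTodd Φ.two_ne (by
    rw [← Nat.card_congr e.toEquiv, ← Nat.card_congr Φ.e.toEquiv, hKK])
  -- the prime of the element
  have hlodd : D.l ≠ 2 := by
    intro e2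
    haveI : (T.K.subgroupOf T.E).Normal := ⟨fun k hk x => T.K_normal x x.2 k hk⟩
    have h1 : (⟨D.d, D.d_mem⟩ : T.E) ^ (T.K.subgroupOf T.E).index ∈ T.K.subgroupOf T.E :=
      pow_index_mem _ _
    obtain ⟨j, hj⟩ := T.odd_relIndex
    have h2 : (T.K.subgroupOf T.E).index = 2 * j + 1 := hj
    rw [h2, mem_subgroupOf, Subgroup.coe_pow, pow_succ, pow_mul,
      show (((⟨D.d, D.d_mem⟩ : T.E) : G)) ^ 2 = 1 from orderOf_dvd_iff_pow_eq_one.1 (by rw [D.order_d, e2]),
      one_pow, one_mul] at h1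
    exact D.d_not_mem h1
  have hdvd : D.l ∣ Nat.card Φ.D := by
    obtain ⟨δ, hδ, -⟩ := exists_proj Φ
    have hdC : D.d ∈ C := T.prod.2.1 D.d_mem
    set dC : C := ⟨D.d, hdC⟩ with hdCdef
    have hpow : δ dC ^ D.l = 1 := by
      rw [← map_pow, show dC ^ D.l = 1 from Subtype.ext (by
        rw [Subgroup.coe_pow, Subgroup.coe_one]; exact D.order_d ▸ pow_orderOf_eq_one D.d), map_one]
    rcases (Nat.dvd_prime D.prime).1 (orderOf_dvd_of_pow_eq_one hpow) with h1 | h1
    · exfalso
      rw [orderOf_eq_one_iff] at h1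
      obtain ⟨a, ha, k, hk, he⟩ := hδ dC
      rw [h1, Subgroup.coe_one, mul_one, hdCdef] at he
      have he' : D.d = a * k := he
      rcases ha with rfl | rfl
      · rw [one_mul] at he'
        exact D.d_not_mem (hKK ▸ he' ▸ hk)
      · have h2 : (Φ.t * k) ^ D.l = 1 := by rw [← he', ← D.order_d]; exact pow_orderOf_eq_one D.d
        rw [(show Commute Φ.t k from (Φ.K_comm k hk).symm).mul_pow] at h2
        obtain ⟨j, hj⟩ := D.prime.odd_of_ne_two hlodd
        rw [show Φ.t ^ D.l = Φ.t by rw [hj, pow_succ, pow_mul, pow_two, Φ.sq_t, one_pow, one_mul]] at h2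
        refine Φ.t_notMem ?_
        rw [eq_inv_of_mul_eq_one_left h2]
        exact inv_mem (pow_mem hk _)
    · exact h1 ▸ orderOf_dvd_natCard _
  obtain ⟨h3, hq⟩ := three_of_frame h hsec hTQ Φ D.prime hdvd
  exact ⟨h3, hcard ▸ hq⟩

end CfsgLib.Walter.Outer
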