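import Cfsg.Agent.Lib.Walter.Outer.ThreeNorm
import Cfsg.Agent.Lib.Walter.Rank.Factor

/-!
# The two shapes for a fixed field with three elements

A solvable group has order `168`; otherwise it has a normal subgroup `PSL(2, 8)` of index three.
-/

set_option autoImplicit false
set_option linter.unusedSectionVars false
set_option linter.style.haveILetI false

namespace CfsgLib.Walter.Outer

open Subgroup
open CfsgLib.BGroup.FieldKill (Quot)

universe u

namespace ThreeQ

variable {Y : Type u} [Group Y] [Finite Y] (Q : Quot Y) (h3 : Fintype.card Q.F = 3)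
include Q h3

/-- The solvable shape. -/
theorem small_of_abelian {A : Subgroup Y} [A.Normal] (hne : A ≠ ⊥) (hcomm : ∀ a ∈ A, ∀ b ∈ A, a * b = b * a) :
    Small168 Q := by
  classical
  haveI : Fact (Nat.Prime 2) := ⟨Nat.prime_two⟩
  have hinvA : ∀ u : Y, orderOf u = 2 → u ∈ A := fun u hu => Q.mem_of_normal (Q.even_of_normal hne) hu
  have hTA : ∀ s ∈ (Q.T : Subgroup Y), s ∈ A := fun s hs => by
    by_cases h1 : s = 1
    · rw [h1]; exact one_mem _
    · exact hinvA s (Q.invol hs h1)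
  have hin : ∀ u : Y, orderOf u = 2 → u ∈ (Q.T : Subgroup Y) := by
    intro u hu
    refine PGroup.CSylow.le_sylow_of_le_normalizer Q.T (Q := zpowers u)
      (IsPGroup.of_card (n := 1) (by rw [Nat.card_zpowers, hu, pow_one])) (zpowers_le.2 ?_) (mem_zpowers u)
    exact centralizer_le_normalizer _
      (mem_centralizer_iff.2 fun s hs' => hcomm s (hTA s hs') u (hinvA u hu))
  have hn : (Q.T : Subgroup Y).Normal := ⟨fun a ha g => by
    by_cases h1 : a = 1
    · rw [h1, mul_one, mul_inv_cancel]; exact one_mem _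
    · exact hin _ (Invol.invol_conj (Q.invol ha h1) g)⟩
  have htop : normalizer ((Q.T : Subgroup Y) : Set Y) = ⊤ := normalizer_eq_top_iff.2 hn
  have hY : Nat.card Y = 168 := by
    rw [← card_normalizer Q h3, htop, card_top]
  refine ⟨hY, hn, fun x hx => ?_, ?_⟩
  · haveI : Fact (Nat.Prime 3) := ⟨Nat.prime_three⟩
    have h7 : x ^ 7 = 1 := hx ▸ pow_orderOf_eq_one x
    have hne2 : ¬ 2 ∣ Nat.card (centralizer ({x} : Set Y)) := fun h2 => by
      obtain ⟨u, hu⟩ := exists_prime_orderOf_dvd_card' (G := centralizer ({x} : Set Y)) 2 h2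
      have h1 := eq_one_of_comm_invol Q h3 h7 (by rw [Subgroup.orderOf_coe, hu])
        (show Commute (u : Y) x from mem_centralizer_singleton_iff.1 u.2).symm
      rw [h1, orderOf_one] at hx
      omega
    have hne3 : ¬ 3 ∣ Nat.card (centralizer ({x} : Set Y)) := fun h3' => by
      obtain ⟨b, hb⟩ := exists_prime_orderOf_dvd_card' (G := centralizer ({x} : Set Y)) 3 h3'
      rw [← Subgroup.orderOf_coe] at hb
      have h1 := eq_one_of_comm_seven Q h3 hx (htop ▸ mem_top x) (hb ▸ pow_orderOf_eq_one (b : Y))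
        (htop ▸ mem_top (b : Y)) (mem_centralizer_singleton_iff.1 b.2)
      rw [h1, orderOf_one] at hb
      omega
    have hd : Nat.card (centralizer ({x} : Set Y)) ∣ (2 ^ 3 * 3) * 7 := by
      rw [show (2 ^ 3 * 3) * 7 = Nat.card Y by rw [hY]; norm_num]
      exact card_subgroup_dvd_card _
    have h7' := (Nat.Coprime.mul_right ((Nat.prime_two.coprime_iff_not_dvd.2 hne2).symm.pow_right 3)
      (Nat.prime_three.coprime_iff_not_dvd.2 hne3).symm).dvd_of_dvd_mul_left hd
    exact (eq_of_le_of_card_ge (zpowers_le.2 (mem_centralizer_singleton_iff.2 rfl))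
      (by rw [Nat.card_zpowers, hx]; exact Nat.le_of_dvd (by norm_num) h7')).symm
  · obtain ⟨x, b, w, -, -, hx, hb, hw, hne'⟩ := exists_scalar Q h3
    exact ⟨x, b, w, hx, hb, hw, hne'⟩

/-- The shape `SL(2, 8) : 3`. -/
theorem big_of_psl {L : Type} [Field L] [Fintype L] [CharP L 2] {N : Subgroup Y} [N.Normal]
    (e₀ : N ≃* Matrix.ProjectiveSpecialLinearGroup (Fin 2) L) (hTN : (Q.T : Subgroup Y) ≤ N) : Big1512 Y := by
  classical
  haveI : Fact (Nat.Prime 2) := ⟨Nat.prime_two⟩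
  haveI : Fact (Nat.Prime 3) := ⟨Nat.prime_three⟩
  haveI : Fact (Nat.Prime 7) := ⟨by norm_num⟩
  set P : Sylow 2 N := Q.T.subtype hTN with hP
  have hPmem : ∀ z : N, z ∈ (P : Subgroup N) ↔ (z : Y) ∈ (Q.T : Subgroup Y) := fun z => Iff.rfl
  obtain ⟨e, he⟩ := Rank.Factor.exists_even_iso e₀ P
  have hL : Fintype.card L = 8 := by
    rw [← EqualOrder2.card_rootU, ← Q.h8]
    refine Nat.card_congr
      { toFun := fun r => ⟨(e.symm r : N), (hPmem _).1 ((he _).1 (by rw [e.apply_symm_apply]; exact r.2))⟩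
        invFun := fun s => ⟨e ⟨s, hTN s.2⟩, (he _).2 ((hPmem _).2 s.2)⟩
        left_inv := fun r => Subtype.ext (e.apply_symm_apply r)
        right_inv := fun s => Subtype.ext (congrArg Subtype.val (e.symm_apply_apply ⟨s, hTN s.2⟩) :) }
  have hN : Nat.card N = 504 := by
    rw [Nat.card_congr e.toEquiv]
    have h := CfsgLib.Classical.card_psl2 (F := L)
    rw [hL, show Nat.gcd 2 (8 - 1) = 1 by decide, one_mul] at h
    rw [h]
  set C := centralizer ({Q.t} : Set Y) with hC
  have hTC : (Q.T : Subgroup Y) ≤ C := T_le_cent Q h3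
  have hNC : ∀ c ∈ N, c ∈ C → c ∈ (Q.T : Subgroup Y) := fun c hc hcC => by
    refine (hPmem ⟨c, hc⟩).1 ((he _).1 (Rank.Factor.centralizer_le_rootU
      (u := e ⟨Q.t, hTN Q.htT⟩) ((he _).2 ((hPmem _).2 Q.htT)) (fun h => ?_) ?_))
    · exact Invol.invol_ne_one Q.ht (congrArg Subtype.val (e.map_eq_one_iff.1 h) :)
    · exact mem_centralizer_singleton_iff.2 ((show Commute (⟨c, hc⟩ : N) ⟨Q.t, hTN Q.htT⟩ from
        Subtype.ext (mem_centralizer_singleton_iff.1 hcC)).map e.toMonoidHom).eq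
  -- all involutions are conjugate to `t` inside `N`
  obtain ⟨k, -, hk⟩ := Rank.Factor.exists_torus_rootU (F := L)
  let f : C →* Y ⧸ N := (QuotientGroup.mk' N).comp C.subtype
  have hf : Function.Surjective f := by
    intro q
    obtain ⟨y, rfl⟩ := QuotientGroup.mk'_surjective N q
    have hu : y * Q.t * y⁻¹ ∈ N := Subgroup.Normal.conj_mem inferInstance _ (hTN Q.htT) y
    have hu2 : orderOf (⟨_, hu⟩ : N) = 2 := by
      rw [Subgroup.orderOf_mk]; exact Invol.invol_conj Q.ht y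
    obtain ⟨g, hg⟩ := Invol.exists_conj_le_sylow
      (IsPGroup.of_card (n := 1) (by rw [Nat.card_zpowers, hu2, pow_one]) : IsPGroup 2 (zpowers (⟨_, hu⟩ : N))) P
    obtain ⟨i, hi⟩ := hk (e ⟨Q.t, hTN Q.htT⟩) ((he _).2 ((hPmem _).2 Q.htT))
      (fun h => Invol.invol_ne_one Q.ht (congrArg Subtype.val (e.map_eq_one_iff.1 h) :))
      (e (g * ⟨_, hu⟩ * g⁻¹)) ((he _).2 (hg _ (mem_zpowers _)))
      (fun h => Invol.invol_ne_one (Invol.invol_conj hu2 g) (e.map_eq_one_iff.1 h))
    set m : N := g⁻¹ * e.symm (k ^ i) with hm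
    have hmt : m * ⟨Q.t, hTN Q.htT⟩ * m⁻¹ = ⟨_, hu⟩ := by
      have h1 := congrArg e.symm hi
      rw [map_mul, map_mul, map_inv, e.symm_apply_apply, e.symm_apply_apply] at h1
      rw [hm, mul_inv_rev, inv_inv, show g⁻¹ * e.symm (k ^ i) * ⟨Q.t, hTN Q.htT⟩ * ((e.symm (k ^ i))⁻¹ * g) =
        g⁻¹ * (e.symm (k ^ i) * ⟨Q.t, hTN Q.htT⟩ * (e.symm (k ^ i))⁻¹) * g by group, h1]
      group
    have hmt' : (m : Y) * Q.t * (m : Y)⁻¹ = y * Q.t * y⁻¹ := congrArg Subtype.val hmt
    refine ⟨⟨(m : Y)⁻¹ * y, mem_centralizer_singleton_iff.2 ?_⟩, ?_⟩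
    · calc (m : Y)⁻¹ * y * Q.t = (m : Y)⁻¹ * (y * Q.t * y⁻¹) * y := by group
        _ = (m : Y)⁻¹ * ((m : Y) * Q.t * (m : Y)⁻¹) * y := by rw [hmt']
        _ = Q.t * ((m : Y)⁻¹ * y) := by group
    · show QuotientGroup.mk' N ((m : Y)⁻¹ * y) = QuotientGroup.mk' N y
      rw [map_mul, map_inv, show QuotientGroup.mk' N (m : Y) = 1 from (QuotientGroup.eq_one_iff _).2 m.2,
        inv_one, one_mul]
  have hker : Nat.card f.ker = 8 := by
    rw [← Q.h8, ← card_map_of_injective (f := C.subtype) C.subtype_injective]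
    congr 2
    ext y
    constructor
    · rintro ⟨c, hc, rfl⟩
      exact hNC c ((QuotientGroup.eq_one_iff _).1 hc) c.2
    · intro hy
      exact ⟨⟨y, hTC hy⟩, (QuotientGroup.eq_one_iff _).2 (hTN hy), rfl⟩
  have hindex : Nat.card (Y ⧸ N) = 3 := by
    have h := f.ker.card_mul_index
    rw [index_ker, MonoidHom.range_eq_top.2 hf, card_top, hker, card_cent Q h3 Q.ht] at h
    omega
  have hY : Nat.card Y = 1512 := by
    have h := N.card_mul_index
    rw [index_eq_card, hindex, hN] at h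
    omega
  -- the elements
  obtain ⟨x, b, w, -, -, hx, hb, hw, hne⟩ := exists_scalar Q h3
  have hx7 : x ^ 7 = 1 := hx ▸ pow_orderOf_eq_one x
  have hxN : x ∈ N := by
    refine (QuotientGroup.eq_one_iff x).1 ?_
    have h1 : (x : Y ⧸ N) ^ 3 = 1 := hindex ▸ pow_card_eq_one'
    have h2 : (x : Y ⧸ N) ^ 7 = 1 := by rw [← QuotientGroup.mk_pow, hx7]; rfl
    rw [show (x : Y ⧸ N) = (x : Y ⧸ N) ^ 7 * (((x : Y ⧸ N) ^ 3) ^ 2)⁻¹ by group, h1, h2, one_pow, inv_one,
      one_mul]
  set xN : N := ⟨x, hxN⟩ with hxN'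
  have hxo : orderOf xN = 7 := by rw [Subgroup.orderOf_mk, hx]
  -- `C_N(x) = ⟨x⟩`
  have hcx : Nat.card (centralizer ({xN} : Set N)) ∣ 7 := by
    have hne2 : ¬ 2 ∣ Nat.card (centralizer ({xN} : Set N)) := fun h2 => by
      obtain ⟨u, hu⟩ := exists_prime_orderOf_dvd_card' (G := centralizer ({xN} : Set N)) 2 h2
      have h1 := eq_one_of_comm_invol Q h3 hx7 (by rw [Subgroup.orderOf_coe, Subgroup.orderOf_coe, hu])
        (show Commute x ((u : N) : Y) from (congrArg Subtype.val (mem_centralizer_singleton_iff.1 u.2)).symm)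
      rw [h1, orderOf_one] at hx
      omega
    have hne3 : ¬ 3 ∣ Nat.card (centralizer ({xN} : Set N)) := fun h3' => by
      obtain ⟨z, hz⟩ := exists_prime_orderOf_dvd_card' (G := centralizer ({xN} : Set N)) 3 h3'
      have h21 : orderOf (e ((z : N) * xN)) = 21 := by
        rw [MulEquiv.orderOf_eq, (show Commute (z : N) xN from
          mem_centralizer_singleton_iff.1 z.2).orderOf_mul_eq_mul_orderOf_of_coprime
            (by rw [Subgroup.orderOf_coe, hz, hxo]; decide), Subgroup.orderOf_coe, hz, hxo]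
      have h1 := (CfsgLib.Classical.PSL2Spectrum.mem_range_orderOf (F := L) 2 (by omega) 21).1 ⟨_, h21⟩
      rw [hL] at h1
      norm_num at h1
    have hd : Nat.card (centralizer ({xN} : Set N)) ∣ (2 ^ 3 * 3 ^ 2) * 7 := by
      rw [show (2 ^ 3 * 3 ^ 2) * 7 = Nat.card N by rw [hN]; norm_num]
      exact card_subgroup_dvd_card _
    exact (Nat.Coprime.mul_right ((Nat.prime_two.coprime_iff_not_dvd.2 hne2).symm.pow_right 3)
      ((Nat.prime_three.coprime_iff_not_dvd.2 hne3).symm.pow_right 2)).dvd_of_dvd_mul_left hd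
  have hcent : centralizer ({xN} : Set N) = zpowers xN :=
    (eq_of_le_of_card_ge (zpowers_le.2 (mem_centralizer_singleton_iff.2 rfl))
      (by rw [Nat.card_zpowers, hxo]; exact Nat.le_of_dvd (by norm_num) hcx)).symm
  -- the normalizer of `⟨x⟩` in `N` has order fourteen
  obtain ⟨R, hR⟩ := (IsPGroup.of_card (n := 1) (by rw [Nat.card_zpowers, hxo, pow_one]) :
    IsPGroup 7 (zpowers xN)).exists_le_sylow
  have hRc : Nat.card (R : Subgroup N) = 7 := by
    rw [R.card_eq_multiplicity, hN, show (504 : ℕ).factorization 7 = 1 from ?_, pow_one]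
    rw [show (504 : ℕ) = 7 * 72 by norm_num, Nat.factorization_mul (by norm_num) (by norm_num),
      Finsupp.add_apply, Nat.Prime.factorization_self (by norm_num : Nat.Prime 7),
      Nat.factorization_eq_zero_of_not_dvd (by norm_num : ¬ 7 ∣ 72)]
  have hRx : (R : Subgroup N) = zpowers xN :=
    (eq_of_le_of_card_ge hR (by rw [hRc, Nat.card_zpowers, hxo])).symm
  set M := normalizer ((R : Subgroup N) : Set N) with hM
  have hxM : xN ∈ M := le_normalizer (hRx.symm ▸ mem_zpowers xN)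
  have hM49 : Nat.card M ≤ 49 := by
    have h := CfsgLib.LargePrimeMix.card_conjugates (G := M) (t := ⟨xN, hxM⟩) rfl
      {u : M | ∃ g : M, g * ⟨xN, hxM⟩ * g⁻¹ = u} fun u => Iff.rfl
    rw [← h]
    refine le_trans (Nat.mul_le_mul (?_ : _ ≤ 7) (?_ : _ ≤ 7)) (by norm_num)
    · refine le_trans (Nat.card_le_card_of_injective
        (β := zpowers xN)
        (fun u => ⟨(u.1 : N), ?_⟩) fun u v huv => Subtype.ext (Subtype.ext (congrArg Subtype.val huv :))) ?_
      · obtain ⟨g, hg⟩ := u.2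
        rw [← hRx, ← hg]
        exact (mem_normalizer_iff.1 g.2 xN).1 (hRx.symm ▸ mem_zpowers xN)
      · rw [Nat.card_zpowers, hxo]
    · refine le_trans (Nat.card_le_card_of_injective
        (β := centralizer ({xN} : Set N))
        (fun u => ⟨(u.1 : N), mem_centralizer_singleton_iff.2
          (congrArg Subtype.val (mem_centralizer_singleton_iff.1 u.2) :)⟩)
        fun u v huv => Subtype.ext (Subtype.ext (congrArg Subtype.val huv :))) (Nat.le_of_dvd (by norm_num) hcx)
  have hM2 : 2 ∣ Nat.card M := by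
    have hn : Nat.card (Sylow 7 N) = M.index := R.card_eq_index_normalizer
    have hd := R.card_dvd_index
    have hm := card_sylow_modEq_one 7 N
    have hidx : (R : Subgroup N).index = 72 := by
      have := (R : Subgroup N).card_mul_index
      rw [hRc, hN] at this
      omega
    rw [hidx, hn] at hd
    rw [hn, Nat.ModEq] at hm
    have hmul := M.card_mul_index
    rw [hN] at hmul
    have key : ∀ n < 73, n % 7 = 1 → n ∣ 72 → n = 1 ∨ n = 8 ∨ n = 36 := by decide
    rcases key M.index (by have := Nat.le_of_dvd (by norm_num) hd; omega) hm hd with h | h | h <;>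
      rw [h] at hmul <;> omega
  obtain ⟨s₀, hs₀⟩ := exists_prime_orderOf_dvd_card' (G := M) 2 hM2
  set s : Y := ((s₀ : N) : Y) with hsdef
  have hso : orderOf s = 2 := by rw [hsdef, Subgroup.orderOf_coe, Subgroup.orderOf_coe, hs₀]
  have hsN : s ∈ N := (s₀ : N).2
  have hss : s * s = 1 := (Invol.invol_iff.1 hso).1
  have hsi : s⁻¹ = s := inv_eq_of_mul_eq_one_right hss
  have hsx : s * x * s⁻¹ = x⁻¹ := by
    have hmem : (s₀ : N) * xN * (s₀ : N)⁻¹ ∈ zpowers xN :=
      hRx ▸ (mem_normalizer_iff.1 s₀.2 xN).1 (hRx.symm ▸ mem_zpowers xN)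
    obtain ⟨j, hj⟩ := (mem_powers_iff_mem_zpowers.2 hmem : _ ∈ Submonoid.powers xN)
    have hj' : s * x * s⁻¹ = x ^ j := by
      show ((s₀ : N) : Y) * (xN : Y) * ((s₀ : N) : Y)⁻¹ = (xN : Y) ^ j
      rw [← Subgroup.coe_pow, show xN ^ j = _ from hj]; rfl
    have h2 : x ^ 1 = x ^ (j * j) := by
      rw [pow_one, pow_mul, ← hj', conj_pow, ← hj', show s * (s * x * s⁻¹) * s⁻¹ = s * s * x * (s * s)⁻¹ by group,
        hss]
      group
    rw [pow_inj_mod, hx, Nat.mul_mod] at h2
    have key : ∀ r < 7, 1 % 7 = r * r % 7 → r = 1 ∨ r = 6 := by decide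
    rcases key (j % 7) (Nat.mod_lt _ (by norm_num)) h2 with h | h
    · exfalso
      have hxj : x ^ j = x := by
        rw [← Nat.mod_add_div j 7, h, pow_add, pow_mul, hx7, one_pow, mul_one, pow_one]
      rw [hxj] at hj'
      have h1 := eq_one_of_comm_invol Q h3 hx7 hso
        (show Commute s x from mul_inv_eq_iff_eq_mul.1 hj').symm
      rw [h1, orderOf_one] at hx
      omega
    · rw [hj', eq_inv_iff_mul_eq_one, ← pow_succ, ← Nat.mod_add_div j 7, h,
        show 6 + 7 * (j / 7) + 1 = 7 * (j / 7 + 1) by ring, pow_mul, hx7, one_pow]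
  -- the cube root moves the inverting involutions
  set s' := b * s * b⁻¹ with hs'
  have hw3 : (x ^ w) ^ (w ^ 2) = x := by
    rw [← hw, conj_pow, show x ^ w ^ 2 = b ^ 2 * x * (b ^ 2)⁻¹ from ?_,
      show b * (b ^ 2 * x * (b ^ 2)⁻¹) * b⁻¹ = b ^ 3 * x * (b ^ 3)⁻¹ by group, hb]
    · group
    · rw [pow_two w, pow_mul, ← hw, conj_pow, ← hw, pow_two b]; group
  have hs'x : s' * x * s'⁻¹ = x⁻¹ := by
    have h1 : s' * x ^ w * s'⁻¹ = (x ^ w)⁻¹ := by
      rw [← hw, hs', show b * s * b⁻¹ * (b * x * b⁻¹) * (b * s * b⁻¹)⁻¹ = b * (s * x * s⁻¹) * b⁻¹ by group, hsx]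
      group
    calc s' * x * s'⁻¹ = s' * (x ^ w) ^ (w ^ 2) * s'⁻¹ := by rw [hw3]
      _ = (s' * x ^ w * s'⁻¹) ^ (w ^ 2) := by rw [conj_pow]
      _ = x⁻¹ := by rw [h1, inv_pow, hw3]
  have hzN : s' * s⁻¹ ∈ N := mul_mem (Subgroup.Normal.conj_mem inferInstance _ hsN b) (inv_mem hsN)
  have hzc : (⟨_, hzN⟩ : N) ∈ zpowers xN := by
    rw [← hcent]
    refine mem_centralizer_singleton_iff.2 (Subtype.ext ?_)
    show s' * s⁻¹ * x = x * (s' * s⁻¹)
    refine mul_inv_eq_iff_eq_mul.1 ?_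
    calc s' * s⁻¹ * x * (s' * s⁻¹)⁻¹ = s' * (s⁻¹ * x * s) * s'⁻¹ := by group
      _ = s' * (s * x * s⁻¹) * s'⁻¹ := by rw [hsi]
      _ = (s' * x * s'⁻¹)⁻¹ := by rw [hsx]; group
      _ = x := by rw [hs'x, inv_inv]
  obtain ⟨i, hi⟩ := (mem_powers_iff_mem_zpowers.2 hzc : _ ∈ Submonoid.powers xN)
  have hbs : b * s * b⁻¹ = x ^ i * s := by
    have h1 : x ^ i = s' * s⁻¹ := by
      show (xN : Y) ^ i = _
      rw [← Subgroup.coe_pow, show xN ^ i = _ from hi]
    rw [h1, inv_mul_cancel_right]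
  have hsolve : ∀ w < 7, w ≠ 1 → ∀ i < 7, ∃ k < 7, (w * k + i) % 7 = k := by decide
  have hw1 : w % 7 ≠ 1 := fun e => hne (by rw [Nat.pow_mod, e])
  obtain ⟨k, -, hk7⟩ := hsolve (w % 7) (Nat.mod_lt _ (by norm_num)) hw1 (i % 7) (Nat.mod_lt _ (by norm_num))
  refine ⟨hY, x, x ^ k * s, b, w, hx, ?_, ?_, ?_, hb, hw, hne⟩
  · have hinv : s * x ^ k * s⁻¹ = (x ^ k)⁻¹ := by rw [← conj_pow, hsx, inv_pow]
    refine Invol.invol_iff.2 ⟨?_, fun h1 => ?_⟩
    · calc x ^ k * s * (x ^ k * s) = x ^ k * (s * x ^ k * s⁻¹) * (s * s) := by group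
        _ = 1 := by rw [hinv, hss, mul_inv_cancel, one_mul]
    · have h2 : s = (x ^ k)⁻¹ := eq_inv_of_mul_eq_one_right h1
      have hc : Commute x s := h2 ▸ (Commute.self_pow x k).inv_right
      have h3' := eq_one_of_comm_invol Q h3 hx7 hso hc
      rw [h3', orderOf_one] at hx
      omega
  · rw [show x ^ k * s * x * (x ^ k * s)⁻¹ = x ^ k * (s * x * s⁻¹) * (x ^ k)⁻¹ by group, hsx]
    group
  · show _ = _
    refine mul_inv_eq_iff_eq_mul.1 ?_
    have hwk : x ^ (w * k + i) = x ^ k := by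
      rw [pow_inj_mod, hx]
      have h := hk7
      simp only [Nat.add_mod, Nat.mul_mod, Nat.mod_mod] at h ⊢
      omega
    calc b * (x ^ k * s) * b⁻¹ = (b * x ^ k * b⁻¹) * (b * s * b⁻¹) := by group
      _ = x ^ (w * k) * (x ^ i * s) := by rw [← conj_pow, hw, ← pow_mul, hbs]
      _ = x ^ k * s := by rw [← mul_assoc, ← pow_add, hwk]

end ThreeQ

/-- The two shapes. -/
theorem threeQuotStmt : ThreeQuotStmt.{u} := by
  classical
  intro Y _ _ Q h3
  haveI : Fact (Nat.Prime 2) := ⟨Nat.prime_two⟩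
  have hsolv : ∀ u : Y, orderOf u = 2 → Group.IsSolvable (centralizer ({u} : Set Y)) := fun u hu =>
    Invol.AltEightSubgroups.solvable_of_card_lt_sixty _ rfl (by rw [ThreeQ.card_cent Q h3 hu]; norm_num)
  haveI : IsMulCommutative (Q.T : Subgroup Y) := Q.hT.1
  rcases Cfsg.Agent.S3188.result Q.T Q.hT.1 hsolv with hs | ⟨L, iL, iL', hL, N, hN, ⟨eN⟩, -⟩
  · left
    obtain ⟨k, hk⟩ := hs.solvable
    have hex : ∃ k, derivedSeries Y k = ⊥ := ⟨k, hk⟩
    have h0 : Nat.find hex ≠ 0 := fun h => by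
      have := Nat.find_spec hex
      rw [h, derivedSeries_zero] at this
      exact Invol.invol_ne_one Q.ht (mem_bot.1 (this ▸ mem_top Q.t))
    obtain ⟨m, hm⟩ := Nat.exists_eq_succ_of_ne_zero h0
    haveI := derivedSeries_normal Y m
    refine ThreeQ.small_of_abelian Q h3 (A := derivedSeries Y m) (Nat.find_min hex (by omega)) ?_
    intro a ha b hb
    have h1 := commutator_mem_commutator ha hb
    rw [← derivedSeries_succ] at h1
    have := Nat.find_spec hex
    rw [hm] at this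
    rw [this, mem_bot] at h1
    exact mul_inv_eq_iff_eq_mul.1 (mul_inv_eq_one.1 h1)
  · right
    let π : Y ≃* Y ⧸ Cfsg.oddCore Y :=
      ((QuotientGroup.quotientMulEquivOfEq Q.oddCore_bot).trans QuotientGroup.quotientBot).symm
    haveI := hN
    set N' := N.map π.symm.toMonoidHom with hN'
    haveI : N'.Normal := Subgroup.Normal.map hN _ π.symm.surjective
    let e' : N' ≃* Matrix.ProjectiveSpecialLinearGroup (Fin 2) L := (π.symm.subgroupMap N).symm.trans eN
    have hcard : Nat.card N' = Nat.card (Matrix.ProjectiveSpecialLinearGroup (Fin 2) L) :=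
      Nat.card_congr e'.toEquiv
    have hL4 : 4 ≤ Fintype.card L := by
      rcases hL with ⟨-, h⟩ | ⟨k, hk, h⟩
      · omega
      · rw [h]; exact le_trans (by norm_num) (Nat.pow_le_pow_right (by norm_num) hk)
    have hne : N' ≠ ⊥ := fun h => by
      have hpsl := Classical.card_psl2 (F := L)
      have hgle : Nat.gcd 2 (Fintype.card L - 1) ≤ 2 := Nat.le_of_dvd two_pos (Nat.gcd_dvd_left _ _)
      rw [h, card_bot] at hcard
      rw [← hcard, mul_one] at hpsl
      have h1 : 4 * (3 * 5) ≤ Fintype.card L * ((Fintype.card L - 1) * (Fintype.card L + 1)) :=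
        Nat.mul_le_mul hL4 (Nat.mul_le_mul (by omega) (by omega))
      omega
    have hTN : (Q.T : Subgroup Y) ≤ N' := fun s hs => by
      by_cases h1 : s = 1
      · rw [h1]; exact one_mem _
      · exact Q.mem_of_normal (Q.even_of_normal hne) (Q.invol hs h1)
    rcases hL with ⟨hm, -⟩ | ⟨k, hk, hk'⟩
    · exfalso
      set E := ((Q.T : Subgroup Y).subgroupOf N').map e'.toMonoidHom with hE
      have hEc : Nat.card E = 2 ^ 3 := by
        rw [hE, card_map_of_injective e'.injective, Nat.card_congr (subgroupOfEquivOfLe hTN).toEquiv, Q.h8]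
        norm_num
      have := EqConj.card_le_four_of_elementary (F := L) (Nat.odd_iff.2 (by omega)) E hEc (by
        rintro _ ⟨x, hx, rfl⟩
        rw [← map_mul, show x * x = 1 from Subtype.ext (Q.sq_one hx), map_one])
      omega
    · haveI := EqConj.charP_two_of_card (F := L) (r := k) (by omega) hk'
      exact ThreeQ.big_of_psl Q h3 e' hTN

end CfsgLib.Walter.Outer
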