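import Cfsg.Agent.Lib.Char.J1.Structure
import Cfsg.Agent.Lib.Invol.Basic
import Cfsg.Agent.S4273

/-!
# The inverted tori of the first Janko group

For `l = 7, 11, 19` an element of order `l` is inverted by an involution, and an element of odd prime order
centralizing the involution acts on it as a scalar of that order.
-/

set_option autoImplicit false
set_option linter.style.haveILetI false

namespace CfsgLib.Walter.Outer.JData

open Subgroup CfsgLib.Char.J1

universe u

/-- The data at a prime `l`. -/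
def Data {Y : Type u} [Group Y] (l : ℕ) : Prop :=
  ∃ (x s b : Y) (p w : ℕ), p.Prime ∧ p ≠ l ∧ ¬ (w ^ 2) % l = 1 ∧ orderOf x = l ∧ orderOf s = 2 ∧
    s * x * s⁻¹ = x⁻¹ ∧ Commute b s ∧ b ^ p = 1 ∧ b * x * b⁻¹ = x ^ w

/-- The evaluated identities. -/
def check (l p w : ℕ) (x s b : ℕ × ℕ) : Bool :=
  let X := pairC x.1 x.2; let S := pairC s.1 s.2; let B := pairC b.1 b.2
  powC X l == oneC && !(X == oneC) && mulC S S == oneC && !(S == oneC) &&
    mulC S X == mulC (powC X (l - 1)) S && mulC S B == mulC B S && powC B p == oneC &&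
    mulC B X == mulC (powC X w) B

theorem check_seven : check 7 3 2 (0, 1) (1, 111) (439, 117) = true := by decide +kernel

theorem check_eleven : check 11 5 3 (4, 0) (388, 141) (26, 0) = true := by decide +kernel

theorem check_nineteen : check 19 3 7 (7, 1) (588, 0) (267, 6) = true := by decide +kernel

theorem data_of_check {l p w : ℕ} (hl : l.Prime) (hp : p.Prime) (hpl : p ≠ l) (hw : ¬ (w ^ 2) % l = 1)
    {x s b : ℕ × ℕ} (hx : x.1 < 660 ∧ x.2 < 266) (hs : s.1 < 660 ∧ s.2 < 266) (hb : b.1 < 660 ∧ b.2 < 266)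
    (h : check l p w x s b = true) : Data (Y := ↥Cfsg.Spor.J1) l := by
  haveI := Fact.mk hl
  simp only [check, Bool.and_eq_true, beq_iff_eq, Bool.not_eq_true', beq_eq_false_iff_ne] at h
  obtain ⟨⟨⟨⟨⟨⟨⟨h1, h2⟩, h3⟩, h4⟩, h5⟩, h6⟩, h7⟩, h8⟩ := h
  obtain ⟨X, hX⟩ := exists_code_eq_pairC hx.1 hx.2
  obtain ⟨S, hS⟩ := exists_code_eq_pairC hs.1 hs.2
  obtain ⟨B, hB⟩ := exists_code_eq_pairC hb.1 hb.2
  rw [← hX] at h1 h2 h5 h8
  rw [← hS] at h3 h4 h5 h6
  rw [← hB] at h6 h7 h8
  rw [← code_pow] at h1 h5 h7 h8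
  simp only [← code_mul] at h3 h5 h6 h8
  rw [code_eq_one_iff] at h1 h3 h7
  rw [Ne, code_eq_one_iff] at h2 h4
  have hxo : orderOf X = l := orderOf_eq_prime h1 h2
  refine ⟨X, S, B, p, w, hp, hpl, hw, hxo, Invol.invol_iff.2 ⟨h3, h4⟩, ?_, ?_, h7, ?_⟩
  · have e : X⁻¹ = X ^ (l - 1) := by
      refine (eq_inv_of_mul_eq_one_left ?_).symm
      rw [← pow_succ, Nat.sub_add_cancel hl.pos, h1]
    rw [mul_inv_eq_iff_eq_mul, code_injective h5, e]
  · exact (code_injective h6).symm
  · rw [mul_inv_eq_iff_eq_mul, code_injective h8]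

theorem data_model {l : ℕ} (hl : l = 7 ∨ l = 11 ∨ l = 19) : Data (Y := ↥Cfsg.Spor.J1) l := by
  rcases hl with rfl | rfl | rfl
  · exact data_of_check (by norm_num) Nat.prime_three (by norm_num) (by norm_num) (by norm_num) (by norm_num)
      (by norm_num) check_seven
  · exact data_of_check (by norm_num) Nat.prime_five (by norm_num) (by norm_num) (by norm_num) (by norm_num)
      (by norm_num) check_eleven
  · exact data_of_check (by norm_num) Nat.prime_three (by norm_num) (by norm_num) (by norm_num) (by norm_num)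
      (by norm_num) check_nineteen

/-- The data in a simple group of order `175560`. -/
theorem data {N : Type u} [Group N] [Finite N] [IsSimpleGroup N] (hN : Nat.card N = 175560) {l : ℕ}
    (hl : l = 7 ∨ l = 11 ∨ l = 19) : Data (Y := N) l := by
  haveI : IsSimpleGroup ↥Cfsg.Spor.J1 := simple_J1
  haveI : Finite ↥Cfsg.Spor.J1 := finite_J1
  obtain ⟨e⟩ := Cfsg.Agent.S4273.result (G := ↥Cfsg.Spor.J1) (H := N) card_eq hN
  obtain ⟨x, s, b, p, w, hp, hpl, hw, hx, hs, h1, h2, h3, h4⟩ := data_model hl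
  refine ⟨e x, e s, e b, p, w, hp, hpl, hw, by rw [MulEquiv.orderOf_eq, hx], by rw [MulEquiv.orderOf_eq, hs],
    by rw [← map_inv, ← map_mul, ← map_mul, h1, map_inv], h2.map e, by rw [← map_pow, h3, map_one],
    by rw [← map_inv, ← map_mul, ← map_mul, h4, map_pow]⟩

end CfsgLib.Walter.Outer.JData
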