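import Cfsg.Agent.Lib.Walter.Outer.Part
import Cfsg.Agent.Lib.Walter.Outer.JData
import Cfsg.Agent.Lib.Ree.Scalar

/-!
# A fixed field with at least five elements

`C(g)/⟨g⟩` has a simple normal subgroup of Janko or Ree type, whose number of involutions is a multiple of
`l`. If `l ≠ 3` its inverted torus gives a contradiction.
-/

set_option autoImplicit false
set_option linter.unusedSectionVars false
set_option linter.style.haveILetI false

namespace CfsgLib.Walter.Outer

open Subgroup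
open CfsgLib.BGroup.FieldKill (Frame)

universe u

variable {G : Type u} [Group G] [Finite G] {Φ : Frame G}

namespace Part

variable (P : Part Φ)

/-- `l` divides the number of involutions of `C(g)/⟨g⟩`. -/
theorem dvd_card_invol (h : Eight G) : P.l ∣ Nat.card {u : Lx P.g | orderOf u = 2} := by
  letI cA : CommGroup (zpowers P.g) :=
    { (inferInstance : Group (zpowers P.g)) with mul_comm := fun a b => mul_comm' a b }
  have h1 := dvd_index h Φ P.mem P.θ P.mem_C
  rw [P.order_θ P.mem_C] at h1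
  rw [← card_invol P.odd]
  exact dvd_invol h Φ P.hl P.order ((dvd_pow_self _ P.k.succ_ne_zero).trans h1)

/-- The simple subgroup has index prime to `l`. -/
theorem not_dvd_index_N (B : BigData Φ P.g) : ¬ P.l ∣ B.N.index := by
  haveI := P.fact_l
  haveI := B.normal
  rw [index_eq_card]
  intro hd
  obtain ⟨y, hy⟩ := exists_prime_orderOf_dvd_card' (G := Lx P.g ⧸ B.N) P.l hd
  obtain ⟨y', rfl⟩ := QuotientGroup.mk'_surjective B.N y
  obtain ⟨n, hn, d, hd', rfl⟩ := B.decomp y'
  rw [map_mul, show QuotientGroup.mk' B.N n = 1 from (QuotientGroup.eq_one_iff _).2 hn, one_mul] at hy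
  obtain ⟨a, m, hm, hcard⟩ := Nat.exists_eq_pow_mul_and_not_dvd (Nat.card_pos (α := Φ.D)).ne' P.l P.hl.ne_one
  have h1 : px P.g d ^ m = 1 := by
    rw [← map_pow, px_eq_one_iff, Subgroup.coe_pow]
    refine P.top _ (pow_mem hd' m) a ?_
    rw [← pow_mul, mul_comm, ← hcard]
    exact orderOf_dvd_iff_pow_eq_one.1 (Subgroup.orderOf_dvd_natCard _ hd')
  exact hm (hy ▸ orderOf_dvd_of_pow_eq_one (by rw [← map_pow, h1, map_one]))

/-- A Sylow subgroup of the simple subgroup is one of `C(g)/⟨g⟩`. -/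
theorem not_dvd_index_map (B : BigData Φ P.g) {S : Subgroup B.N} (hS : ¬ P.l ∣ S.index) :
    ¬ P.l ∣ (S.map B.N.subtype).index := by
  rw [index_map_subtype]
  exact fun hd => (P.hl.dvd_mul.1 hd).elim hS (P.not_dvd_index_N B)

theorem three_of_big (h : Eight G) (hsec : SectionsOK G) {q : ℕ} {F₁ : Type} [Field F₁] [Fintype F₁]
    (hq : Fintype.card F₁ = q) (h5 : 5 ≤ q) (hpow : q ^ orderOf P.g = Fintype.card Φ.F)
    (e₁ : ↥(Φ.K ⊓ centralizer ({P.g} : Set G)) ≃* Matrix.ProjectiveSpecialLinearGroup (Fin 2) F₁) :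
    P.l = 3 ∧ 3 ∣ Fintype.card Φ.F := by
  classical
  haveI := P.fact_l
  obtain ⟨B⟩ := exists_bigData h Φ hsec P.mem hq h5 hpow e₁ P.ne_one
  haveI := B.normal
  haveI := B.simple
  have hI := B.card_invol
  have hdI := P.dvd_card_invol h
  set I := Nat.card {u : Lx P.g | orderOf u = 2} with hIdef
  have hqp : B.q ^ P.l ^ (P.k + 1) = Fintype.card Φ.F := by rw [← P.order]; exact B.q_pow
  rcases B.cases with ⟨hq5, hN⟩ | ⟨m, hm, hq3, hN, ⟨T⟩⟩
  · exfalso
    rw [hq5, hN] at hI
    have hI' : I = 7 * (11 * 19) := by omega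
    rw [hI'] at hdI
    have hl : P.l = 7 ∨ P.l = 11 ∨ P.l = 19 := by
      rcases P.hl.dvd_mul.1 hdI with h' | h'
      · exact Or.inl ((Nat.prime_dvd_prime_iff_eq P.hl (by norm_num)).1 h')
      rcases P.hl.dvd_mul.1 h' with h' | h'
      · exact Or.inr (Or.inl ((Nat.prime_dvd_prime_iff_eq P.hl (by norm_num)).1 h'))
      · exact Or.inr (Or.inr ((Nat.prime_dvd_prime_iff_eq P.hl (by norm_num)).1 h'))
    have hK : ¬ P.l ∣ Nat.card Φ.K := by
      refine P.not_dvd_K hqp ?_ ?_ ?_ <;> rw [hq5] <;> rcases hl with e | e | e <;> rw [e] <;> norm_num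
    obtain ⟨x, s, b, p, w, hp, hpl, hw, hx, hs, hinv, hbs, hb, hact⟩ := JData.data hN hl
    set S := (zpowers x).map B.N.subtype with hS
    have hmem : ∀ y ∈ S, ∃ j : ℤ, (x : Lx P.g) ^ j = y := by
      rintro _ ⟨y, hy, rfl⟩
      obtain ⟨j, hj⟩ := mem_zpowers_iff.1 hy
      exact ⟨j, by rw [← hj]; rfl⟩
    refine P.false_of_scalar h hsec hK (S := S) (s := (s : Lx P.g)) (b := (b : Lx P.g)) (p := p) (w := w)
      ((IsPGroup.of_card (n := 1) (by rw [Nat.card_zpowers, hx, pow_one])).map _) ?_ ?_ ?_ ?_ ?_ ?_ hp hpl ?_ ?_ hw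
    · refine P.not_dvd_index_map B ?_
      intro hd
      have hci := (zpowers x).card_mul_index
      rw [Nat.card_zpowers, hx, hN] at hci
      have h2 : P.l * P.l ∣ 175560 := hci ▸ mul_dvd_mul_left P.l hd
      rcases hl with e | e | e <;> rw [e] at h2 <;> norm_num at h2
    · intro e
      have h1 : (x : Lx P.g) ∈ S := ⟨x, mem_zpowers x, rfl⟩
      rw [e, mem_bot] at h1
      rw [show x = 1 from Subtype.ext h1, orderOf_one] at hx
      exact P.hl.ne_one hx.symm
    · intro a ha c hc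
      obtain ⟨i, rfl⟩ := hmem a ha
      obtain ⟨j, rfl⟩ := hmem c hc
      exact (Commute.refl _).zpow_zpow i j
    · rw [Subgroup.orderOf_coe]; exact hs
    · intro y hy
      obtain ⟨j, rfl⟩ := hmem y hy
      rw [← conj_zpow, ← inv_zpow]
      exact congrArg (· ^ j) (congrArg (fun z : B.N => (z : Lx P.g)) hinv)
    · exact hbs.map B.N.subtype
    · exact congrArg (fun z : B.N => (z : Lx P.g)) hb
    · intro y hy
      obtain ⟨j, rfl⟩ := hmem y hy
      rw [← conj_zpow, ← zpow_natCast, ← zpow_mul, mul_comm, zpow_mul, zpow_natCast]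
      exact congrArg (· ^ j) (congrArg (fun z : B.N => (z : Lx P.g)) hact)
  · have h3q : 3 ∣ Fintype.card Φ.F := by
      rw [← hqp, hq3, ← pow_mul]
      exact dvd_pow_self 3 (Nat.mul_ne_zero (by omega) (pow_ne_zero _ P.hl.ne_zero))
    by_contra hne
    have hl3 : P.l ≠ 3 := fun e => hne ⟨e, h3q⟩
    have hq2 : B.q ≤ B.q ^ 2 := Nat.le_self_pow two_ne_zero _
    have hq1 : 2 ≤ B.q := hq3 ▸ le_trans (by norm_num) (Nat.pow_le_pow_right (show 0 < 3 by norm_num)
      (show 1 ≤ 2 * m + 1 by omega))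
    have hI' : I = B.q ^ 2 * (B.q ^ 2 - B.q + 1) := by
      refine Nat.eq_of_mul_eq_mul_right (m := B.q * ((B.q - 1) * (B.q + 1)))
        (Nat.mul_pos (by omega) (Nat.mul_pos (by omega) (by omega))) ?_
      rw [hI, hN]
      zify [hq2, (show 1 ≤ B.q by omega)]
      ring
    rw [hI'] at hdI
    have hlq : ¬ P.l ∣ B.q := fun hd => hl3 ((Nat.prime_dvd_prime_iff_eq P.hl Nat.prime_three).1
      (P.hl.dvd_of_dvd_pow (hq3 ▸ hd)))
    have hd : P.l ∣ B.q ^ 2 - B.q + 1 :=
      (P.hl.dvd_mul.1 hdI).resolve_left fun h' => hlq (P.hl.dvd_of_dvd_pow h')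
    have hz : (B.q : ZMod P.l) ^ 2 - B.q + 1 = 0 := by
      have := (ZMod.natCast_eq_zero_iff _ _).2 hd
      push_cast [Nat.cast_sub hq2] at this
      exact this
    have h3z : (3 : ZMod P.l) ≠ 0 := fun e => hl3 ((Nat.prime_dvd_prime_iff_eq P.hl Nat.prime_three).1
      ((ZMod.natCast_eq_zero_iff 3 _).1 (by exact_mod_cast e)))
    have hK : ¬ P.l ∣ Nat.card Φ.K := by
      refine P.not_dvd_K hqp hlq ?_ ?_
      · intro h'
        have h'' := (ZMod.natCast_eq_zero_iff _ _).2 h'
        rw [Nat.cast_sub (by omega), Nat.cast_one, sub_eq_zero] at h''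
        rw [h''] at hz
        simp at hz
      · intro h'
        have h'' := (ZMod.natCast_eq_zero_iff _ _).2 h'
        push_cast at h''
        rw [eq_neg_of_add_eq_zero_left h''] at hz
        exact h3z (by linear_combination hz)
    have hl5 : 5 ≤ P.l := by
      have := P.hl.two_le
      have := P.hl2
      rcases (show P.l = 4 ∨ 5 ≤ P.l by omega) with e | e
      · exact absurd P.hl (by rw [e]; norm_num)
      · exact e
    obtain ⟨S⟩ : Nonempty (Sylow P.l B.N) := inferInstance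
    obtain ⟨hc, -, -, -, -, s, b, hs, hb, hbs, hinv, hact⟩ :=
      ReeType.scalarStmt B.N B.q _ _ T P.l P.hl hl5 hd S
    have hlN : P.l ∣ Nat.card B.N := hI ▸ (hI'.symm ▸ hdI : P.l ∣ I).mul_right _
    refine P.false_of_scalar h hsec hK (S := (S : Subgroup B.N).map B.N.subtype) (s := (s : Lx P.g))
      (b := (b : Lx P.g)) (p := 3) (w := B.q ^ 2) (S.2.map _) (P.not_dvd_index_map B S.not_dvd_index) ?_ ?_ ?_ ?_
      ?_ Nat.prime_three (Ne.symm hl3) ?_ ?_ ?_
    · intro e
      rw [map_eq_bot_iff_of_injective _ B.N.subtype_injective] at e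
      have := S.dvd_card_of_dvd_card hlN
      rw [e, Subgroup.card_bot, Nat.dvd_one] at this
      exact P.hl.ne_one this
    · rintro _ ⟨a, ha, rfl⟩ _ ⟨c, hc', rfl⟩
      exact (hc a ha c hc').map B.N.subtype
    · rw [Subgroup.orderOf_coe]; exact hs
    · rintro _ ⟨a, ha, rfl⟩
      exact congrArg (fun z : B.N => (z : Lx P.g))
        (hinv a (mem_centralizer_iff.2 fun z hz' => (hc z hz' a ha).eq))
    · exact hbs.map B.N.subtype
    · exact congrArg (fun z : B.N => (z : Lx P.g)) (hb ▸ pow_orderOf_eq_one b)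
    · rintro _ ⟨a, ha, rfl⟩
      exact congrArg (fun z : B.N => (z : Lx P.g)) (hact a ha)
    · intro e
      have h4 : ((B.q : ZMod P.l) ^ 2) ^ 2 = 1 := by
        rw [← Nat.cast_pow, ← Nat.cast_pow, ← ZMod.natCast_mod, e, Nat.cast_one]
      have h5 : (B.q : ZMod P.l) = -1 := by linear_combination ((B.q : ZMod P.l) ^ 2 + B.q) * hz - h4
      rw [h5] at hz
      exact h3z (by linear_combination hz)

end Part

end CfsgLib.Walter.Outer
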