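import Cfsg.Agent.Lib.CFun.OddLinearTwo

/-!
# A reflection with a homology in its centralizer normalises no odd `l'`-group non-trivially
-/

set_option autoImplicit false

namespace CfsgLib.Walter.Outer

open Module

universe u v

variable {K : Type v} [Field K] {V : Type u} [AddCommGroup V] [Module K V]

/-- The projection on the fixed space of an involution. -/
noncomputable def fixProj (τ : End K V) : End K V := (2 : K)⁻¹ • (1 + τ)

theorem fixProj_idem {τ : End K V} (h2 : (2 : K) ≠ 0) (hτ : τ * τ = 1) :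
    fixProj τ * fixProj τ = fixProj τ := by
  have e : (1 + τ) * (1 + τ) = (2 : K) • (1 + τ) := by
    rw [mul_add, add_mul, add_mul, one_mul, mul_one, one_mul, hτ, two_smul]; abel
  rw [fixProj, smul_mul_smul_comm, e, smul_smul]
  congr 1
  field_simp

theorem eq_two_fixProj (τ : End K V) (h2 : (2 : K) ≠ 0) : τ = (2 : K) • fixProj τ - 1 := by
  rw [fixProj, smul_smul, mul_inv_cancel₀ h2, one_smul, add_sub_cancel_left]

theorem one_add_pow {D : End K V} (hD : D * D = 0) (c : K) :
    ∀ m : ℕ, (1 + c • D) ^ m = 1 + ((m : K) * c) • D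
  | 0 => by simp
  | m + 1 => by
    rw [pow_succ, one_add_pow hD c m]
    simp only [mul_add, add_mul, one_mul, mul_one, smul_mul_assoc, mul_smul_comm, hD, smul_zero, add_zero]
    push_cast
    rw [add_mul (m : K) 1 c, add_smul, one_mul]
    abel

section

variable {H : Type u} [Group H] [Finite H]

/-- The elements leaving a submodule invariant. -/
def stab (ρ : H →* End K V) (W : Submodule K V) : Subgroup H where
  carrier := {h | ∀ x ∈ W, ρ h x ∈ W}
  one_mem' := fun x hx => by rw [map_one]; exact hx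
  mul_mem' {a b} ha hb := fun x hx => by rw [map_mul]; exact ha _ (hb x hx)
  inv_mem' {a} ha := fun x hx => by
    have e : a⁻¹ = a ^ (Nat.card H - 1) := by
      refine inv_eq_of_mul_eq_one_right ?_
      rw [← pow_succ', Nat.sub_add_cancel Nat.card_pos, pow_card_eq_one']
    have key : ∀ n : ℕ, ρ (a ^ n) x ∈ W := by
      intro n
      induction n with
      | zero => rw [pow_zero, map_one]; exact hx
      | succ n ih => rw [pow_succ', map_mul]; exact ha _ ih
    rw [e]; exact key _

/-- In an odd group of order prime to `char K` elements stabilising a plane commute on it. -/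
theorem commute_on_plane [Group.IsSolvable H] (hodd : Odd (Nat.card H)) (hm : (Nat.card H : K) ≠ 0)
    (h2 : (2 : K) ≠ 0) (ρ : H →* End K V) {e e' : V} (hli : LinearIndependent K ![e, e']) {g h : H}
    (hg : g ∈ stab ρ (Submodule.span K (Set.range ![e, e'])))
    (hh : h ∈ stab ρ (Submodule.span K (Set.range ![e, e']))) : ρ g (ρ h e) = ρ h (ρ g e) := by
  set W := Submodule.span K (Set.range ![e, e'])
  set b : Basis (Fin 2) K W := Basis.span hli
  let R0 : ↥(stab ρ W) →* End K ↥W :=
    { toFun := fun x => (ρ x.1).restrict x.2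
      map_one' := LinearMap.ext fun x => Subtype.ext (by simp [LinearMap.restrict_apply])
      map_mul' := fun x y => LinearMap.ext fun z => Subtype.ext (by
        show ρ (↑(x * y)) z.1 = ρ x.1 (ρ y.1 z.1)
        rw [Subgroup.coe_mul, map_mul]; rfl) }
  let R : ↥(stab ρ W) →* Matrix (Fin 2) (Fin 2) K :=
    (LinearMap.toMatrixAlgEquiv b).toAlgHom.toRingHom.toMonoidHom.comp R0
  let U : ↥(stab ρ W) →* (Matrix (Fin 2) (Fin 2) K)ˣ := R.toHomUnits
  haveI : Group.IsSolvable ↥(stab ρ W) := inferInstance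
  haveI : Finite ↥U.range := Finite.of_surjective _ U.rangeRestrict_surjective
  haveI : Group.IsSolvable U.range := Group.isSolvable_of_surjective U.rangeRestrict_surjective
  have hdvd : Nat.card U.range ∣ Nat.card H :=
    (Subgroup.card_range_dvd U).trans (Subgroup.card_subgroup_dvd_card _)
  have hc := CfsgLib.CFun.commutator_eq_bot_of_rep_two (H := ↥U.range) (hodd.of_dvd_nat hdvd)
    (fun h0 => hm (by obtain ⟨c, hc⟩ := hdvd; rw [hc, Nat.cast_mul, h0, zero_mul])) h2
    ((Units.coeHom _).comp U.range.subtype) (Units.val_injective.comp Subtype.val_injective)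
  have hcomm : R ⟨g, hg⟩ * R ⟨h, hh⟩ = R ⟨h, hh⟩ * R ⟨g, hg⟩ := by
    have h1 := Subgroup.commutator_mem_commutator (Subgroup.mem_top (⟨U ⟨g, hg⟩, ⟨_, rfl⟩⟩ : U.range))
      (Subgroup.mem_top (⟨U ⟨h, hh⟩, ⟨_, rfl⟩⟩ : U.range))
    rw [← commutator_def, hc, Subgroup.mem_bot] at h1
    have := commutatorElement_eq_one_iff_mul_comm.1 h1
    exact congrArg Units.val (congrArg Subtype.val this)
  rw [← map_mul, ← map_mul] at hcomm
  have h' := (LinearMap.toMatrixAlgEquiv b).injective hcomm
  have := congrArg (fun L : End K ↥W => ((L ⟨e, Submodule.subset_span ⟨0, rfl⟩⟩ : ↥W) : V)) h'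
  simpa [R0, LinearMap.restrict_apply] using this

/-- The rigidity statement. -/
theorem rigid [Group.IsSolvable H] (hodd : Odd (Nat.card H)) (hm : (Nat.card H : K) ≠ 0)
    (h2 : (2 : K) ≠ 0) (ρ : H →* End K V) (τ : End K V) (hτ : τ * τ = 1) {e₀ : V}
    (hrank : ∀ x, fixProj τ x ∈ Submodule.span K {e₀}) {w : K} (hw : w ≠ 1) (n₀ : H)
    (hn : ρ n₀ = w • 1 + (1 - w) • fixProj τ) (f a₀ : H) (ha : ρ a₀ = ρ f * τ * ρ f⁻¹ * τ) :
    ρ a₀ = 1 := by
  set P := fixProj τ with hPdef
  set P' := ρ f * P * ρ f⁻¹ with hP'def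
  have hff : ρ f⁻¹ * ρ f = 1 := by rw [← map_mul, inv_mul_cancel, map_one]
  have hff' : ρ f * ρ f⁻¹ = 1 := by rw [← map_mul, mul_inv_cancel, map_one]
  have hPP : P * P = P := fixProj_idem h2 hτ
  have hPP' : P' * P' = P' := by
    calc P' * P' = ρ f * (P * (ρ f⁻¹ * ρ f) * P) * ρ f⁻¹ := by simp only [hP'def, mul_assoc]
      _ = P' := by rw [hff, mul_one, hPP]
  have hA : ρ a₀ = ((2 : K) • P' - 1) * ((2 : K) • P - 1) := by
    rw [ha]
    conv_lhs => rw [eq_two_fixProj τ h2]
    congr 1
    simp only [mul_sub, sub_mul, mul_smul_comm, smul_mul_assoc, hP'def, hPdef, mul_one, hff']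
  have hpow : ρ a₀ ^ Nat.card H = 1 := by rw [← map_pow, pow_card_eq_one', map_one]
  by_cases hP0 : ∀ x, P x = 0
  · have h0 : P = 0 := LinearMap.ext hP0
    rw [hA, hP'def, h0, mul_zero, zero_mul, smul_zero, zero_sub, neg_mul_neg, one_mul]
  push Not at hP0
  obtain ⟨x₀, hx₀⟩ := hP0
  set e := P x₀ with hedef
  have hPe : P e = e := LinearMap.congr_fun hPP x₀
  have hspan : ∀ x, ∃ c : K, P x = c • e := fun x => by
    obtain ⟨a, ha⟩ := Submodule.mem_span_singleton.1 (hrank x)
    obtain ⟨b, hb⟩ := Submodule.mem_span_singleton.1 (hrank x₀)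
    have hb0 : b ≠ 0 := fun h0 => hx₀ (by rw [hedef, ← hb, h0, zero_smul])
    exact ⟨a / b, by rw [hedef, ← hb, smul_smul, div_mul_cancel₀ a hb0, ha]⟩
  set e' := ρ f e with he'def
  have hinv : ρ f⁻¹ e' = e := LinearMap.congr_fun hff e
  have hP'e' : P' e' = e' := by
    show ρ f (P (ρ f⁻¹ e')) = e'
    rw [hinv, hPe]
  have hspan' : ∀ x, ∃ c : K, P' x = c • e' := fun x => by
    obtain ⟨c, hc⟩ := hspan (ρ f⁻¹ x)
    exact ⟨c, by show ρ f (P (ρ f⁻¹ x)) = _; rw [hc, map_smul]⟩
  by_cases hdep : ∃ c : K, e' = c • e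
  · obtain ⟨c, hc⟩ := hdep
    have hc0 : c ≠ 0 := fun h0 => hx₀ (by
      show e = 0
      rw [← hinv, hc, h0, zero_smul, map_zero])
    have hee : e = c⁻¹ • e' := by rw [hc, smul_smul, inv_mul_cancel₀ hc0, one_smul]
    have hP'P : P' * P = P := LinearMap.ext fun x => by
      obtain ⟨d, hd⟩ := hspan x
      show P' (P x) = P x
      rw [hd, hee, map_smul, map_smul, hP'e']
    have hPP'2 : P * P' = P' := LinearMap.ext fun x => by
      obtain ⟨d, hd⟩ := hspan' x
      show P (P' x) = P' x
      rw [hd, hc, map_smul, map_smul, hPe]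
    have hD : (P - P') * (P - P') = 0 := by
      rw [sub_mul, mul_sub, mul_sub, hPP, hPP', hP'P, hPP'2]; abel
    have hA' : ρ a₀ = 1 + (2 : K) • (P - P') := by
      rw [hA]
      simp only [sub_mul, mul_sub, smul_mul_smul_comm, hP'P, one_mul, mul_one, smul_sub]
      module
    rw [hA', one_add_pow hD, add_eq_left, smul_eq_zero] at hpow
    rcases hpow with h | h
    · exact absurd h (mul_ne_zero hm h2)
    · rw [hA', h, smul_zero, add_zero]
  push Not at hdep
  exfalso
  have hli : LinearIndependent K ![e, e'] := by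
    rw [LinearIndependent.pair_iff' hx₀]
    exact fun a h => hdep a h.symm
  obtain ⟨α, hα⟩ := hspan e'
  obtain ⟨β, hβ⟩ := hspan' e
  set n₁ := f * n₀ * f⁻¹ with hn₁
  have hn' : ρ n₁ = w • 1 + (1 - w) • P' := by
    rw [hn₁, map_mul, map_mul, hn, mul_add, add_mul, mul_smul_comm, mul_smul_comm, smul_mul_assoc,
      smul_mul_assoc, mul_one, hff']
  set W := Submodule.span K (Set.range ![e, e'])
  have he : e ∈ W := Submodule.subset_span ⟨0, rfl⟩
  have he' : e' ∈ W := Submodule.subset_span ⟨1, rfl⟩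
  have hmem : ∀ (Q : End K V) (c : V), c ∈ W → (∀ x, ∃ d : K, Q x = d • c) → ∀ h : H,
      ρ h = w • 1 + (1 - w) • Q → h ∈ stab ρ W := by
    intro Q c hc hQ h hh x hx
    obtain ⟨d, hd⟩ := hQ x
    rw [hh]
    simp only [LinearMap.add_apply, LinearMap.smul_apply, End.one_apply, hd]
    exact add_mem (W.smul_mem _ hx) (W.smul_mem _ (W.smul_mem _ hc))
  have hc := commute_on_plane hodd hm h2 ρ hli (hmem P e he hspan n₀ hn) (hmem P' e' he' hspan' n₁ hn')
  rw [hn, hn'] at hc
  simp only [LinearMap.add_apply, LinearMap.smul_apply, End.one_apply, map_add, map_smul, hPe, hβ, hP'e',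
    hα] at hc
  have hβ0 : β = 0 := by
    by_contra hb
    have h' : ((1 - w) * β * ((1 - w) * α)) • e + (((1 - w) * β) * w - (1 - w) * β) • e' = 0 := by
      linear_combination (norm := module) hc
    obtain ⟨-, h2'⟩ := LinearIndependent.pair_iff.1 hli _ _ h'
    rw [show (1 - w) * β * w - (1 - w) * β = -((1 - w) * (1 - w) * β) by ring, neg_eq_zero] at h2'
    rcases mul_eq_zero.1 h2' with h | h
    · exact hw (sub_eq_zero.1 (mul_self_eq_zero.1 h)).symm
    · exact hb h
  have hae : ρ a₀ e = (-1 : K) • e := by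
    rw [hA]
    simp only [End.mul_apply, LinearMap.sub_apply, LinearMap.smul_apply, End.one_apply, hPe, hβ, hβ0,
      map_sub, map_smul, zero_smul, smul_zero]
    module
  have hiter : ∀ m : ℕ, (ρ a₀ ^ m) e = ((-1 : K) ^ m) • e := by
    intro m
    induction m with
    | zero => simp
    | succ m ih => rw [pow_succ, End.mul_apply, hae, map_smul, ih, smul_smul, ← pow_succ']
  have h1 := hiter (Nat.card H)
  rw [hpow, hodd.neg_one_pow, End.one_apply] at h1
  have h3 : (2 : K) • e = 0 := by linear_combination (norm := module) h1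
  rcases smul_eq_zero.1 h3 with h | h
  · exact h2 h
  · exact hx₀ h

end

end CfsgLib.Walter.Outer
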