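import Cfsg.Agent.Lib.Walter.Outer.Weights
import Cfsg.Agent.Lib.Walter.Outer.Rigid
import Cfsg.Agent.Lib.Coprime.Solvable
import Cfsg.Agent.Lib.Coprime.PGroupFrattini
import Cfsg.Agent.Lib.PGroup.SchmidtKernel.Reduced

/-!
# An odd group with an involutory automorphism maps onto the `l`-part of the centralizer

`Y` has odd order, `τ` is an involutory automorphism, the `τ`-fixed elements of a Sylow `l`-subgroup `R`
are the powers of `g`, and an element `n` fixed by `τ` and commuting with `g` acts with weight `w` on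
the inverted elements of `R` commuting with `g`. Then a homomorphism of the centralizer of `τ` into an
abelian `l`-group extends to `Y`.
-/

set_option autoImplicit false
set_option linter.style.haveILetI false

namespace CfsgLib.Walter.Outer

open Subgroup

universe u v

variable {Y : Type u} [Group Y]

/-- The fixed subgroup. -/
def fixed (τ : MulAut Y) : Subgroup Y := MonoidHom.eqLocus τ.toMonoidHom (MonoidHom.id Y)

theorem mem_fixed {τ : MulAut Y} {y : Y} : y ∈ fixed τ ↔ τ y = y := Iff.rfl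

/-- An automorphism of an abelian group of exponent `l` as a linear map. -/
def linHom (l : ℕ) (B : Type*) [CommGroup B] [Module (ZMod l) (Additive B)] :
    MulAut B →* Module.End (ZMod l) (Additive B) where
  toFun f := AddMonoidHom.toZModLinearMap l (MonoidHom.toAdditive f.toMonoidHom)
  map_one' := LinearMap.ext fun _ => rfl
  map_mul' f g := LinearMap.ext fun _ => rfl

/-- The hypotheses. -/
structure CoreHyp (Y : Type u) [Group Y] (l p w : ℕ) (τ : MulAut Y) (R : Subgroup Y) (g n : Y) : Prop where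
  odd : Odd (Nat.card Y)
  solvable : Group.IsSolvable Y
  hl : l.Prime
  hl2 : l ≠ 2
  hp : p.Prime
  hpl : p ≠ l
  invol : ∀ x, τ (τ x) = x
  sylow : ∃ P : Sylow l Y, (P : Subgroup Y) = R
  stable : ∀ r ∈ R, τ r ∈ R
  g_mem : g ∈ R
  g_fix : τ g = g
  n_fix : τ n = n
  order_n : ∃ i, n ^ p ^ i = 1
  comm : Commute g n
  fix : ∀ r ∈ R, τ r = r → r ∈ zpowers g
  base : ∀ r ∈ R, Commute g r → τ r = r⁻¹ → n * r * n⁻¹ = r ^ w
  weight : ∀ r ∈ R, r ^ w ^ p = r
  weight_sq : ¬ (w ^ 2) % l = 1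

variable [Finite Y] {l p w : ℕ} {τ : MulAut Y} {R : Subgroup Y} {g n : Y}

/-- The case of a trivial `l'`-core. -/
theorem exists_extension_of_core (h : CoreHyp Y l p w τ R g n) (hO : Cfsg.pPrimeCore l Y = ⊥)
    {A : Type v} [CommGroup A] (ψ : ↥(fixed τ) →* A) :
    ∃ χ : Y →* A, (∀ y, χ (τ y) = χ y) ∧ ∀ c : ↥(fixed τ), χ c = ψ c := by
  classical
  haveI : Fact l.Prime := ⟨h.hl⟩
  haveI := h.solvable
  set Q := Cfsg.pCore l Y with hQdef
  haveI hQn : Q.Normal := CfsgLib.Coprime.pCore_normal' (G := Y) l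
  have hQp : IsPGroup l Q := CfsgLib.Coprime.pCore_isPGroup l
  have hQR : Q ≤ R := by
    obtain ⟨P, hP⟩ := h.sylow
    exact hP ▸ CfsgLib.Coprime.pCore_le_sylow P
  have hCQ : centralizer (Q : Set Y) ≤ Q := CfsgLib.Coprime.centralizer_pCore_le hO
  have hQτ : ∀ q ∈ Q, τ q ∈ Q := fun q hq =>
    (CfsgLib.Coprime.map_pCore_equiv τ l).le ⟨q, hq, rfl⟩
  -- the automorphisms of `Q`
  let τQ : MulAut Q :=
    { toFun := fun q => ⟨τ q, hQτ q q.2⟩
      invFun := fun q => ⟨τ q, hQτ q q.2⟩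
      left_inv := fun q => Subtype.ext (h.invol q)
      right_inv := fun q => Subtype.ext (h.invol q)
      map_mul' := fun a b => Subtype.ext (map_mul τ (a : Y) b) }
  have hpowσ : ∀ (a : Y) (m : ℕ), a ^ m = 1 → (MulAut.conjNormal a : MulAut Q) ^ m = 1 := fun a m hm => by
    rw [← map_pow, hm, map_one]
  have hfixQ : ∀ q ∈ Q, τ q = q → Commute n q := fun q hq he => by
    obtain ⟨k, hk⟩ := mem_zpowers_iff.1 (h.fix q (hQR hq) he)
    exact hk ▸ h.comm.symm.zpow_right k
  have hA : Acts l p τQ (MulAut.conjNormal n : MulAut Q) w :=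
    { isP := hQp
      hl := h.hl
      hl2 := h.hl2
      hp := h.hp
      hpl := h.hpl
      invol := fun q => Subtype.ext (h.invol q)
      comm := fun q => Subtype.ext (by
        show n * τ (q : Y) * n⁻¹ = τ (n * q * n⁻¹)
        rw [map_mul, map_mul, map_inv, h.n_fix])
      order := h.order_n.imp fun i hi => hpowσ _ _ hi
      weight := fun q => Subtype.ext (h.weight q (hQR q.2))
      weight_sq := h.weight_sq
      fix := fun q hq => Subtype.ext (by
        show n * (q : Y) * n⁻¹ = q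
        rw [(hfixQ q q.2 (congrArg Subtype.val hq)).eq, mul_inv_cancel_right]) }
  have hRp : IsPGroup l R := by
    obtain ⟨P, hP⟩ := h.sylow
    exact hP ▸ P.2
  have hW : ∀ q : Q, τQ q = q⁻¹ → WEl τQ (MulAut.conjNormal n : MulAut Q) w q := by
    intro q hq
    refine wEl_of_fixed hA (MulAut.conjNormal g : MulAut Q) ?_ ?_ ?_ ?_ hq
    · exact fun x => Subtype.ext (by
        show g * τ (x : Y) * g⁻¹ = τ (g * x * g⁻¹)
        rw [map_mul, map_mul, map_inv, h.g_fix])
    · exact fun x => Subtype.ext (by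
        show g * (n * x * n⁻¹) * g⁻¹ = n * (g * x * g⁻¹) * n⁻¹
        rw [show g * (n * x * n⁻¹) * g⁻¹ = (g * n) * x * (g * n)⁻¹ by group, h.comm.eq]; group)
    · obtain ⟨j, hj⟩ := hRp ⟨g, h.g_mem⟩
      exact ⟨j, hpowσ _ _ (congrArg Subtype.val hj)⟩
    · intro a ha hia
      refine Subtype.ext ?_
      have hga : g * (a : Y) * g⁻¹ = a := congrArg Subtype.val ha
      exact h.base a (hQR a.2) (mul_inv_eq_iff_eq_mul.1 hga) (congrArg Subtype.val hia)
  -- the Frattini quotient as a module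
  set Φ := frattini Q with hΦ
  have hcomm : ∀ a b : Q ⧸ Φ, a * b = b * a := by
    intro a b
    obtain ⟨a, rfl⟩ := QuotientGroup.mk'_surjective Φ a
    obtain ⟨b, rfl⟩ := QuotientGroup.mk'_surjective Φ b
    rw [← commutatorElement_eq_one_iff_mul_comm, ← map_commutatorElement]
    exact (QuotientGroup.eq_one_iff _).2 (CfsgLib.Coprime.commutator_le_frattini hQp
      (commutator_mem_commutator (mem_top a) (mem_top b)))
  letI : CommGroup (Q ⧸ Φ) := { (inferInstance : Group (Q ⧸ Φ)) with mul_comm := hcomm }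
  haveI : Fact (1 < l) := ⟨h.hl.one_lt⟩
  haveI : Module (ZMod l) (Additive (Q ⧸ Φ)) := AddCommGroup.zmodModule fun x => by
    show Additive.ofMul ((Additive.toMul x) ^ l) = 0
    induction Additive.toMul x using QuotientGroup.induction_on with
    | H q =>
      rw [← QuotientGroup.mk_pow, (QuotientGroup.eq_one_iff _).2 (CfsgLib.Coprime.pow_mem_frattini hQp q)]
      rfl
  let lin := linHom l (↥Q ⧸ Φ)
  let fA : Y →* MulAut (↥Q ⧸ Φ) := CfsgLib.SchmidtKernel.frattiniAct Q
  let ρ := MonoidHom.comp lin fA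
  let mk : Q → (Additive (Q ⧸ Φ)) := fun q => Additive.ofMul (QuotientGroup.mk q)
  let τU :=
    lin (QuotientGroup.congr Φ Φ τQ (Subgroup.characteristic_iff_map_eq.1 inferInstance τQ))
  have hmk : ∀ u : (Additive (Q ⧸ Φ)), ∃ q, mk q = u := fun u => QuotientGroup.mk_surjective (Additive.toMul u)
  have hρmk : ∀ (y : Y) (q : Q), ρ y (mk q) = mk (MulAut.conjNormal y q) := fun y q => rfl
  have hτmk : ∀ q : Q, τU (mk q) = mk (τQ q) := fun q => rfl
  have hmkmul : ∀ a b : Q, mk (a * b) = mk a + mk b := fun a b => rfl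
  have hmkinv : ∀ a : Q, mk a⁻¹ = -mk a := fun a => rfl
  have hmkpow : ∀ (a : Q) (m : ℕ), mk (a ^ m) = (m : ZMod l) • mk a := fun a m => by
    rw [Nat.cast_smul_eq_nsmul]; rfl
  have hττ : τU * τU = 1 := by
    refine LinearMap.ext fun u => ?_
    obtain ⟨q, rfl⟩ := hmk u
    show τU (τU (mk q)) = mk q
    rw [hτmk, hτmk, hA.invol]
  have h2 : (2 : ZMod l) ≠ 0 := fun e => by
    have e' : ((2 : ℕ) : ZMod l) = 0 := by exact_mod_cast e
    exact h.hl2 ((Nat.prime_dvd_prime_iff_eq h.hl Nat.prime_two).1 ((ZMod.natCast_eq_zero_iff _ _).1 e'))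
  have hP : ∀ c i : Q, τQ c = c → τQ i = i⁻¹ → fixProj τU (mk (c * i)) = mk c := by
    intro c i hc hi
    rw [fixProj, LinearMap.smul_apply, LinearMap.add_apply, Module.End.one_apply, hτmk, map_mul, hc, hi,
      hmkmul, hmkmul, hmkinv, show mk c + mk i + (mk c + -mk i) = (2 : ZMod l) • mk c by rw [two_smul]; abel,
      smul_smul, inv_mul_cancel₀ h2, one_smul]
  -- the fixed elements of `Q` are cyclic
  haveI : IsCyclic ↥(Q ⊓ zpowers g) := Subgroup.isCyclic_of_le inf_le_right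
  obtain ⟨⟨c₀, hc₀⟩, hgen⟩ := IsCyclic.exists_generator (α := ↥(Q ⊓ zpowers g))
  set e₀ := mk ⟨c₀, hc₀.1⟩
  have hrank : ∀ u, fixProj τU u ∈ Submodule.span (ZMod l) {e₀} := by
    intro u
    obtain ⟨q, rfl⟩ := hmk u
    obtain ⟨c, i, rfl, hc, hi, -⟩ := exists_fixed_mul_inverted hA.odd hA.invol q
    rw [hP c i hc hi]
    obtain ⟨m, hm⟩ := mem_zpowers_iff.1 (hgen ⟨c, c.2, h.fix c (hQR c.2) (congrArg Subtype.val hc)⟩)
    have hcm : c = (⟨c₀, hc₀.1⟩ : Q) ^ m := Subtype.ext (by
      simpa using (congrArg Subtype.val hm).symm)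
    have hz : mk ((⟨c₀, hc₀.1⟩ : Q) ^ m) = m • e₀ := rfl
    rw [hcm, hz, ← Int.cast_smul_eq_zsmul (ZMod l)]
    exact Submodule.smul_mem _ _ (Submodule.mem_span_singleton_self _)
  set w' : ZMod l := (w : ZMod l) with hw'
  have hw1 : w' ≠ 1 := by
    intro e
    refine h.weight_sq ?_
    have e2 : ((w ^ 2 : ℕ) : ZMod l) = ((1 : ℕ) : ZMod l) := by
      push_cast; rw [← hw', e, one_pow]
    have := (ZMod.natCast_eq_natCast_iff' _ _ _).1 e2
    rwa [Nat.one_mod_eq_one.2 h.hl.ne_one] at this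
  have hρn : ρ n = w' • 1 + (1 - w') • fixProj τU := by
    refine LinearMap.ext fun u => ?_
    obtain ⟨q, rfl⟩ := hmk u
    obtain ⟨c, i, rfl, hc, hi, -⟩ := exists_fixed_mul_inverted hA.odd hA.invol q
    rw [LinearMap.add_apply, LinearMap.smul_apply, LinearMap.smul_apply, Module.End.one_apply,
      hP c i hc hi, hρmk, map_mul, hA.fix c hc, (hW i hi).2, hmkmul, hmkmul, hmkpow, ← hw']
    module
  -- the kernel of the action
  have hker : ∀ y, ρ y = 1 → y ∈ Q := by
    let ker : Subgroup Y := (ρ.toHomUnits).ker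
    have hmemker : ∀ y, y ∈ ker ↔ ρ y = 1 := fun y => by
      rw [MonoidHom.mem_ker, Units.ext_iff]; rfl
    haveI : ker.Normal := MonoidHom.normal_ker _
    have hkerQ : ker ≤ Q := by
      refine le_sSup ⟨inferInstance, CfsgLib.Invol.isPGroup_of_coprime_trivial _ fun y hy hc => ?_⟩
      refine CfsgLib.Invol.eq_one_of_coprime_of_isPGroup hQp (hCQ ?_) hc
      have hAy : zpowers y ≤ centralizer (Q : Set Y) := by
        refine CfsgLib.Coprime.le_centralizer_of_trivial_on_frattini_quotient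
          (by rw [normalizer_eq_top]; exact le_top) ?_ fun a ha k hk => ?_
        · obtain ⟨m, hm⟩ := IsPGroup.iff_card.1 (hQp.to_subgroup (frattini Q))
          rw [Nat.card_zpowers, hm]
          exact Nat.Coprime.pow_right m hc
        · have h1 : mk (MulAut.conjNormal a ⟨k, hk⟩) = mk ⟨k, hk⟩ := by
            rw [← hρmk, (hmemker a).1 ((zpowers_le.2 hy : zpowers y ≤ ker) ha)]; rfl
          have h2 : MulAut.conjNormal a (⟨k, hk⟩ : Q) * (⟨k, hk⟩ : Q)⁻¹ ∈ Φ := by
            rw [← QuotientGroup.eq_one_iff, QuotientGroup.mk_mul, QuotientGroup.mk_inv,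
              show QuotientGroup.mk (MulAut.conjNormal a (⟨k, hk⟩ : Q)) = QuotientGroup.mk (⟨k, hk⟩ : Q)
                from congrArg Additive.toMul h1, mul_inv_cancel]
          exact ⟨_, h2, by simp⟩
      exact hAy (mem_zpowers y)
    exact fun y hy => hkerQ ((hmemker y).2 hy)
  have hρQ : Q ≤ ρ.ker := by
    intro q hq
    rw [MonoidHom.mem_ker]
    refine LinearMap.ext fun u => ?_
    obtain ⟨x, rfl⟩ := hmk u
    rw [hρmk]
    show mk (MulAut.conjNormal ((⟨q, hq⟩ : Q) : Y) x) = mk x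
    rw [show MulAut.conjNormal ((⟨q, hq⟩ : Q) : Y) x = ⟨q, hq⟩ * x * (⟨q, hq⟩ : Q)⁻¹ from Subtype.ext rfl,
      hmkmul, hmkmul, hmkinv]
    abel
  -- the quotient by `Q`
  let V := Y ⧸ Q
  have hτQV : Q.map τ.toMonoidHom = Q := CfsgLib.Coprime.map_pCore_equiv τ l
  let τV : MulAut V := QuotientGroup.congr Q Q τ hτQV
  let ρV := QuotientGroup.lift Q ρ hρQ
  haveI : Group.IsSolvable V := Group.isSolvable_of_surjective (QuotientGroup.mk'_surjective Q)
  have hVodd : Odd (Nat.card V) := h.odd.of_dvd_nat (card_quotient_dvd_card Q)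
  set F := Cfsg.fittingSubgroup V with hF
  haveI : F.Normal := CfsgLib.Coprime.fitting_normal
  haveI := CfsgLib.Coprime.fitting_isNilpotent (G := V)
  have hcoreV : Cfsg.pCore l V = ⊥ := by
    haveI := CfsgLib.Coprime.pCore_normal' (G := V) l
    have h1 : (Cfsg.pCore l V).comap (QuotientGroup.mk' Q) ≤ Q :=
      CfsgLib.Coprime.le_pCore ((CfsgLib.Coprime.pCore_isPGroup l).comap_of_ker_isPGroup _
        (by rw [QuotientGroup.ker_mk']; exact hQp))
    rw [eq_bot_iff]
    intro x hx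
    obtain ⟨y, rfl⟩ := QuotientGroup.mk'_surjective Q x
    exact (QuotientGroup.eq_one_iff y).2 (h1 hx)
  have hlF : ¬ l ∣ Nat.card F := by
    intro hd
    obtain ⟨P⟩ : Nonempty (Sylow l F) := inferInstance
    haveI : (P : Subgroup F).Normal :=
      ((Group.isNilpotent_of_finite_tfae (G := F)).out 0 3 rfl rfl).mp inferInstance l ⟨h.hl⟩ P
    haveI := Sylow.characteristic_of_normal P inferInstance
    haveI := CfsgLib.Coprime.map_subtype_normal_of_characteristic F (P : Subgroup F)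
    have h1 : (P : Subgroup F).map F.subtype ≤ Cfsg.pCore l V :=
      CfsgLib.Coprime.le_pCore (P.2.map _)
    rw [hcoreV, le_bot_iff, map_eq_bot_iff_of_injective _ F.subtype_injective] at h1
    exact P.ne_bot_of_dvd_card hd h1
  set nb : V := QuotientGroup.mk n with hnb
  set H := zpowers nb ⊔ F with hH
  have hHodd : Odd (Nat.card H) := hVodd.of_dvd_nat (card_subgroup_dvd_card H)
  have hHl : (Nat.card H : ZMod l) ≠ 0 := by
    rw [Ne, ZMod.natCast_eq_zero_iff]
    intro hd
    rcases (h.hl.dvd_mul).1 (hd.trans (CfsgLib.Coprime.card_sup_dvd_of_normal _ F)) with h1 | h1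
    · obtain ⟨i, hi⟩ := h.order_n
      rw [Nat.card_zpowers] at h1
      have h3 : orderOf nb ∣ p ^ i := orderOf_dvd_of_pow_eq_one (by rw [hnb, ← QuotientGroup.mk_pow, hi]; rfl)
      exact h.hpl ((Nat.prime_dvd_prime_iff_eq h.hl h.hp).1 (h.hl.dvd_of_dvd_pow (h1.trans h3))).symm
    · exact hlF h1
  have hFτ : ∀ f ∈ F, τV f ∈ F := fun f hf => (CfsgLib.Coprime.map_fitting_equiv τV).le ⟨f, hf, rfl⟩
  have hfixF : ∀ f ∈ F, τV f = f := by
    intro f hf
    have ha : ρV.comp H.subtype ⟨f * (τV f)⁻¹, mul_mem (mem_sup_right hf) (inv_mem (mem_sup_right (hFτ f hf)))⟩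
        = 1 := by
      refine rigid (H := ↥H) hHodd hHl h2 (ρV.comp H.subtype) τU hττ hrank hw1
        ⟨nb, mem_sup_left (mem_zpowers _)⟩ hρn ⟨f, mem_sup_right hf⟩ _ ?_
      show ρV (f * (τV f)⁻¹) = ρV f * τU * ρV f⁻¹ * τU
      rw [map_mul, mul_assoc, mul_assoc, ← map_inv]
      congr 1
      obtain ⟨y, rfl⟩ := QuotientGroup.mk'_surjective Q f
      show ρ (τ y⁻¹) = τU * (ρ y⁻¹ * τU)
      refine LinearMap.ext fun u => ?_
      obtain ⟨q, rfl⟩ := hmk u
      show ρ (τ y⁻¹) (mk q) = τU (ρ y⁻¹ (τU (mk q)))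
      rw [hτmk, hρmk, hρmk, hτmk]
      refine congrArg mk (Subtype.ext ?_)
      show τ y⁻¹ * q * (τ y⁻¹)⁻¹ = τ (y⁻¹ * τ q * y⁻¹⁻¹)
      rw [map_mul, map_mul, h.invol, map_inv τ y⁻¹]
    obtain ⟨y, rfl⟩ := QuotientGroup.mk'_surjective Q f
    have h1 : ρ (y * (τ y)⁻¹) = 1 := ha
    have h2' := (QuotientGroup.eq_one_iff (N := Q) _).2 (hker _ h1)
    rw [QuotientGroup.mk_mul, QuotientGroup.mk_inv, mul_inv_eq_one] at h2'
    exact h2'.symm
  have hfixV : ∀ v : V, τV v = v := by
    intro v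
    set c := v⁻¹ * τV v with hc
    have hτ2 : ∀ x, τV (τV x) = x := fun x => by
      induction x using QuotientGroup.induction_on with
      | H y => exact congrArg QuotientGroup.mk (h.invol y)
    have hcF : c ∈ F := by
      refine CfsgLib.Coprime.centralizer_fitting_le (mem_centralizer_iff.2 fun f hf => ?_)
      have h1 := hfixF _ (‹F.Normal›.conj_mem f hf v)
      rw [map_mul, map_mul, map_inv, hfixF f hf] at h1
      calc f * c = v⁻¹ * (v * f * v⁻¹) * τV v := by rw [hc]; group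
        _ = c * f := by rw [← h1, hc]; group
    have hci : τV c = c⁻¹ := by rw [hc, map_mul, map_inv, hτ2, mul_inv_rev, inv_inv]
    have hc1 : c = 1 := eq_one_of_fixed_of_inverted hVodd (hfixF c hcF) hci
    exact (inv_mul_eq_one.1 hc1).symm
  -- inverted elements lie in `Q`
  let M : Subgroup Y := (wSub hA).map Q.subtype
  have hM : ∀ i : Y, τ i = i⁻¹ → i ∈ M := by
    intro i hi
    have hiQ : i ∈ Q := by
      rw [← QuotientGroup.eq_one_iff]
      refine eq_one_of_fixed_of_inverted hVodd (hfixV _) ?_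
      show ((τ i : Y) : V) = (i : V)⁻¹
      rw [hi]; rfl
    exact ⟨⟨i, hiQ⟩, hW _ (Subtype.ext hi), rfl⟩
  have hMinv : ∀ m ∈ M, τ m = m⁻¹ := by
    rintro _ ⟨m, hm, rfl⟩
    exact congrArg Subtype.val hm.1
  haveI hMn : M.Normal := by
    refine ⟨fun m hm y => ?_⟩
    obtain ⟨c, i, rfl, hc, hi, -⟩ := exists_fixed_mul_inverted h.odd h.invol y
    rw [show c * i * m * (c * i)⁻¹ = c * (i * m * i⁻¹) * c⁻¹ by group]
    have h1 := mul_mem (mul_mem (hM i hi) hm) (inv_mem (hM i hi))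
    refine hM _ ?_
    rw [map_mul, map_mul, map_inv, hc, hMinv _ h1]
    group
  let φ : ↥(fixed τ) →* Y ⧸ M := (QuotientGroup.mk' M).comp (fixed τ).subtype
  have hφ : Function.Bijective φ := by
    constructor
    · rw [injective_iff_map_eq_one]
      intro c hc
      exact Subtype.ext (eq_one_of_fixed_of_inverted h.odd c.2 (hMinv _ ((QuotientGroup.eq_one_iff _).1 hc)))
    · intro x
      obtain ⟨y, rfl⟩ := QuotientGroup.mk'_surjective M x
      obtain ⟨c, i, rfl, hc, hi, -⟩ := exists_fixed_mul_inverted h.odd h.invol y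
      refine ⟨⟨c, hc⟩, ?_⟩
      show QuotientGroup.mk' M c = QuotientGroup.mk' M (c * i)
      exact QuotientGroup.eq.2 (by simpa using hM i hi)
  let e := MulEquiv.ofBijective φ hφ
  refine ⟨(ψ.comp e.symm.toMonoidHom).comp (QuotientGroup.mk' M), fun y => ?_, fun c => ?_⟩
  · obtain ⟨c, i, rfl, hc, hi, -⟩ := exists_fixed_mul_inverted h.odd h.invol y
    have h1 : (τ (c * i) : Y ⧸ M) = ((c * i : Y) : Y ⧸ M) := by
      refine QuotientGroup.eq.2 ?_
      rw [map_mul, hc, hi]
      simpa [mul_assoc] using mul_mem (hM i hi) (hM i hi)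
    exact congrArg (ψ.comp e.symm.toMonoidHom) h1
  · show ψ (e.symm (φ c)) = ψ c
    exact congrArg ψ (e.symm_apply_apply c)

/-- The general case. -/
theorem exists_extension (h : CoreHyp Y l p w τ R g n) {A : Type v} [CommGroup A] (hA : IsPGroup l A)
    (ψ : ↥(fixed τ) →* A) :
    ∃ χ : Y →* A, (∀ y, χ (τ y) = χ y) ∧ ∀ c : ↥(fixed τ), χ c = ψ c := by
  classical
  haveI : Fact l.Prime := ⟨h.hl⟩
  set O := Cfsg.pPrimeCore l Y with hOdef
  haveI hOn : O.Normal := Subgroup.sSup_normal _ (fun _ h => h.1)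
  have hOl : ¬ l ∣ Nat.card O := CfsgLib.Coprime.pPrimeCore_not_dvd h.hl
  have hOmap : O.map τ.toMonoidHom = O := CfsgLib.Coprime.map_pPrimeCore_equiv τ l
  set π := QuotientGroup.mk' O with hπ
  let τ' : MulAut (Y ⧸ O) := QuotientGroup.congr O O τ hOmap
  have hRp : IsPGroup l R := by
    obtain ⟨P, hP⟩ := h.sylow
    exact hP ▸ P.2
  have htriv : ∀ x ∈ R, π x = 1 → x = 1 := by
    intro x hx hx1
    have hxO : x ∈ O := (QuotientGroup.eq_one_iff x).1 hx1
    obtain ⟨k, hk⟩ := hRp ⟨x, hx⟩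
    obtain ⟨j, -, hj⟩ := (Nat.dvd_prime_pow h.hl).1 (orderOf_dvd_of_pow_eq_one (congrArg Subtype.val hk :
      x ^ l ^ k = 1))
    rcases j with - | j
    · exact orderOf_eq_one_iff.1 (by simpa using hj)
    · exact absurd ((hj ▸ dvd_pow_self l j.succ_ne_zero).trans (Subgroup.orderOf_dvd_natCard _ hxO)) hOl
  have hinj : ∀ x ∈ R, ∀ y ∈ R, π x = π y → x = y := fun x hx y hy e =>
    eq_of_inv_mul_eq_one (htriv _ (mul_mem (inv_mem hx) hy) (by rw [map_mul, map_inv, e, inv_mul_cancel]))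
  have hodd' : Odd (Nat.card (Y ⧸ O)) := h.odd.of_dvd_nat (card_quotient_dvd_card O)
  have hR' : CoreHyp (Y ⧸ O) l p w τ' (R.map π) (π g) (π n) :=
    { odd := hodd'
      solvable := haveI := h.solvable; Group.isSolvable_of_surjective (QuotientGroup.mk'_surjective O)
      hl := h.hl
      hl2 := h.hl2
      hp := h.hp
      hpl := h.hpl
      invol := fun x => by
        induction x using QuotientGroup.induction_on with
        | H y => exact congrArg QuotientGroup.mk (h.invol y)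
      sylow := by
        obtain ⟨P, hP⟩ := h.sylow
        exact ⟨P.mapSurjective (QuotientGroup.mk'_surjective O), by rw [← hP]; rfl⟩
      stable := by
        rintro _ ⟨r, hr, rfl⟩
        exact ⟨τ r, h.stable r hr, rfl⟩
      g_mem := mem_map_of_mem _ h.g_mem
      g_fix := congrArg π h.g_fix
      n_fix := congrArg π h.n_fix
      order_n := h.order_n.imp fun i hi => by rw [← map_pow, hi, map_one]
      comm := h.comm.map π
      fix := by
        rintro _ ⟨r, hr, rfl⟩ he
        obtain ⟨k, hk⟩ := mem_zpowers_iff.1 (h.fix r hr (hinj _ (h.stable r hr) r hr he))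
        exact mem_zpowers_iff.2 ⟨k, by rw [← map_zpow, hk]⟩
      base := by
        rintro _ ⟨r, hr, rfl⟩ hc he
        have h1 : g * r = r * g := hinj _ (mul_mem h.g_mem hr) _ (mul_mem hr h.g_mem)
          (by rw [map_mul, map_mul]; exact hc.eq)
        have h2 : τ r = r⁻¹ := hinj _ (h.stable r hr) _ (inv_mem hr) (by rw [map_inv]; exact he)
        rw [← map_inv, ← map_mul, ← map_mul, h.base r hr h1 h2, map_pow]
      weight := by
        rintro _ ⟨r, hr, rfl⟩
        rw [← map_pow, h.weight r hr]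
      weight_sq := h.weight_sq }
  let φ : ↥(fixed τ) →* ↥(fixed τ') :=
    (π.comp (fixed τ).subtype).codRestrict (fixed τ') fun c => congrArg π c.2
  have hφ : Function.Surjective φ := by
    rintro ⟨x, hx⟩
    obtain ⟨y, rfl⟩ := QuotientGroup.mk'_surjective O x
    obtain ⟨c, i, rfl, hc, hi, -⟩ := exists_fixed_mul_inverted h.odd h.invol y
    refine ⟨⟨c, hc⟩, Subtype.ext ?_⟩
    have h1 : π (τ (c * i)) = π (c * i) := hx
    rw [map_mul τ, hc, hi, map_mul, map_mul, mul_right_inj, map_inv] at h1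
    show π c = π (c * i)
    rw [map_mul, eq_one_of_sq hodd' (inv_eq_iff_mul_eq_one.1 h1), mul_one]
  have hker : φ.ker ≤ ψ.ker := by
    intro c hc
    have hcO : (c : Y) ∈ O := (QuotientGroup.eq_one_iff _).1 (congrArg Subtype.val hc)
    obtain ⟨k, hk⟩ := hA (ψ c)
    obtain ⟨j, -, hj⟩ := (Nat.dvd_prime_pow h.hl).1 (orderOf_dvd_of_pow_eq_one hk)
    rcases j with - | j
    · exact orderOf_eq_one_iff.1 (by simpa using hj)
    · refine absurd ((hj ▸ dvd_pow_self l j.succ_ne_zero).trans ((orderOf_map_dvd ψ c).trans ?_)) hOl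
      rw [← Subgroup.orderOf_coe]
      exact Subgroup.orderOf_dvd_natCard _ hcO
  let e := QuotientGroup.liftEquiv φ.ker hφ rfl
  let ψ' : ↥(fixed τ') →* A := (QuotientGroup.lift φ.ker ψ hker).comp e.symm.toMonoidHom
  have hψ' : ∀ c, ψ' (φ c) = ψ c := by
    intro c
    have h1 : e.symm (φ c) = QuotientGroup.mk c := e.symm_apply_eq.2 rfl
    show QuotientGroup.lift φ.ker ψ hker (e.symm (φ c)) = ψ c
    rw [h1]; rfl
  obtain ⟨χ, hχτ, hχ⟩ := exists_extension_of_core hR' (CfsgLib.Coprime.pPrimeCore_quotient_eq_bot h.hl) ψ'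
  exact ⟨χ.comp π, fun y => hχτ (π y), fun c => (hχ (φ c)).trans (hψ' c)⟩

end CfsgLib.Walter.Outer
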