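import Cfsg.Agent.Lib.Walter.Three.Fusion
import Cfsg.Agent.Lib.BGroup.FieldKill.Main
import Mathlib.GroupTheory.Transfer

/-!
# The field part of `C(t)` in rank three: fusion and transfer

`Φ.D` centralizes a Sylow `2`-subgroup, so the centralizer of any of its elements has one class of
involutions. A prime power dividing `|Φ.D|` then divides the number of involutions, and the prime divides
the number of involutions commuting with a generator of that part of `Φ.D`.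
-/

set_option autoImplicit false
set_option linter.unusedSectionVars false
set_option linter.style.haveILetI false

namespace CfsgLib.Walter.Outer

open Subgroup
open scoped commutatorElement
open CfsgLib.BGroup.FieldKill (Frame)

universe u

variable {G : Type u} [Group G] [Finite G] (h : Eight G) (Φ : Frame G)

include h in
theorem fus {a : G} (ha : a ∈ (Φ.S : Subgroup G)) (ha1 : a ≠ 1) :
    ∃ n ∈ normalizer ((Φ.S : Subgroup G) : Set G), n * Φ.t * n⁻¹ = a :=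
  h.exists_normalizer_conj Φ.S Φ.htS (Invol.invol_ne_one Φ.ht) ha ha1

include h in
/-- `N(S)` centralizes `D`. -/
theorem normalizer_cent {n : G} (hn : n ∈ normalizer ((Φ.S : Subgroup G) : Set G)) :
    n ∈ centralizer (Φ.D : Set G) := by
  set N := normalizer ((Φ.S : Subgroup G) : Set G) with hN
  obtain ⟨k, hk, hkn, s, hs, hne⟩ := Φ.moves
  have hstab : ∀ m ∈ N, Commute m Φ.t → m ∈ centralizer (Φ.D : Set G) := by
    intro m hm hmt
    refine mem_centralizer_iff.2 fun d hd => ?_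
    obtain ⟨a, ha, k, hk, e, he, hme⟩ := Φ.decomp m hmt
    have ha' : a ∈ (Φ.S : Subgroup G) := by rcases ha with rfl | rfl; exacts [one_mem _, Φ.htS]
    have hkN : k ∈ N := by
      have : k = a⁻¹ * m * e⁻¹ := by rw [hme]; group
      rw [this]
      refine mul_mem (mul_mem (le_normalizer (inv_mem ha')) hm) (inv_mem ?_)
      exact centralizer_le_normalizer _ (mem_centralizer_iff.2 fun s hs => (Φ.D_comm_S he hs).eq.symm)
    rw [hme]
    exact (((Φ.D_comm_S hd ha').mul_right (Φ.K_fix hk hkN hd).symm).mul_right (Φ.D_comm hd he)).eq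
  have hconjD : ∀ m ∈ N, ∀ x ∈ centralizer (Φ.D : Set G), m * x * m⁻¹ ∈ centralizer (Φ.D : Set G) := by
    intro m hm x hx
    refine mem_centralizer_iff.2 fun d hd => ?_
    have hd' := Φ.D_conj (inv_mem hm) hd
    rw [inv_inv] at hd'
    have h := mem_centralizer_iff.1 hx _ hd'
    calc d * (m * x * m⁻¹) = m * (m⁻¹ * d * m * x) * m⁻¹ := by group
      _ = m * (x * (m⁻¹ * d * m)) * m⁻¹ := by rw [h]
      _ = m * x * m⁻¹ * d := by group
  obtain ⟨m, hm, hmt⟩ := BGroup.FieldKill.transitive_of_normal (Φ.S : Subgroup G) Φ.h8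
    (M := N ⊓ centralizer (Φ.D : Set G))
    (fun m hm s hs => (mem_normalizer_iff.1 (mem_inf.1 hm).1 s).1 hs)
    (fun a ha ha1 b hb hb1 => by
      obtain ⟨u, hu, hua⟩ := fus h Φ ha ha1
      obtain ⟨v, hv, hvb⟩ := fus h Φ hb hb1
      refine ⟨MulAut.conj (v * u⁻¹), ?_, fun m hm => mem_inf.2 ⟨?_, ?_⟩⟩
      · rw [MulAut.conj_apply, ← hua, ← hvb]; group
      · exact mul_mem (mul_mem (mul_mem hv (inv_mem hu)) (mem_inf.1 hm).1) (inv_mem (mul_mem hv (inv_mem hu)))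
      · exact hconjD _ (mul_mem hv (inv_mem hu)) m (mem_inf.1 hm).2)
    ⟨k, mem_inf.2 ⟨hkn, mem_centralizer_iff.2 fun d hd => (Φ.K_fix hk hkn hd).eq.symm⟩, s, hs, hne⟩
    Φ.t Φ.htS (Invol.invol_ne_one Φ.ht) (n * Φ.t * n⁻¹) ((mem_normalizer_iff.1 hn _).1 Φ.htS)
    (fun e => Invol.invol_ne_one Φ.ht (conj_eq_one_iff.1 e))
  obtain ⟨hmN, hmD⟩ := mem_inf.1 hm
  have hc : Commute (m⁻¹ * n) Φ.t :=
    calc m⁻¹ * n * Φ.t = m⁻¹ * (n * Φ.t * n⁻¹) * n := by group
      _ = m⁻¹ * (m * Φ.t * m⁻¹) * n := by rw [hmt]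
      _ = Φ.t * (m⁻¹ * n) := by group
  have := mul_mem hmD (hstab _ (mul_mem (inv_mem hmN) hn) hc)
  rwa [mul_inv_cancel_left] at this

include h in
/-- All involutions commuting with an element of `D` are conjugate to `t` in its centralizer. -/
theorem fuse {x : G} (hx : x ∈ Φ.D) {u : G} (hu : orderOf u = 2) (hux : Commute u x) :
    ∃ c, Commute c x ∧ c * Φ.t * c⁻¹ = u := by
  haveI : Fact (Nat.Prime 2) := ⟨Nat.prime_two⟩
  set C := centralizer ({x} : Set G)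
  have hS : (Φ.S : Subgroup G) ≤ C := fun s hs =>
    mem_centralizer_singleton_iff.2 (Φ.D_comm_S hx hs).symm.eq
  have hu' : orderOf (⟨u, mem_centralizer_singleton_iff.2 hux.eq⟩ : C) = 2 := by
    rw [← Subgroup.orderOf_coe]; exact hu
  obtain ⟨c, hc⟩ := Invol.exists_conj_le_sylow
    (IsPGroup.of_card (n := 1) (by rw [Nat.card_zpowers, hu', pow_one]) :
      IsPGroup 2 (zpowers (⟨u, mem_centralizer_singleton_iff.2 hux.eq⟩ : C))) (Φ.S.subtype hS)
  have h1 : (c : G) * u * (c : G)⁻¹ ∈ (Φ.S : Subgroup G) := hc _ (mem_zpowers _)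
  obtain ⟨n, hn, hnt⟩ := fus h Φ h1 fun e => Invol.invol_ne_one hu (conj_eq_one_iff.1 e)
  refine ⟨(c : G)⁻¹ * n, (Commute.inv_left (mem_centralizer_singleton_iff.1 c.2)).mul_left
    (mem_centralizer_iff.1 (normalizer_cent h Φ hn) x hx).symm, ?_⟩
  rw [show (c : G)⁻¹ * n * Φ.t * ((c : G)⁻¹ * n)⁻¹ = (c : G)⁻¹ * (n * Φ.t * n⁻¹) * c by group, hnt]
  group

include h in
theorem invol_conj {u : G} (hu : orderOf u = 2) : ∃ c : G, c * Φ.t * c⁻¹ = u := by
  obtain ⟨c, -, hc⟩ := fuse h Φ (one_mem Φ.D) hu (Commute.one_right u)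
  exact ⟨c, hc⟩

theorem t_mem : Φ.t ∈ centralizer ({Φ.t} : Set G) := mem_centralizer_singleton_iff.2 rfl

/-- The component in `D` is unique. -/
theorem decomp_unique {a a' k k' d d' : G} (ha : a = 1 ∨ a = Φ.t) (ha' : a' = 1 ∨ a' = Φ.t)
    (hk : k ∈ Φ.K) (hk' : k' ∈ Φ.K) (hd : d ∈ Φ.D) (hd' : d' ∈ Φ.D) (e : a * k * d = a' * k' * d') :
    d = d' := by
  have htt := Φ.sq_t
  have eti : Φ.t⁻¹ = Φ.t := inv_eq_of_mul_eq_one_right htt
  have hkt : Commute k⁻¹ Φ.t := (Φ.K_comm k hk).inv_left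
  have e1 : d * d'⁻¹ = (a⁻¹ * a') * (k⁻¹ * k') := by
    have h1 : d * d'⁻¹ = k⁻¹ * a⁻¹ * (a * k * d) * d'⁻¹ := by group
    rw [h1, e, show k⁻¹ * a⁻¹ * (a' * k' * d') * d'⁻¹ = k⁻¹ * (a⁻¹ * a') * k' by group]
    rcases ha with rfl | rfl <;> rcases ha' with rfl | rfl
    · group
    · rw [inv_one, one_mul, hkt.eq, mul_assoc]
    · rw [mul_one, eti, hkt.eq, mul_assoc]
    · group
  have hb : a⁻¹ * a' = 1 ∨ a⁻¹ * a' = Φ.t := by
    rcases ha with rfl | rfl <;> rcases ha' with rfl | rfl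
    · exact Or.inl (by group)
    · exact Or.inr (by rw [inv_one, one_mul])
    · exact Or.inr (by rw [mul_one, eti])
    · exact Or.inl (inv_mul_cancel _)
  have h1 := Φ.disj _ hb _ (mul_mem (inv_mem hk) hk') (e1 ▸ mul_mem hd (inv_mem hd'))
  rw [← e1] at h1
  exact mul_inv_eq_one.1 h1

/-- The projection of `C(t)` on `D`. -/
theorem exists_proj : ∃ δ : ↥(centralizer ({Φ.t} : Set G)) →* Φ.D,
    (∀ x : ↥(centralizer ({Φ.t} : Set G)), ∃ a, (a = 1 ∨ a = Φ.t) ∧ ∃ k ∈ Φ.K, (x : G) = a * k * (δ x : G)) ∧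
      ∀ (d : Φ.D) (hd : (d : G) ∈ centralizer ({Φ.t} : Set G)), δ ⟨d, hd⟩ = d := by
  classical
  have hdec : ∀ x : ↥(centralizer ({Φ.t} : Set G)),
      ∃ d : Φ.D, ∃ a, (a = 1 ∨ a = Φ.t) ∧ ∃ k ∈ Φ.K, (x : G) = a * k * (d : G) := fun x => by
    obtain ⟨a, ha, k, hk, d, hd, hx⟩ := Φ.decomp (x : G) (mem_centralizer_singleton_iff.1 x.2)
    exact ⟨⟨d, hd⟩, a, ha, k, hk, hx⟩
  choose f hf using hdec
  have huniq : ∀ (x : ↥(centralizer ({Φ.t} : Set G))) (a k : G) (d : Φ.D), (a = 1 ∨ a = Φ.t) → k ∈ Φ.K →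
      (x : G) = a * k * (d : G) → f x = d := fun x a k d ha hk hx => by
    obtain ⟨a', ha', k', hk', hx'⟩ := hf x
    exact Subtype.ext (decomp_unique Φ ha' ha hk' hk (f x).2 d.2 (hx'.symm.trans hx))
  refine ⟨MonoidHom.mk' f fun x y => ?_, hf, fun d hd => huniq _ 1 1 d (Or.inl rfl) (one_mem _) (by
    rw [one_mul, one_mul])⟩
  obtain ⟨a, ha, k, hk, hx⟩ := hf x
  obtain ⟨a', ha', k', hk', hy⟩ := hf y
  set k'' := (f x : G) * k' * (f x : G)⁻¹
  have hk'' : k'' ∈ Φ.K := Φ.K_conj (Φ.D_comm_t (f x).2) hk'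
  have hca : ∀ b : G, Commute b Φ.t → Commute b a' := fun b hb => by
    rcases ha' with rfl | rfl
    exacts [Commute.one_right b, hb]
  have hb : a * a' = 1 ∨ a * a' = Φ.t := by
    rcases ha with rfl | rfl <;> rcases ha' with rfl | rfl
    exacts [Or.inl (one_mul 1), Or.inr (one_mul _), Or.inr (mul_one _), Or.inl Φ.sq_t]
  refine huniq _ (a * a') (k * k'') (f x * f y) hb (mul_mem hk hk'') ?_
  rw [Subgroup.coe_mul, hx, hy, Subgroup.coe_mul]
  calc a * k * (f x : G) * (a' * k' * (f y : G))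
      = a * k * ((f x : G) * a') * k' * (f y : G) := by group
    _ = a * (k * a') * (f x : G) * k' * (f y : G) := by
        rw [(hca _ (Φ.D_comm_t (f x).2)).eq]; group
    _ = a * a' * (k * k'') * ((f x : G) * (f y : G)) := by
        simp only [k'']
        rw [(hca _ (Φ.K_comm k hk)).eq]; group

/-- The centralizer in `K` determines the subgroup of `D`. -/
theorem mem_of_cent {x e : G} (hx : x ∈ Φ.D) (he : e ∈ Φ.D)
    (hc : ∀ k ∈ Φ.K, Commute k x → Commute k e) : e ∈ zpowers x := by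
  have hle : zpowers x ⊔ zpowers e ≤ Φ.D := sup_le (zpowers_le.2 hx) (zpowers_le.2 he)
  obtain ⟨F₁, _, _, h1, ⟨e1⟩⟩ := Φ.cent_sub hle
  obtain ⟨F₂, _, _, h2, ⟨e2⟩⟩ := Φ.cent_sub (zpowers_le.2 hx)
  have heq : Φ.K ⊓ centralizer ((zpowers x ⊔ zpowers e : Subgroup G) : Set G) =
      Φ.K ⊓ centralizer ((zpowers x : Subgroup G) : Set G) := by
    refine le_antisymm (inf_le_inf_left _ (centralizer_le (SetLike.coe_subset_coe.2 le_sup_left))) (le_inf inf_le_left fun k hk => ?_)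
    have hkx : Commute k x := (mem_centralizer_iff.1 hk.2 x (mem_zpowers x)).symm
    have hle' : zpowers x ⊔ zpowers e ≤ centralizer ({k} : Set G) :=
      sup_le (zpowers_le.2 (mem_centralizer_singleton_iff.2 hkx.symm.eq))
        (zpowers_le.2 (mem_centralizer_singleton_iff.2 (hc k hk.1 hkx).symm.eq))
    exact mem_centralizer_iff.2 fun y hy => mem_centralizer_singleton_iff.1 (hle' hy)
  have hcard : Nat.card (Matrix.ProjectiveSpecialLinearGroup (Fin 2) F₁) =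
      Nat.card (Matrix.ProjectiveSpecialLinearGroup (Fin 2) F₂) := by
    rw [← Nat.card_congr e1.toEquiv, ← Nat.card_congr e2.toEquiv, heq]
  have hodd : ∀ q n : ℕ, n ≠ 0 → q ^ n = Fintype.card Φ.F → Odd q := fun q n hn e =>
    (Φ.two_ne).of_dvd_nat (e ▸ dvd_pow_self q hn)
  have o1 := hodd _ _ Nat.card_pos.ne' h1
  have o2 := hodd _ _ Nat.card_pos.ne' h2
  have c1 := BGroup.FieldKill.two_mul_card_psl o1
  have c2 := BGroup.FieldKill.two_mul_card_psl o2
  rw [hcard] at c1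
  have hq : Fintype.card F₁ = Fintype.card F₂ := by
    have h12 := Fintype.one_lt_card (α := F₁)
    have h22 := Fintype.one_lt_card (α := F₂)
    rcases lt_trichotomy (Fintype.card F₁) (Fintype.card F₂) with hlt | heq | hlt
    · exfalso
      have h3 := c1.symm.trans c2
      have h4 := Nat.mul_lt_mul'' hlt (Nat.mul_lt_mul'' (show Fintype.card F₁ - 1 < Fintype.card F₂ - 1 by omega)
        (show Fintype.card F₁ + 1 < Fintype.card F₂ + 1 by omega))
      omega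
    · exact heq
    · exfalso
      have h3 := c1.symm.trans c2
      have h4 := Nat.mul_lt_mul'' hlt (Nat.mul_lt_mul'' (show Fintype.card F₂ - 1 < Fintype.card F₁ - 1 by omega)
        (show Fintype.card F₂ + 1 < Fintype.card F₁ + 1 by omega))
      omega
  rw [hq, ← h2] at h1
  have h3 : Nat.card (zpowers x ⊔ zpowers e : Subgroup G) = Nat.card (zpowers x) :=
    Nat.pow_right_injective Fintype.one_lt_card h1
  exact (eq_of_le_of_card_ge le_sup_left h3.le).ge ((le_sup_right : zpowers e ≤ _) (mem_zpowers e))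

/-- The field elements of `l`-power order: a generator and the projection of `C(t)`. -/
theorem exists_theta {l : ℕ} (hl : l.Prime) (hd : l ∣ Nat.card Φ.D) :
    ∃ (g : G) (k : ℕ) (_ : CommGroup (zpowers g)) (θ : ↥(centralizer ({Φ.t} : Set G)) →* zpowers g),
      g ∈ Φ.D ∧ orderOf g = l ^ (k + 1) ∧ IsPGroup l (zpowers g) ∧
      (∀ x, ∃ j : ℕ, ∀ hg, θ x = θ ⟨g, hg⟩ ^ j) ∧ (∀ hg, orderOf (θ ⟨g, hg⟩) = l ^ (k + 1)) ∧
      (∀ (x : ↥(centralizer ({Φ.t} : Set G))) (i : ℕ), x ^ l ^ i = 1 → θ x = 1 →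
        ∃ a, (a = 1 ∨ a = Φ.t) ∧ ∃ k' ∈ Φ.K, (x : G) = a * k') ∧
      (∀ (x : ↥(centralizer ({Φ.t} : Set G))) (i : ℕ), (x : G) ∈ Φ.D → (x : G) ^ l ^ i = 1 →
        (x : G) ∈ zpowers g) := by
  classical
  haveI := Fact.mk hl
  obtain ⟨δ, hδ, hδD⟩ := exists_proj Φ
  haveI := Φ.D_cyc
  obtain ⟨z, hz⟩ := IsCyclic.exists_ofOrder_eq_natCard (α := Φ.D)
  obtain ⟨a, m, hm, hcard⟩ := Nat.exists_eq_pow_mul_and_not_dvd (Nat.card_pos (α := Φ.D)).ne' l hl.ne_one
  obtain ⟨k, rfl⟩ := Nat.exists_eq_succ_of_ne_zero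
    (show a ≠ 0 from fun e => hm (by rw [e, pow_zero, one_mul] at hcard; exact hcard ▸ hd))
  have hm0 : m ≠ 0 := fun e => hm (e ▸ dvd_zero l)
  set g : G := ((z ^ m : Φ.D) : G) with hgdef
  have hgD : g ∈ Φ.D := (z ^ m).2
  have hgord : orderOf g = l ^ (k + 1) := by
    rw [hgdef, Subgroup.orderOf_coe, orderOf_pow_of_dvd hm0 (by rw [hz, hcard]; exact dvd_mul_left _ _), hz,
      hcard, Nat.mul_div_cancel _ (Nat.pos_of_ne_zero hm0)]
  letI cg : CommGroup (zpowers g) :=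
    { (inferInstance : Group (zpowers g)) with mul_comm := fun x y => mul_comm' x y }
  have hzall : ∀ e : Φ.D, ∃ j : ℕ, e = z ^ j := fun e => by
    have htop : zpowers z = ⊤ := eq_top_of_card_eq _ (by rw [Nat.card_zpowers, hz])
    obtain ⟨j, hj⟩ := (isOfFinOrder_of_finite z).mem_powers_iff_mem_zpowers.2 (htop.ge (mem_top e))
    exact ⟨j, hj.symm⟩
  have hin : ∀ e : Φ.D, ((e ^ m : Φ.D) : G) ∈ zpowers g := fun e => by
    obtain ⟨j, rfl⟩ := hzall e
    rw [← pow_mul, mul_comm, pow_mul, Subgroup.coe_pow]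
    exact pow_mem (mem_zpowers _) _
  let θ : ↥(centralizer ({Φ.t} : Set G)) →* zpowers g :=
    MonoidHom.mk' (fun x => ⟨((δ x ^ m : Φ.D) : G), hin (δ x)⟩) fun x y => Subtype.ext (by
      have hc : Commute (δ x) (δ y) := Subtype.ext (Φ.D_comm (δ x).2 (δ y).2).eq
      show ((δ (x * y) ^ m : Φ.D) : G) = _
      rw [map_mul, hc.mul_pow]
      rfl)
  have hθg : ∀ hg : g ∈ centralizer ({Φ.t} : Set G), ((θ ⟨g, hg⟩ : zpowers g) : G) = g ^ m := fun hg => by
    show ((δ ⟨g, hg⟩ ^ m : Φ.D) : G) = g ^ m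
    rw [show δ ⟨g, hg⟩ = z ^ m from hδD (z ^ m) hg, Subgroup.coe_pow]
  have hθord : ∀ hg : g ∈ centralizer ({Φ.t} : Set G), orderOf (θ ⟨g, hg⟩) = l ^ (k + 1) := fun hg => by
    rw [← Subgroup.orderOf_coe, hθg, ← hgord]
    exact Nat.Coprime.orderOf_pow (by rw [hgord]; exact (hl.coprime_iff_not_dvd.2 hm).pow_left _)
  refine ⟨g, k, cg, θ, hgD, hgord, IsPGroup.of_card (n := k + 1) (by rw [Nat.card_zpowers, hgord]),
    fun x => ?_, hθord, fun x i hxi hx => ?_, fun x i hxD hxi => ?_⟩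
  · have hgt : g ∈ centralizer ({Φ.t} : Set G) := mem_centralizer_singleton_iff.2 (Φ.D_comm_t hgD).eq
    have htop : zpowers (θ ⟨g, hgt⟩) = ⊤ :=
      eq_top_of_card_eq _ (by rw [Nat.card_zpowers, hθord, Nat.card_zpowers, hgord])
    obtain ⟨j, hj⟩ := (isOfFinOrder_of_finite _).mem_powers_iff_mem_zpowers.2 (htop.ge (mem_top (θ x)))
    exact ⟨j, fun hg => hj.symm⟩
  · obtain ⟨a, ha, k', hk', he⟩ := hδ x
    have h1 : δ x ^ m = 1 := Subtype.ext (congrArg Subtype.val hx :)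
    have h2 : δ x ^ l ^ i = 1 := by rw [← map_pow, hxi, map_one]
    have h3 : δ x = 1 := orderOf_eq_one_iff.1 (Nat.eq_one_of_dvd_coprimes
      ((hl.coprime_iff_not_dvd.2 hm).pow_left i) (orderOf_dvd_of_pow_eq_one h2) (orderOf_dvd_of_pow_eq_one h1))
    exact ⟨a, ha, k', hk', by rw [he, h3, Subgroup.coe_one, mul_one]⟩
  · obtain ⟨j, hj⟩ := hzall ⟨x, hxD⟩
    have h2 : orderOf (z ^ j) ∣ l ^ i := by
      rw [← hj, ← Subgroup.orderOf_coe]; exact orderOf_dvd_of_pow_eq_one hxi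
    have h3 : (z ^ j) ^ l ^ i = 1 := orderOf_dvd_iff_pow_eq_one.1 h2
    rw [← pow_mul] at h3
    have h4 := orderOf_dvd_of_pow_eq_one h3
    rw [hz, hcard] at h4
    obtain ⟨c, rfl⟩ := ((hl.coprime_iff_not_dvd.2 hm).symm.pow_right i).dvd_of_dvd_mul_right
      ((dvd_mul_left m _).trans h4)
    rw [show (x : G) = ((z ^ (m * c) : Φ.D) : G) from congrArg Subtype.val hj, pow_mul, Subgroup.coe_pow]
    exact pow_mem (mem_zpowers _) _

include h in
/-- The transfer: the order of `θ g` divides the number of involutions. -/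
theorem dvd_index {g : G} (hgD : g ∈ Φ.D) {A : Type u} [CommGroup A]
    (θ : ↥(centralizer ({Φ.t} : Set G)) →* A) (hg : g ∈ centralizer ({Φ.t} : Set G)) :
    orderOf (θ ⟨g, hg⟩) ∣ (centralizer ({Φ.t} : Set G)).index := by
  classical
  haveI := Fintype.ofFinite (G ⧸ centralizer ({Φ.t} : Set G))
  have hperf : commutator G = ⊤ := by
    haveI := h.simple
    refine (IsSimpleGroup.eq_bot_or_eq_top_of_normal (commutator G) inferInstance).resolve_left
      fun hb => h.noncomm ⟨⟨fun a b => ?_⟩⟩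
    have h1 : ⁅a, b⁆ ∈ commutator G := commutator_mem_commutator (mem_top a) (mem_top b)
    rw [hb, mem_bot] at h1
    exact commutatorElement_eq_one_iff_mul_comm.1 h1
  have h0 : MonoidHom.transfer θ g = 1 :=
    Abelianization.commutator_subset_ker (MonoidHom.transfer θ) (hperf ▸ mem_top g)
  rw [MonoidHom.transfer_eq_prod_quotient_orbitRel_zpowers_quot] at h0
  have hterm : ∀ (n : ℕ) (g₀ : G) (hm : g₀⁻¹ * g ^ n * g₀ ∈ centralizer ({Φ.t} : Set G)),
      θ ⟨g₀⁻¹ * g ^ n * g₀, hm⟩ = θ ⟨g, hg⟩ ^ n := by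
    intro n g₀ hm
    have hu : orderOf (g₀ * Φ.t * g₀⁻¹) = 2 := by
      rw [show g₀ * Φ.t * g₀⁻¹ = MulAut.conj g₀ Φ.t from rfl, MulEquiv.orderOf_eq]; exact Φ.ht
    have hux : Commute (g₀ * Φ.t * g₀⁻¹) (g ^ n) := by
      have hc : Commute Φ.t (g₀⁻¹ * g ^ n * g₀) := (mem_centralizer_singleton_iff.1 hm).symm
      calc g₀ * Φ.t * g₀⁻¹ * g ^ n = g₀ * (Φ.t * (g₀⁻¹ * g ^ n * g₀)) * g₀⁻¹ := by group
        _ = g₀ * (g₀⁻¹ * g ^ n * g₀ * Φ.t) * g₀⁻¹ := by rw [hc.eq]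
        _ = g ^ n * (g₀ * Φ.t * g₀⁻¹) := by group
    obtain ⟨c, hcx, hct⟩ := fuse h Φ (pow_mem hgD n) hu hux
    have hC : g₀⁻¹ * c ∈ centralizer ({Φ.t} : Set G) := mem_centralizer_singleton_iff.2 (by
      calc g₀⁻¹ * c * Φ.t = g₀⁻¹ * (c * Φ.t * c⁻¹) * c := by group
        _ = Φ.t * (g₀⁻¹ * c) := by rw [hct]; group)
    rw [show (⟨g₀⁻¹ * g ^ n * g₀, hm⟩ : ↥(centralizer ({Φ.t} : Set G))) =
        ⟨g₀⁻¹ * c, hC⟩ * ⟨g, hg⟩ ^ n * ⟨g₀⁻¹ * c, hC⟩⁻¹ from Subtype.ext (by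
          push_cast
          rw [show g₀⁻¹ * c * g ^ n * (g₀⁻¹ * c)⁻¹ = g₀⁻¹ * (c * g ^ n * c⁻¹) * g₀ by group, hcx.eq,
            mul_inv_cancel_right]),
      map_mul, map_mul, map_inv, map_pow, mul_comm (θ ⟨g₀⁻¹ * c, hC⟩), mul_inv_cancel_right]
  simp only [hterm] at h0
  rw [Finset.prod_pow_eq_pow_sum, ← index_eq_sum_minimalPeriod] at h0
  exact orderOf_dvd_of_pow_eq_one h0

include h in
/-- A prime dividing the order of a field element divides the number of involutions commuting with it. -/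
theorem dvd_invol {g : G} {l a : ℕ} (hl : l.Prime) (hgo : orderOf g = l ^ a)
    (hd : l ∣ (centralizer ({Φ.t} : Set G)).index) :
    l ∣ Nat.card {u : G | orderOf u = 2 ∧ Commute u g} := by
  haveI := Fact.mk hl
  have hI : Nat.card {u : G | orderOf u = 2} = (centralizer ({Φ.t} : Set G)).index := by
    have h1 := CfsgLib.LargePrimeMix.card_conjugates (G := G) (t := Φ.t) rfl {u | orderOf u = 2}
      (fun u => ⟨fun hu => invol_conj h Φ hu, fun ⟨c, hc⟩ => hc ▸ Invol.invol_conj Φ.ht c⟩)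
    rw [← (centralizer ({Φ.t} : Set G)).card_mul_index, mul_comm] at h1
    exact Nat.eq_of_mul_eq_mul_left Nat.card_pos h1
  letI act : MulAction (zpowers g) {u : G | orderOf u = 2} :=
    { smul := fun c u => ⟨(c : G) * u * (c : G)⁻¹, Invol.invol_conj u.2 _⟩
      one_smul := fun u => Subtype.ext (show (1 : G) * u * (1 : G)⁻¹ = u by group)
      mul_smul := fun c d u => Subtype.ext (show ((c * d : zpowers g) : G) * u * ((c * d : zpowers g) : G)⁻¹ =
        (c : G) * ((d : G) * u * (d : G)⁻¹) * (c : G)⁻¹ by push_cast; group) }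
  have hp : IsPGroup l (zpowers g) := IsPGroup.of_card (n := a) (by rw [Nat.card_zpowers, hgo])
  have hmod := hp.card_modEq_card_fixedPoints {u : G | orderOf u = 2}
  rw [hI] at hmod
  have h1 := (hmod.dvd_iff dvd_rfl).1 hd
  refine h1.trans (dvd_of_eq (Nat.card_congr ⟨fun u => ⟨u.1.1, u.1.2, ?_⟩,
    fun u => ⟨⟨u.1, u.2.1⟩, fun c => ?_⟩, fun u => rfl, fun u => rfl⟩))
  · have h2 := congrArg Subtype.val (u.2 ⟨g, mem_zpowers g⟩)
    exact (mul_inv_eq_iff_eq_mul.1 h2).symm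
  · obtain ⟨j, hj⟩ := mem_zpowers_iff.1 c.2
    refine Subtype.ext ?_
    show (c : G) * u.1 * (c : G)⁻¹ = u.1
    rw [← hj, ((u.2.2.zpow_right j).symm).eq, mul_inv_cancel_right]

end CfsgLib.Walter.Outer
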