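import Mathlib

/-!
# An involutory automorphism of a finite group of odd order: fixed and inverted elements
-/

set_option autoImplicit false

namespace CfsgLib.Walter.Outer

open Subgroup

universe u

variable {X : Type u} [Group X] [Finite X]

/-- A square root in a group of odd order. -/
noncomputable def root (x : X) : X := x ^ ((Nat.card X + 1) / 2)

theorem root_mul_root (hodd : Odd (Nat.card X)) (x : X) : root x * root x = x := by
  obtain ⟨k, hk⟩ := hodd
  rw [root, ← pow_add, show (Nat.card X + 1) / 2 + (Nat.card X + 1) / 2 = Nat.card X + 1 by omega,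
    pow_succ, pow_card_eq_one', one_mul]

theorem root_mem {H : Subgroup X} {x : X} (hx : x ∈ H) : root x ∈ H := pow_mem hx _

theorem eq_one_of_sq (hodd : Odd (Nat.card X)) {x : X} (h : x * x = 1) : x = 1 := by
  have h2 : orderOf x ∣ 2 := orderOf_dvd_of_pow_eq_one (by rw [pow_two, h])
  rcases (Nat.dvd_prime Nat.prime_two).1 h2 with h' | h'
  · exact orderOf_eq_one_iff.1 h'
  · exact absurd (hodd.of_dvd_nat (h' ▸ orderOf_dvd_natCard x)) (by decide)

theorem commute_of_sq (hodd : Odd (Nat.card X)) {m c : X} (h : Commute (m * m) c) : Commute m c := by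
  obtain ⟨k, hk⟩ := hodd
  have e : (m * m) ^ (k + 1) = m := by
    rw [← pow_two, ← pow_mul, show 2 * (k + 1) = Nat.card X + 1 by omega, pow_succ, pow_card_eq_one',
      one_mul]
  exact e ▸ h.pow_left _

theorem eq_one_of_conj_inv (hodd : Odd (Nat.card X)) {m c : X} (h : m * c * m⁻¹ = c⁻¹) : c = 1 := by
  have h2 : Commute (m * m) c := by
    refine mul_inv_eq_iff_eq_mul.1 ?_
    calc m * m * c * (m * m)⁻¹ = m * (m * c * m⁻¹) * m⁻¹ := by group
      _ = c := by rw [h, show m * c⁻¹ * m⁻¹ = (m * c * m⁻¹)⁻¹ by group, h, inv_inv]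
  rw [(commute_of_sq hodd h2).eq, mul_inv_cancel_right] at h
  exact eq_one_of_sq hodd (eq_inv_iff_mul_eq_one.1 h)

/-- An element fixed and inverted is trivial. -/
theorem eq_one_of_fixed_of_inverted (hodd : Odd (Nat.card X)) {τ : MulAut X} {x : X} (h1 : τ x = x)
    (h2 : τ x = x⁻¹) : x = 1 :=
  eq_one_of_sq hodd (eq_inv_iff_mul_eq_one.1 (h1.symm.trans h2))

/-- Every element is the product of a fixed element and an inverted one. -/
theorem exists_fixed_mul_inverted (hodd : Odd (Nat.card X)) {τ : MulAut X} (hτ : ∀ x, τ (τ x) = x) (x : X) :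
    ∃ c i : X, x = c * i ∧ τ c = c ∧ τ i = i⁻¹ ∧
      ∀ H : Subgroup X, x ∈ H → τ x ∈ H → c ∈ H ∧ i ∈ H := by
  set r := (τ x)⁻¹ * x with hr
  set i := root r with hi
  have hii : i * i = r := root_mul_root hodd r
  have hτi : τ i = i⁻¹ := by
    rw [hi, root, map_pow, ← inv_pow, hr, map_mul, map_inv, hτ, mul_inv_rev, inv_inv]
  refine ⟨x * i⁻¹, i, by group, ?_, hτi, fun H h1 h2 => ?_⟩
  · rw [map_mul, map_inv, hτi, inv_inv, eq_mul_inv_iff_mul_eq, mul_assoc, hii, hr, mul_inv_cancel_left]
  · have hiH : i ∈ H := root_mem (mul_mem (inv_mem h2) h1)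
    exact ⟨mul_mem h1 (inv_mem hiH), hiH⟩

/-- The inverted elements of an invariant subgroup: their number divides the order of the subgroup. -/
theorem card_inverted_dvd (hodd : Odd (Nat.card X)) {τ : MulAut X} (hτ : ∀ x, τ (τ x) = x) (A : Subgroup X)
    (hA : ∀ a ∈ A, τ a ∈ A) : Nat.card {a : X // a ∈ A ∧ τ a = a⁻¹} ∣ Nat.card A := by
  classical
  let C : Subgroup ↥A := (MonoidHom.eqLocus τ.toMonoidHom (MonoidHom.id X)).subgroupOf A
  have hmem : ∀ a : ↥A, a ∈ C ↔ τ a = a := fun a => Iff.rfl
  let f : ↥A ⧸ C → {a : X // a ∈ A ∧ τ a = a⁻¹} :=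
    Quotient.lift (fun a : ↥A => ⟨(a : X) * (τ (a : X))⁻¹, mul_mem a.2 (inv_mem (hA _ a.2)), by
      rw [map_mul, map_inv, hτ, mul_inv_rev, inv_inv]⟩) fun a b h => by
      replace h : a⁻¹ * b ∈ C := QuotientGroup.leftRel_apply.1 h
      rw [hmem] at h
      refine Subtype.ext ?_
      push_cast at h ⊢
      rw [map_mul, map_inv] at h
      have hb : τ (b : X) = τ (a : X) * ((a : X)⁻¹ * b) := by rw [← h]; group
      rw [hb]
      group
  have hbij : Function.Bijective f := by
    constructor
    · intro u v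
      induction u using QuotientGroup.induction_on with
      | H a =>
        induction v using QuotientGroup.induction_on with
        | H b =>
          intro h
          have h' : (a : X) * (τ (a : X))⁻¹ = (b : X) * (τ (b : X))⁻¹ := congrArg Subtype.val h
          refine QuotientGroup.eq.2 ((hmem _).2 ?_)
          push_cast
          rw [map_mul, map_inv]
          calc (τ (a : X))⁻¹ * τ (b : X) = (a : X)⁻¹ * ((a : X) * (τ (a : X))⁻¹) * τ (b : X) := by group
            _ = (a : X)⁻¹ * b := by rw [h']; group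
    · rintro ⟨i, hiA, hi⟩
      refine ⟨QuotientGroup.mk ⟨root i, root_mem hiA⟩, Subtype.ext ?_⟩
      show root i * (τ (root i))⁻¹ = i
      rw [show τ (root i) = (root i)⁻¹ by rw [root, map_pow, hi, inv_pow], inv_inv, root_mul_root hodd]
  rw [← Nat.card_congr (Equiv.ofBijective f hbij)]
  exact card_quotient_dvd_card C

end CfsgLib.Walter.Outer
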