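import Cfsg.Agent.Lib.Invol.Basic
import Mathlib.GroupTheory.Sylow
import Mathlib.LinearAlgebra.Matrix.SpecialLinearGroup
import Mathlib.FieldTheory.Finite.Basic

/-!
# `SL(2, l)` is no section of a group with abelian Sylow `2`-subgroups
-/

set_option autoImplicit false
set_option linter.style.haveILetI false

namespace CfsgLib.Walter.Outer

open Subgroup

universe u

/-- `SL(2, p)`, `p` odd, is no section. -/
theorem not_involves_slTwo {G : Type u} [Group G] [Finite G]
    (hab : ∀ S : Sylow 2 G, ∀ a b : S, a * b = b * a) {p : ℕ} [Fact p.Prime] (hp : p ≠ 2) :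
    ¬ ∃ (H K : Subgroup G) (_ : (K.subgroupOf H).Normal),
      Nonempty ((H ⧸ K.subgroupOf H) ≃* Matrix.SpecialLinearGroup (Fin 2) (ZMod p)) := by
  rintro ⟨H, K, hK, ⟨e⟩⟩
  haveI : Fact (Nat.Prime 2) := ⟨Nat.prime_two⟩
  let φ : H →* Matrix.SpecialLinearGroup (Fin 2) (ZMod p) :=
    e.toMonoidHom.comp (QuotientGroup.mk' (K.subgroupOf H))
  have hφ : Function.Surjective φ := e.surjective.comp (QuotientGroup.mk'_surjective _)
  have hp2 : (2 : ZMod p) ≠ 0 := by
    intro h
    have h' : ((2 : ℕ) : ZMod p) = 0 := by exact_mod_cast h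
    rw [ZMod.natCast_eq_zero_iff] at h'
    exact hp ((Nat.prime_dvd_prime_iff_eq (Fact.out) Nat.prime_two).1 h')
  -- images of 2-subgroups are commutative
  have hcomm : ∀ (P : Subgroup H), IsPGroup 2 P →
      ∀ x ∈ P.map φ, ∀ y ∈ P.map φ, x * y = y * x := by
    intro P hP
    obtain ⟨T, hT⟩ := (hP.map H.subtype).exists_le_sylow
    rintro _ ⟨a, ha, rfl⟩ _ ⟨b, hb, rfl⟩
    have h1 := congrArg Subtype.val (hab T ⟨_, hT ⟨a, ha, rfl⟩⟩ ⟨_, hT ⟨b, hb, rfl⟩⟩)
    rw [← map_mul, ← map_mul]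
    exact congrArg φ (Subtype.ext h1)
  -- a quaternion subgroup
  obtain ⟨a, b, hab'⟩ := ZMod.sq_add_sq p (-1)
  let i : Matrix.SpecialLinearGroup (Fin 2) (ZMod p) :=
    ⟨!![0, 1; -1, 0], by simp [Matrix.det_fin_two]⟩
  let j : Matrix.SpecialLinearGroup (Fin 2) (ZMod p) :=
    ⟨!![a, b; b, -a], by simp [Matrix.det_fin_two]; linear_combination -hab'⟩
  have hij : i * j = -(j * i) := by
    refine Subtype.ext ?_
    show (!![0, 1; -1, 0] * !![a, b; b, -a] : Matrix (Fin 2) (Fin 2) (ZMod p)) =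
      -(!![a, b; b, -a] * !![0, 1; -1, 0])
    simp [Matrix.mul_fin_two]
  have hi2 : i * i = -1 := by
    refine Subtype.ext ?_
    show (!![0, 1; -1, 0] * !![0, 1; -1, 0] : Matrix (Fin 2) (Fin 2) (ZMod p)) = -1
    simp [Matrix.mul_fin_two, Matrix.one_fin_two]
  have hj2 : j * j = -1 := by
    refine Subtype.ext ?_
    show (!![a, b; b, -a] * !![a, b; b, -a] : Matrix (Fin 2) (Fin 2) (ZMod p)) = -1
    have e1 : a * a + b * b = -1 := by linear_combination hab'
    have e2 : b * b + a * a = -1 := by linear_combination hab'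
    simp [Matrix.mul_fin_two, Matrix.one_fin_two, e1, e2, mul_comm b a]
  have hi4 : ∀ x : Matrix.SpecialLinearGroup (Fin 2) (ZMod p), x * x = -1 → IsPGroup 2 (zpowers x) := by
    intro x hx
    have : x ^ 4 = 1 := by
      rw [show x ^ 4 = (x * x) * (x * x) by rw [pow_succ, pow_succ, pow_two]; group, hx, neg_mul_neg, one_mul]
    have hd : orderOf x ∣ 2 ^ 2 := orderOf_dvd_of_pow_eq_one this
    obtain ⟨m, -, hm⟩ := (Nat.dvd_prime_pow Nat.prime_two).1 hd
    exact IsPGroup.of_card (n := m) (by rw [Nat.card_zpowers, hm])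
  have h1 : j * i * j⁻¹ = i⁻¹ := by
    have h0 : i⁻¹ = -i := inv_eq_of_mul_eq_one_right (by rw [mul_neg, hi2, neg_neg])
    rw [h0, mul_inv_eq_iff_eq_mul, neg_mul, hij, neg_neg]
  have hnorm : zpowers j ≤ normalizer (zpowers i : Set (Matrix.SpecialLinearGroup (Fin 2) (ZMod p))) := by
    rw [zpowers_le, mem_normalizer_iff_map_conj_eq]
    show (zpowers i).map (MulAut.conj j).toMonoidHom = zpowers i
    rw [MonoidHom.map_zpowers, show (MulAut.conj j).toMonoidHom i = i⁻¹ from h1, zpowers_inv]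
  obtain ⟨S, hS⟩ := ((hi4 i hi2).to_sup_of_normal_left' (hi4 j hj2) hnorm).exists_le_sylow
  obtain ⟨T, hT⟩ := Sylow.mapSurjective_surjective hφ 2 S
  have hmem : ∀ x ∈ zpowers i ⊔ zpowers j, x ∈ (T : Subgroup H).map φ := fun x hx => by
    have := hS hx
    rwa [← hT] at this
  have hcc := hcomm T T.2 i (hmem i (mem_sup_left (mem_zpowers _))) j (hmem j (mem_sup_right (mem_zpowers _)))
  rw [hij] at hcc
  have hM : -(!![a, b; b, -a] * !![0, 1; -1, 0] : Matrix (Fin 2) (Fin 2) (ZMod p)) =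
      !![a, b; b, -a] * !![0, 1; -1, 0] := congrArg Subtype.val hcc
  have h2 := congrFun (congrFun hM 0) 0
  have h2' := congrFun (congrFun hM 0) 1
  simp at h2 h2'
  have ha : a = 0 := by
    have : (2 : ZMod p) * a = 0 := by
      first | linear_combination h2' | linear_combination -h2'
    exact (mul_eq_zero.1 this).resolve_left hp2
  have hb : b = 0 := by
    have : (2 : ZMod p) * b = 0 := by
      first | linear_combination h2 | linear_combination -h2
    exact (mul_eq_zero.1 this).resolve_left hp2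
  rw [ha, hb] at hab'
  simp at hab'

end CfsgLib.Walter.Outer
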