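import Cfsg.Agent.Lib.Walter.Outer.Core
import Cfsg.Agent.Lib.Walter.Outer.Sections
import Cfsg.Agent.Lib.Ree.Basic
import Cfsg.Agent.Lib.Fusion.Transfer
import Cfsg.Agent.Lib.CFun.OddSCNUnique
import Cfsg.Agent.Lib.LocalStructure.BlockModule
import Cfsg.Agent.S0118
import Cfsg.Agent.S0205

/-!
# No simple group has an element with an inverted torus and a weight in the centralizer of an involution

`Torus` is the configuration left over for a field automorphism `g` of order a power of a prime `l`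
acting on `PSL(2, q)` inside `C(t)`: the Sylow `l`-subgroup of `C(g)` is abelian, inverted by `t` modulo
`⟨g⟩`, and an element of order `p` of `C(g) ∩ C(t)` acts on the inverted part as a scalar `w`.
-/

set_option autoImplicit false
set_option linter.style.haveILetI false

namespace CfsgLib.Walter.Outer

open Subgroup
open scoped commutatorElement

universe u

/-- The four group of two commuting involutions. -/
theorem exists_four {G : Type u} [Group G] [Finite G] {a b : G} (ha : orderOf a = 2) (hb : orderOf b = 2)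
    (hab : Commute a b) (hne : a ≠ b) :
    ∃ A : Subgroup G, IsMulCommutative A ∧ ¬ IsCyclic A ∧ a ∈ A ∧ b ∈ A ∧
      (∀ H : Subgroup G, a ∈ H → b ∈ H → A ≤ H) ∧ (∀ x ∈ A, x * x = 1) ∧ IsPGroup 2 A := by
  let A : Subgroup G := closure {a, b}
  haveI hA : IsMulCommutative A := isMulCommutative_closure (by
    rintro x (rfl | rfl) y (rfl | rfl)
    · rfl
    · exact hab.eq
    · exact hab.symm.eq
    · rfl)
  have haA : a ∈ A := subset_closure (Or.inl rfl)
  have hbA : b ∈ A := subset_closure (Or.inr rfl)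
  have hsq : ∀ x ∈ A, x * x = 1 := by
    intro x hx
    induction hx using closure_induction with
    | mem z hz => rcases hz with rfl | rfl; exacts [Invol.invol_mul_self ha, Invol.invol_mul_self hb]
    | one => exact one_mul 1
    | mul y z hy hz h1 h2 =>
      have hc : y * z = z * y := congrArg Subtype.val (mul_comm' (⟨y, hy⟩ : A) ⟨z, hz⟩)
      calc y * z * (y * z) = y * z * (z * y) := by rw [← hc]
        _ = y * (z * z) * y := by group
        _ = 1 := by rw [h2, mul_one, h1]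
    | inv y hy h1 => rw [← mul_inv_rev, h1, inv_one]
  refine ⟨A, hA, fun h => ?_, haA, hbA, fun H h1 h2 => (closure_le _).2 (by rintro x (rfl | rfl) <;> assumption),
    hsq, fun x => ⟨1, Subtype.ext (by rw [pow_one, pow_two]; exact hsq _ x.2)⟩⟩
  obtain ⟨⟨z, hz⟩, hgen⟩ := h.exists_generator
  have key : ∀ x ∈ A, x ≠ 1 → x = z := by
    intro x hx hx1
    obtain ⟨j, hj⟩ := hgen ⟨x, hx⟩
    have hj' : z ^ j = x := congrArg Subtype.val hj
    rcases Int.even_or_odd j with ⟨i, rfl⟩ | ⟨i, rfl⟩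
    · rw [zpow_add, ← (Commute.refl z).mul_zpow, hsq z hz, one_zpow] at hj'
      exact absurd hj'.symm hx1
    · rw [zpow_add, zpow_one, zpow_mul, zpow_ofNat, pow_two, hsq z hz, one_zpow, one_mul] at hj'
      exact hj'.symm
  exact hne ((key a haA (Invol.invol_ne_one ha)).trans (key b hbA (Invol.invol_ne_one hb)).symm)

/-- The commutator of an element with an involution is inverted by it. -/
theorem conj_inverted {G : Type u} [Group G] {t : G} (ht : orderOf t = 2) (x : G) :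
    t * (x⁻¹ * (t * x * t⁻¹)) * t⁻¹ = (x⁻¹ * (t * x * t⁻¹))⁻¹ := by
  have h : t * t = 1 := Invol.invol_mul_self ht
  rw [show t * (x⁻¹ * (t * x * t⁻¹)) * t⁻¹ = t * x⁻¹ * t⁻¹ * ((t * t) * x * (t * t)⁻¹) by group, h,
    inv_one, one_mul, mul_one]
  group

/-- The configuration. -/
structure Torus (G : Type u) [Group G] where
  l : ℕ
  p : ℕ
  k : ℕ
  w : ℕ
  t : G
  g : G
  n : G
  P : Subgroup G
  A : Type u
  [commA : CommGroup A]
  θ : ↥(centralizer ({t} : Set G)) →* A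
  hl : l.Prime
  hl2 : l ≠ 2
  hp : p.Prime
  hpl : p ≠ l
  simple : IsSimpleGroup G
  noncomm : ¬ IsMulCommutative G
  abTwo : ∀ S : Sylow 2 G, ∀ a b : S, a * b = b * a
  elemTwo : ∀ S : Sylow 2 G, ∀ x ∈ (S : Subgroup G), x * x = 1
  order_t : orderOf t = 2
  invol_conj : ∀ u : G, orderOf u = 2 → ∃ c : G, c * t * c⁻¹ = u
  hA : IsPGroup l A
  inj : ∀ (x : ↥(centralizer ({t} : Set G))) (i : ℕ), x ^ l ^ i = 1 → θ x = 1 → x = 1
  order_g : orderOf g = l ^ (k + 1)
  g_t : Commute g t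
  gen : ∀ x : ↥(centralizer ({t} : Set G)), ∃ j : ℕ, θ x = θ ⟨g, mem_centralizer_singleton_iff.2 g_t.eq⟩ ^ j
  fuse : ∀ x ∈ zpowers g, x ≠ 1 → ∀ u : G, orderOf u = 2 → Commute u x → ∃ c, Commute c x ∧ c * t * c⁻¹ = u
  sylow : CfsgLib.Coprime.IsSylowIn l P (centralizer ({g} : Set G))
  comm : ∀ a ∈ P, ∀ b ∈ P, a * b = b * a
  stable : ∀ x ∈ P, t * x * t⁻¹ ∈ P
  moved : ∃ x ∈ P, t * x * t⁻¹ ≠ x
  n_g : Commute n g
  n_t : Commute n t
  order_n : n ^ p = 1
  act : ∀ x ∈ P, t * x * t⁻¹ = x⁻¹ → n * x * n⁻¹ = x ^ w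
  weight : ∀ x ∈ P, t * x * t⁻¹ = x⁻¹ → x ^ w ^ p = x
  weight_sq : ¬ (w ^ 2) % l = 1
  up : k = 0 ∨ ∃ (B : Type u) (_ : CommGroup B) (χ : ↥(centralizer ({g ^ l ^ k} : Set G)) →* B),
    χ ⟨g, mem_centralizer_singleton_iff.2 ((Commute.refl g).pow_right _).eq⟩ ≠ 1

attribute [instance] Torus.commA

namespace Torus

variable {G : Type u} [Group G] [Finite G] (D : Torus G)

include D

theorem fact_l : Fact D.l.Prime := ⟨D.hl⟩

theorem gen_mem : D.g ∈ centralizer ({D.t} : Set G) := mem_centralizer_singleton_iff.2 D.g_t.eq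

theorem isPGroup_zpowers_g : IsPGroup D.l (zpowers D.g) :=
  IsPGroup.of_card (n := D.k + 1) (by rw [Nat.card_zpowers, D.order_g])

theorem g_ne_one : D.g ≠ 1 := fun e => by
  have h := D.order_g
  rw [e, orderOf_one] at h
  exact (one_lt_pow₀ D.hl.one_lt D.k.succ_ne_zero).ne h

theorem theta_conj (u x : ↥(centralizer ({D.t} : Set G))) : D.θ (u * x * u⁻¹) = D.θ x := by
  rw [map_mul, map_mul, map_inv, mul_comm (D.θ u), mul_inv_cancel_right]

/-- An element of `C(t)` normalising an `l`-subgroup of `C(t)` centralizes it. -/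
theorem commute_of_normalize {W : Subgroup G} (hWt : W ≤ centralizer ({D.t} : Set G)) (hW : IsPGroup D.l W)
    {u : G} (hu : u ∈ centralizer ({D.t} : Set G)) (hn : ∀ x ∈ W, u * x * u⁻¹ ∈ W) {x : G} (hx : x ∈ W) :
    Commute u x := by
  set z := u * x * u⁻¹ * x⁻¹ with hz
  have hzW : z ∈ W := mul_mem (hn x hx) (inv_mem hx)
  obtain ⟨i, hi⟩ := hW ⟨z, hzW⟩
  have h1 := D.inj ⟨z, hWt hzW⟩ i (Subtype.ext (congrArg Subtype.val hi :)) (by
    have e : (⟨z, hWt hzW⟩ : ↥(centralizer ({D.t} : Set G))) = ⟨u, hu⟩ * ⟨x, hWt hx⟩ * ⟨u, hu⟩⁻¹ * ⟨x, hWt hx⟩⁻¹ :=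
      Subtype.ext (by
      show z = _
      push_cast
      exact hz)
    rw [e, map_mul, D.theta_conj, map_inv, mul_inv_cancel])
  have h2 : z = 1 := congrArg Subtype.val h1
  exact mul_inv_eq_iff_eq_mul.1 (mul_inv_eq_one.1 h2)

/-- An `l`-subgroup of `C(t)` containing `g` is generated by it. -/
theorem eq_zpowers {W : Subgroup G} (hWt : W ≤ centralizer ({D.t} : Set G)) (hW : IsPGroup D.l W)
    (hgW : D.g ∈ W) : W = zpowers D.g := by
  refine le_antisymm (fun x hx => ?_) (zpowers_le.2 hgW)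
  obtain ⟨j, hj⟩ := D.gen ⟨x, hWt hx⟩
  set z := x * (D.g ^ j)⁻¹ with hz
  have hzW : z ∈ W := mul_mem hx (inv_mem (pow_mem hgW j))
  obtain ⟨i, hi⟩ := hW ⟨z, hzW⟩
  have h1 := D.inj ⟨z, hWt hzW⟩ i (Subtype.ext (congrArg Subtype.val hi :)) (by
    have e : (⟨z, hWt hzW⟩ : ↥(centralizer ({D.t} : Set G))) = ⟨x, hWt hx⟩ * (⟨D.g, D.gen_mem⟩ ^ j)⁻¹ :=
      Subtype.ext (by
      show z = _
      push_cast
      exact hz)
    rw [e, map_mul, map_inv, map_pow, hj, mul_inv_cancel])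
  rw [show x = z * D.g ^ j by rw [hz]; group, show z = 1 from congrArg Subtype.val h1, one_mul]
  exact pow_mem (mem_zpowers _) _

/-- An `l`-subgroup containing `g` and centralized by an involution commuting with `g`. -/
theorem eq_zpowers_of_invol {W : Subgroup G} {u : G} (hu : orderOf u = 2) (hug : Commute u D.g)
    (hWu : W ≤ centralizer ({u} : Set G)) (hW : IsPGroup D.l W) (hgW : D.g ∈ W) : W = zpowers D.g := by
  obtain ⟨c, hcg, hc⟩ := D.fuse D.g (mem_zpowers _) D.g_ne_one u hu hug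
  set W' := W.map (MulAut.conj c⁻¹).toMonoidHom with hW'
  have hgW' : D.g ∈ W' := ⟨D.g, hgW, by
    show c⁻¹ * D.g * c⁻¹⁻¹ = D.g
    rw [inv_inv, mul_assoc, ← hcg.eq, inv_mul_cancel_left]⟩
  have h1 : W' ≤ centralizer ({D.t} : Set G) := by
    rintro _ ⟨x, hx, rfl⟩
    have hxu : Commute x u := mem_centralizer_singleton_iff.1 (hWu hx)
    refine mem_centralizer_singleton_iff.2 ?_
    have h2 := hxu.map (MulAut.conj c⁻¹)
    rwa [show MulAut.conj c⁻¹ u = D.t by rw [← hc, MulAut.conj_apply]; group] at h2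
  have h2 := D.eq_zpowers h1 (hW.map _) hgW'
  refine le_antisymm (fun x hx => ?_) (zpowers_le.2 hgW)
  have h3 : c⁻¹ * x * c⁻¹⁻¹ ∈ zpowers D.g := h2 ▸ (mem_map_of_mem (MulAut.conj c⁻¹).toMonoidHom hx : _ ∈ W')
  obtain ⟨j, hj⟩ := mem_zpowers_iff.1 h3
  refine mem_zpowers_iff.2 ⟨j, ?_⟩
  calc D.g ^ j = c * D.g ^ j * c⁻¹ := by rw [(hcg.zpow_right j).eq, mul_inv_cancel_right]
    _ = x := by rw [hj]; group

theorem g_mem_P : D.g ∈ D.P := by
  haveI := D.fact_l
  set T := D.sylow.toSylow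
  set N := (zpowers D.g).subgroupOf (centralizer ({D.g} : Set G))
  haveI hNn : N.Normal := ⟨fun x hx y => by
    obtain ⟨j, hj⟩ := mem_zpowers_iff.1 (mem_subgroupOf.1 hx)
    have hy : Commute (y : G) D.g := mem_centralizer_singleton_iff.1 y.2
    rw [mem_subgroupOf, Subgroup.coe_mul, Subgroup.coe_mul, Subgroup.coe_inv, ← hj, (hy.zpow_right j).eq,
      mul_inv_cancel_right]
    exact zpow_mem (mem_zpowers _) _⟩
  have hN : IsPGroup D.l N := D.isPGroup_zpowers_g.comap_of_injective _ (Subgroup.subtype_injective _)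
  have h1 : N ≤ (T : Subgroup _) :=
    le_sup_left.trans (T.is_maximal' (hN.to_sup_of_normal_left T.2) le_sup_right).le
  have h2 := h1 (x := ⟨D.g, mem_centralizer_singleton_iff.2 rfl⟩) (mem_subgroupOf.2 (mem_zpowers _))
  rw [← D.sylow.map_toSylow]
  exact ⟨_, h2, rfl⟩

theorem P_le : D.P ≤ centralizer ({D.g} : Set G) := D.sylow.1

/-- A `t`-invariant `l`-subgroup containing `P` has no four group containing `t` in its normalizer. -/
theorem no_four {R : Subgroup G} (hR : IsPGroup D.l R) (hPR : D.P ≤ R)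
    (htR : D.t ∈ normalizer (R : Set G)) {b : G} (hb : orderOf b = 2) (hbt : Commute b D.t)
    (hbne : b ≠ D.t) : b ∉ normalizer (R : Set G) := by
  haveI := D.fact_l
  intro hbR
  have hgR := hPR D.g_mem_P
  have hC : ∀ u : G, orderOf u = 2 → Commute u D.g →
      R ⊓ centralizer ({u} : Set G) ≤ zpowers D.g := fun u hu hug =>
    (D.eq_zpowers_of_invol hu hug inf_le_right (hR.to_le inf_le_left)
      ⟨hgR, mem_centralizer_singleton_iff.2 hug.symm.eq⟩).le
  have hbg : Commute b D.g := by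
    refine D.commute_of_normalize (W := R ⊓ centralizer ({D.t} : Set G)) inf_le_right
      (hR.to_le inf_le_left) (mem_centralizer_singleton_iff.2 hbt.eq) (fun x hx => ?_) ⟨hgR, D.gen_mem⟩
    have hbC : b ∈ centralizer ({D.t} : Set G) := mem_centralizer_singleton_iff.2 hbt.eq
    exact ⟨(mem_normalizer_iff.1 hbR x).1 hx.1, (centralizer ({D.t} : Set G)).mul_mem
      ((centralizer ({D.t} : Set G)).mul_mem hbC hx.2) ((centralizer ({D.t} : Set G)).inv_mem hbC)⟩
  obtain ⟨A, hAc, hcyc, htA, hbA, hmin, hsq, hA2⟩ := exists_four D.order_t hb hbt.symm (Ne.symm hbne)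
  have hAg : A ≤ centralizer ({D.g} : Set G) := hmin _ (mem_centralizer_singleton_iff.2 D.g_t.symm.eq)
    (mem_centralizer_singleton_iff.2 hbg.eq)
  have hAR : A ≤ normalizer (R : Set G) := hmin _ htR hbR
  have hle : R ≤ zpowers D.g := by
    refine CfsgLib.Coprime.le_of_centralizers_le hcyc hAR ?_ fun a ha ha1 =>
      hC a (Invol.invol_iff.2 ⟨hsq a ha, ha1⟩) (mem_centralizer_singleton_iff.1 (hAg ha))
    obtain ⟨i, hi⟩ := hA2.exists_card_eq
    obtain ⟨j, hj⟩ := hR.exists_card_eq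
    rw [hi, hj]
    exact Nat.Coprime.pow i j ((Nat.coprime_primes Nat.prime_two D.hl).2 D.hl2.symm)
  obtain ⟨x, hx, hne⟩ := D.moved
  refine hne ?_
  obtain ⟨j, rfl⟩ := mem_zpowers_iff.1 (hle (hPR hx))
  rw [(D.g_t.zpow_left j).symm.eq, mul_inv_cancel_right]

/-- A subgroup containing `t` whose Sylow `2`-subgroups are `⟨t⟩` in `C(t)` has a normal `2`-complement. -/
theorem exists_odd {N : Subgroup G} (htN : D.t ∈ N)
    (hno : ∀ b ∈ N, orderOf b = 2 → Commute b D.t → b = D.t) :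
    ∃ O : Subgroup G, O ≤ N ∧ N ≤ normalizer (O : Set G) ∧ Odd (Nat.card O) ∧ Nat.card N = 2 * Nat.card O ∧
      ∀ x ∈ N, Odd (orderOf x) → x ∈ O := by
  haveI : Fact (Nat.Prime 2) := ⟨Nat.prime_two⟩
  have hord : orderOf (⟨D.t, htN⟩ : N) = 2 := by rw [← Subgroup.orderOf_coe]; exact D.order_t
  obtain ⟨T, hT⟩ := (IsPGroup.of_card (n := 1) (by rw [Nat.card_zpowers, hord, pow_one]) :
    IsPGroup 2 (zpowers (⟨D.t, htN⟩ : N))).exists_le_sylow
  have htT : (⟨D.t, htN⟩ : N) ∈ (T : Subgroup N) := hT (mem_zpowers _)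
  obtain ⟨S, hS⟩ := (T.2.map N.subtype).exists_le_sylow
  have hcomm : ∀ x ∈ (T : Subgroup N), ∀ y ∈ (T : Subgroup N), (x : G) * y = y * x := fun x hx y hy =>
    congrArg Subtype.val (D.abTwo S ⟨_, hS ⟨x, hx, rfl⟩⟩ ⟨_, hS ⟨y, hy, rfl⟩⟩)
  have hT2 : ∀ x ∈ (T : Subgroup N), (x : G) * x = 1 → x = 1 ∨ (x : G) = D.t := by
    intro x hx hxx
    rcases eq_or_ne x 1 with h | h
    · exact Or.inl h
    · exact Or.inr (hno x x.2 (Invol.invol_iff.2 ⟨hxx, fun e => h (Subtype.ext e)⟩) (hcomm x hx _ htT))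
  have h4 : ¬ 4 ∣ Nat.card N := by
    intro h
    have h2 : 4 ∣ Nat.card (T : Subgroup N) := T.pow_dvd_card_of_pow_dvd_card (n := 2) h
    have hsub : ((T : Subgroup N) : Set N) ⊆ {1, ⟨D.t, htN⟩} := fun x hx => by
      rcases hT2 x hx (D.elemTwo S _ (hS ⟨x, hx, rfl⟩)) with h | h
      · exact Or.inl h
      · exact Or.inr (Subtype.ext h)
    have h3 := (Set.ncard_le_ncard hsub (Set.toFinite _)).trans (Set.ncard_insert_le _ _)
    rw [Set.ncard_singleton] at h3
    have h5 : ((T : Subgroup N) : Set N).ncard = Nat.card (T : Subgroup N) := rfl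
    have h6 := Nat.le_of_dvd Nat.card_pos h2
    omega
  obtain ⟨O, hO⟩ := CfsgLib.ReeType.exists_odd_part N
    (D.order_t ▸ (Subgroup.orderOf_dvd_natCard N htN)) h4
  exact ⟨O, hO⟩

/-- An element centralizing an involution and normalising an `l`-subgroup it centralizes. -/
theorem commute_of_normalize' {W : Subgroup G} {a : G} (ha : orderOf a = 2)
    (hWa : W ≤ centralizer ({a} : Set G)) (hW : IsPGroup D.l W) {u : G} (hu : Commute u a)
    (hn : ∀ x ∈ W, u * x * u⁻¹ ∈ W) {x : G} (hx : x ∈ W) : Commute u x := by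
  obtain ⟨c, hc⟩ := D.invol_conj a ha
  set f := MulAut.conj c⁻¹ with hf
  have hft : f a = D.t := by rw [hf, ← hc, MulAut.conj_apply]; group
  have h1 : W.map f.toMonoidHom ≤ centralizer ({D.t} : Set G) := by
    rintro _ ⟨y, hy, rfl⟩
    refine mem_centralizer_singleton_iff.2 ?_
    have h := (show Commute y a from mem_centralizer_singleton_iff.1 (hWa hy)).map f
    rwa [hft] at h
  have h2 : Commute (f u) D.t := hft ▸ hu.map f
  have h3 := D.commute_of_normalize h1 (hW.map _) (mem_centralizer_singleton_iff.2 h2.eq)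
    (by
      rintro _ ⟨y, hy, rfl⟩
      exact ⟨u * y * u⁻¹, hn y hy, by simp⟩) (mem_map_of_mem f.toMonoidHom hx)
  have h4 := h3.map f.symm
  simpa using h4

theorem weight_prime : ((D.w : ZMod D.l)) ^ D.p = 1 := by
  haveI := D.fact_l
  obtain ⟨x, hx, hne⟩ := D.moved
  set z := x⁻¹ * (D.t * x * D.t⁻¹) with hz
  have hzP : z ∈ D.P := mul_mem (inv_mem hx) (D.stable x hx)
  have hinv : D.t * z * D.t⁻¹ = z⁻¹ := hz ▸ conj_inverted D.order_t x
  have hz1 : z ≠ 1 := fun e => hne (mul_left_cancel (e.trans (inv_mul_cancel x).symm) :)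
  have hw := D.weight z hzP hinv
  obtain ⟨i, hi⟩ := D.sylow.isPGroup ⟨z, hzP⟩
  have hi' : z ^ D.l ^ i = 1 := congrArg Subtype.val hi
  obtain ⟨j, -, hj⟩ := (Nat.dvd_prime_pow D.hl).1 (orderOf_dvd_of_pow_eq_one hi')
  have hj0 : j ≠ 0 := fun e => hz1 (orderOf_eq_one_iff.1 (by rw [hj, e, pow_zero]))
  have h1 : D.w ^ D.p ≡ 1 [MOD D.l] :=
    (pow_eq_pow_iff_modEq.1 (hw.trans (pow_one z).symm)).of_dvd (hj ▸ dvd_pow_self D.l hj0)
  have h2 := (ZMod.natCast_eq_natCast_iff _ _ _).2 h1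
  simpa using h2

theorem odd_p : D.p ≠ 2 := by
  intro e
  haveI := D.fact_l
  haveI : Fact (1 < D.l) := ⟨D.hl.one_lt⟩
  have h := D.weight_prime
  rw [e] at h
  refine D.weight_sq ?_
  have h2 := congrArg ZMod.val h
  rwa [← Nat.cast_pow, ZMod.val_natCast, ZMod.val_one] at h2

/-- An element of the normalizer of the unique subgroup of order `l` of `⟨g⟩` centralizes it. -/
theorem commute_of_normalize_prime {m : G} {d : G} (hd : d ∈ zpowers D.g) (hd1 : d ≠ 1)
    (hm : ∀ x ∈ zpowers d, m * x * m⁻¹ ∈ zpowers d) : Commute m d := by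
  have hdt : Commute d D.t := by
    obtain ⟨j, rfl⟩ := mem_zpowers_iff.1 hd
    exact D.g_t.zpow_left j
  have hmap : (zpowers d).map (MulAut.conj m).toMonoidHom = zpowers d :=
    eq_of_le_of_card_ge (by rintro _ ⟨x, hx, rfl⟩; exact hm x hx)
      (card_map_of_injective (MulAut.conj m).injective).ge
  set u := m * D.t * m⁻¹ with hudef
  have hu : orderOf u = 2 := by
    rw [show u = MulAut.conj m D.t from rfl, MulEquiv.orderOf_eq]; exact D.order_t
  have hud : Commute u d := by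
    obtain ⟨x, hx, hxd⟩ := hmap.ge (mem_zpowers d)
    obtain ⟨j, rfl⟩ := mem_zpowers_iff.1 hx
    have h := (hdt.zpow_left j).symm.map (MulAut.conj m).toMonoidHom
    rwa [hxd] at h
  obtain ⟨c, hcd, hc⟩ := D.fuse d hd hd1 u hu hud
  have hcm : Commute (c⁻¹ * m) D.t := by
    have e : m * D.t * m⁻¹ = c * D.t * c⁻¹ := hc.symm
    calc c⁻¹ * m * D.t = c⁻¹ * (m * D.t * m⁻¹) * m := by group
      _ = D.t * (c⁻¹ * m) := by rw [e]; group
  have hn : ∀ x ∈ zpowers d, c⁻¹ * m * x * (c⁻¹ * m)⁻¹ ∈ zpowers d := fun x hx => by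
    obtain ⟨j, hj⟩ := mem_zpowers_iff.1 (hm x hx)
    have e : c⁻¹ * m * x * (c⁻¹ * m)⁻¹ = c⁻¹ * (m * x * m⁻¹) * c := by group
    rw [e, ← hj, ((hcd.inv_left).zpow_right j).eq, mul_assoc, inv_mul_cancel, mul_one]
    exact zpow_mem (mem_zpowers _) _
  have h := D.commute_of_normalize (W := zpowers d)
    (zpowers_le.2 (mem_centralizer_singleton_iff.2 hdt.eq))
    (D.isPGroup_zpowers_g.to_le (zpowers_le.2 hd))
    (mem_centralizer_singleton_iff.2 hcm.eq) hn (mem_zpowers d)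
  simpa using hcd.mul_left h

theorem n_mem {x : G} (hx : x ∈ D.P) : D.n * x * D.n⁻¹ ∈ D.P := by
  haveI := D.fact_l
  have htt := Invol.invol_mul_self D.order_t
  have e : D.t⁻¹ = D.t := inv_eq_of_mul_eq_one_right htt
  set y := D.t * x * D.t⁻¹ with hy
  have hyP : y ∈ D.P := D.stable x hx
  have hty : D.t * y * D.t⁻¹ = x := by
    rw [hy, show D.t * (D.t * x * D.t⁻¹) * D.t⁻¹ = (D.t * D.t) * x * (D.t⁻¹ * D.t⁻¹) by group, htt, e, htt,
      one_mul, mul_one]
  have hfix : x * y ∈ zpowers D.g := by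
    have h1 : D.t * (x * y) * D.t⁻¹ = x * y := by
      rw [show D.t * (x * y) * D.t⁻¹ = (D.t * x * D.t⁻¹) * (D.t * y * D.t⁻¹) by group, hty, ← hy,
        D.comm y hyP x hx]
    have hW := D.eq_zpowers (W := D.P ⊓ centralizer ({D.t} : Set G)) inf_le_right
      (D.sylow.isPGroup.to_le inf_le_left) ⟨D.g_mem_P, D.gen_mem⟩
    exact hW.le ⟨mul_mem hx hyP, mem_centralizer_singleton_iff.2 (mul_inv_eq_iff_eq_mul.1 h1).symm⟩
  have h1 : D.n * (x * y) * D.n⁻¹ ∈ D.P := by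
    obtain ⟨j, hj⟩ := mem_zpowers_iff.1 hfix
    rw [← hj, (D.n_g.zpow_right j).eq, mul_inv_cancel_right]
    exact zpow_mem D.g_mem_P j
  have h2 : D.n * (x * y⁻¹) * D.n⁻¹ ∈ D.P := by
    rw [D.act _ (mul_mem hx (inv_mem hyP)) (by
      rw [show D.t * (x * y⁻¹) * D.t⁻¹ = (D.t * x * D.t⁻¹) * (D.t * y * D.t⁻¹)⁻¹ by group, hty, ← hy,
        mul_inv_rev, inv_inv])]
    exact pow_mem (mul_mem hx (inv_mem hyP)) _
  have hxx : (x * y) * (x * y⁻¹) = x ^ 2 := by
    rw [D.comm x hx y hyP, pow_two, show y * x * (x * y⁻¹) = y * (x * x) * y⁻¹ by group,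
      D.comm y hyP _ (mul_mem hx hx), mul_inv_cancel_right]
  have h3 : D.n * x ^ 2 * D.n⁻¹ ∈ D.P := by
    rw [← hxx, show D.n * (x * y * (x * y⁻¹)) * D.n⁻¹ =
      (D.n * (x * y) * D.n⁻¹) * (D.n * (x * y⁻¹) * D.n⁻¹) by group]
    exact mul_mem h1 h2
  obtain ⟨i, hi⟩ := D.sylow.isPGroup ⟨x, hx⟩
  have hi' : x ^ D.l ^ i = 1 := congrArg Subtype.val hi
  obtain ⟨m, hm⟩ := ((D.hl.odd_of_ne_two D.hl2).pow : Odd (D.l ^ i))
  have hx2 : x = (x ^ 2) ^ (m + 1) := by
    rw [← pow_mul, show 2 * (m + 1) = D.l ^ i + 1 by omega, pow_add, hi', one_mul, pow_one]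
  rw [hx2, ← conj_pow]
  exact pow_mem h3 _

theorem conj_pow_mem {y : G} (hy : ∀ x ∈ D.P, y * x * y⁻¹ = D.n * x * D.n⁻¹) (i : ℕ) :
    ∀ x ∈ D.P, y ^ i * x * (y ^ i)⁻¹ = D.n ^ i * x * (D.n ^ i)⁻¹ ∧ D.n ^ i * x * (D.n ^ i)⁻¹ ∈ D.P := by
  induction i with
  | zero => intro x hx; simpa using hx
  | succ i ih =>
    intro x hx
    obtain ⟨h1, h2⟩ := ih x hx
    have e1 : D.n ^ (i + 1) * x * (D.n ^ (i + 1))⁻¹ = D.n * (D.n ^ i * x * (D.n ^ i)⁻¹) * D.n⁻¹ := by
      rw [pow_succ']; group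
    refine ⟨?_, e1 ▸ D.n_mem h2⟩
    rw [e1, ← hy _ h2, ← h1, pow_succ']
    group

theorem commutator_eq_top : commutator G = ⊤ := by
  haveI := D.simple
  refine (IsSimpleGroup.eq_bot_or_eq_top_of_normal (commutator G) inferInstance).resolve_left
    fun h => D.noncomm ⟨⟨fun a b => ?_⟩⟩
  have h1 : ⁅a, b⁆ ∈ commutator G := commutator_mem_commutator (mem_top a) (mem_top b)
  rw [h, mem_bot] at h1
  exact commutatorElement_eq_one_iff_mul_comm.1 h1

/-- A Sylow subgroup lies in the commutator with the normalizer of the centre of its Thompson subgroup. -/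
theorem sylow_le_commutator [Fact D.l.Prime] (S : Sylow D.l G) :
    (S : Subgroup G) ≤ ⁅(S : Subgroup G),
      normalizer (Cfsg.centerThompsonOf D.l (S : Subgroup G) : Set G)⁆ := by
  have hfree := not_involves_slTwo D.abTwo D.hl2
  have h := CfsgLib.Fusion.commutator_inf_eq_focal (CfsgLib.Fusion.coprime_card_focalQuotient S)
  rw [D.commutator_eq_top, top_inf_eq] at h
  refine h.le.trans (CfsgLib.Fusion.focalSubgroup_le_of_control fun x hx g hgx => ?_)
  obtain ⟨n, hn, h⟩ := Cfsg.Agent.S0118.result D.hl2 hfree S {x} (Set.singleton_subset_iff.2 hx) g⁻¹ (by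
    rintro _ ⟨a, rfl, rfl⟩
    show g⁻¹⁻¹ * a * g⁻¹ ∈ (S : Subgroup G)
    rw [inv_inv]; exact hgx)
  exact ⟨n⁻¹, inv_mem hn, by simpa using h x rfl⟩

/-- A Sylow subgroup of `G` containing `P` and normalised by `t`. -/
theorem exists_sylow [Fact D.l.Prime] :
    ∃ S : Sylow D.l G, D.P ≤ S ∧ D.t ∈ normalizer ((S : Subgroup G) : Set G) := by
  haveI : Fact (Nat.Prime 2) := ⟨Nat.prime_two⟩
  have htt := Invol.invol_mul_self D.order_t
  have et : D.t⁻¹ = D.t := inv_eq_of_mul_eq_one_right htt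
  have htP : D.t ∈ normalizer (D.P : Set G) := mem_normalizer_iff.2 fun x => ⟨D.stable x, fun h => by
    have h2 := D.stable _ h
    rwa [show D.t * (D.t * x * D.t⁻¹) * D.t⁻¹ = (D.t * D.t) * x * (D.t⁻¹ * D.t⁻¹) by group, htt, et, htt,
      one_mul, mul_one] at h2⟩
  obtain ⟨R, hPR, hR⟩ := exists_maximal_ge_of_wellFoundedGT
    (fun W : Subgroup G => IsPGroup D.l W ∧ D.t ∈ normalizer (W : Set G)) D.P ⟨D.sylow.isPGroup, htP⟩
  obtain ⟨hRp, htR⟩ := hR.prop
  set NR := normalizer (R : Set G) with hNR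
  obtain ⟨O, hON, hNO, hOodd, hcard, hmem⟩ := D.exists_odd (N := NR) htR fun b hb hb2 hbt =>
    by_contra fun hne => D.no_four hRp hPR htR hb2 hbt hne hb
  have hoddR : ∀ x ∈ R, Odd (orderOf x) := fun x hx => by
    obtain ⟨i, hi⟩ := hRp ⟨x, hx⟩
    exact ((D.hl.odd_of_ne_two D.hl2).pow : Odd (D.l ^ i)).of_dvd_nat
      (orderOf_dvd_of_pow_eq_one (congrArg Subtype.val hi :))
  have hRO : R ≤ O := fun x hx => hmem x (le_normalizer hx) (hoddR x hx)
  obtain ⟨P', hP', hRP', htP'⟩ := CfsgLib.Coprime.le_invariant_sylow (A := zpowers D.t) (K := O)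
    (zpowers_le.2 (hNO htR))
    (by rw [Nat.card_zpowers, D.order_t]; exact Nat.coprime_two_left.2 hOodd)
    (Or.inl (CfsgLib.Coprime.isSolvable_of_isMulCommutative inferInstance)) hRO hRp (zpowers_le.2 htR)
  obtain rfl : R = P' := hR.eq_of_le ⟨hP'.isPGroup, htP' (mem_zpowers _)⟩ hRP'
  have hcardR : Nat.card R = D.l ^ (Nat.card NR).factorization D.l := by
    rw [hP'.2, hcard, Nat.factorization_mul (by norm_num) Nat.card_pos.ne']
    have : (2 : ℕ).factorization D.l = 0 := Nat.factorization_eq_zero_of_not_dvd fun h =>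
      D.hl2 ((Nat.prime_dvd_prime_iff_eq D.hl Nat.prime_two).1 h)
    simp [this]
  refine ⟨Sylow.ofCard R ?_, hPR, htR⟩
  rw [hcardR]
  congr 1
  refine le_antisymm ((Nat.factorization_le_iff_dvd Nat.card_pos.ne' Nat.card_pos.ne').2
    (card_subgroup_dvd_card _) D.l) (not_lt.1 fun hlt => ?_)
  have h1 : D.l ^ ((Nat.card NR).factorization D.l + 1) ∣ Nat.card G :=
    (pow_dvd_pow D.l hlt).trans (Nat.ordProj_dvd _ _)
  have h2 := Sylow.prime_pow_dvd_card_normalizer h1 hcardR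
  have h3 := (Nat.Prime.pow_dvd_iff_le_factorization D.hl Nat.card_pos.ne').1 h2
  rw [← hNR] at h3
  omega

/-- The configuration does not exist. -/
theorem false : False := by
  classical
  haveI := D.fact_l
  haveI : Fact (Nat.Prime 2) := ⟨Nat.prime_two⟩
  obtain ⟨S, hPS, htR⟩ := D.exists_sylow
  set R := (S : Subgroup G) with hRdef
  have htt := Invol.invol_mul_self D.order_t
  have et : D.t⁻¹ = D.t := inv_eq_of_mul_eq_one_right htt
  have hgR : D.g ∈ R := hPS D.g_mem_P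
  have hCRt : R ⊓ centralizer ({D.t} : Set G) = zpowers D.g :=
    D.eq_zpowers inf_le_right (S.2.to_le inf_le_left) ⟨hgR, D.gen_mem⟩
  have hCRg : ∀ r ∈ R, Commute D.g r → r ∈ D.P := by
    have hW : R ⊓ centralizer ({D.g} : Set G) = D.P := by
      refine (eq_of_le_of_card_ge (le_inf hPS D.P_le) ?_).symm
      obtain ⟨j, hj⟩ := (S.2.to_le inf_le_left : IsPGroup D.l
        (R ⊓ centralizer ({D.g} : Set G) : Subgroup G)).exists_card_eq
      rw [hj, D.sylow.2]
      refine Nat.pow_le_pow_right D.hl.pos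
        ((Nat.Prime.pow_dvd_iff_le_factorization D.hl Nat.card_pos.ne').1 ?_)
      exact hj ▸ card_dvd_of_le inf_le_right
    exact fun r hr hc => hW.le ⟨hr, mem_centralizer_singleton_iff.2 hc.symm.eq⟩
  set Z := Cfsg.centerThompsonOf D.l R with hZdef
  set N := normalizer (Z : Set G) with hNdef
  have hRN : R ≤ N := le_normalizer.trans (CfsgLib.CFun.normalizer_le_normalizer_centerThompsonOf R)
  have htN : D.t ∈ N := CfsgLib.CFun.normalizer_le_normalizer_centerThompsonOf R htR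
  have hgC : D.g ∈ ⁅N, N⁆ := commutator_mono hRN le_rfl (D.sylow_le_commutator S hgR)
  have hZR : Z ≤ R := inf_le_left.trans (CfsgLib.Fusion.thompsonSubgroupOf_le _)
  have hmemZ : ∀ x ∈ R, x ^ D.l = 1 → (∀ r ∈ R, r * x = x * r) → x ∈ Z := fun x hx hxl hc =>
    (closure_le _).2 (fun y hy => hy.1)
      (CfsgLib.BaumannBlock.omegaOneCenter_le_omegaOne_centerThompson S
        (subset_closure ⟨⟨hx, mem_centralizer_iff.2 hc⟩, hxl⟩))
  -- an involution of `N` commuting with `t` is `t`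
  have hno : ∀ b ∈ N, orderOf b = 2 → Commute b D.t → b = D.t := by
    intro b hbN hb hbt
    by_contra hbne
    obtain ⟨A, hAc, hcyc, htA, hbA, hmin, hsq, hA2⟩ := exists_four D.order_t hb hbt.symm (Ne.symm hbne)
    have hAN : A ≤ N := hmin _ htN hbN
    have hle : Z ≤ centralizer ({D.t} : Set G) := by
      refine CfsgLib.Coprime.le_of_centralizers_le hcyc hAN ?_ fun a ha ha1 x hx => ?_
      · obtain ⟨i, hi⟩ := hA2.exists_card_eq
        obtain ⟨j, hj⟩ := (S.2.to_le hZR).exists_card_eq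
        rw [hi, hj]
        exact Nat.Coprime.pow i j ((Nat.coprime_primes Nat.prime_two D.hl).2 D.hl2.symm)
      have hta : Commute D.t a := congrArg Subtype.val (mul_comm' (⟨D.t, htA⟩ : A) ⟨a, ha⟩)
      refine mem_centralizer_singleton_iff.2 (D.commute_of_normalize' (W := Z ⊓ centralizer ({a} : Set G))
        (Invol.invol_iff.2 ⟨hsq a ha, ha1⟩) inf_le_right ((S.2.to_le hZR).to_le inf_le_left) hta ?_ hx).symm.eq
      intro y hy
      refine ⟨(mem_normalizer_iff.1 htN y).1 hy.1, mem_centralizer_singleton_iff.2 ?_⟩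
      exact ((hta.mul_left (mem_centralizer_singleton_iff.1 hy.2)).mul_left hta.inv_left).eq
    have hZg : Z ≤ zpowers D.g := hCRt ▸ le_inf hZR hle
    -- a central element of order `l`
    have hRnt : Nontrivial R := ⟨⟨1, one_mem _⟩, ⟨D.g, hgR⟩, fun e => D.g_ne_one (congrArg Subtype.val e).symm⟩
    haveI := S.2.center_nontrivial
    obtain ⟨⟨⟨z, hzR⟩, hzc⟩, hz1⟩ := exists_prime_orderOf_dvd_card' (G := Subgroup.center R) D.l (by
      obtain ⟨j, hj⟩ := (S.2.to_subgroup (Subgroup.center R)).exists_card_eq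
      rw [hj]
      refine dvd_pow_self _ fun e => ?_
      have h := Finite.one_lt_card (α := Subgroup.center R)
      rw [hj, e, pow_zero] at h
      exact lt_irrefl _ h)
    have hzord : orderOf z = D.l := by
      rw [← hz1, ← Subgroup.orderOf_coe, ← Subgroup.orderOf_coe]
    have hzl : z ^ D.l = 1 := hzord ▸ pow_orderOf_eq_one z
    have hzZ : z ∈ Z := hmemZ z hzR hzl fun r hr => congrArg Subtype.val (mem_center_iff.1 hzc ⟨r, hr⟩)
    set d := D.g ^ D.l ^ D.k with hd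
    have hdord : orderOf d = D.l := by
      rw [hd, orderOf_pow' _ (pow_ne_zero _ D.hl.ne_zero), D.order_g,
        Nat.gcd_eq_right (pow_dvd_pow _ D.k.le_succ), pow_succ, Nat.mul_div_cancel_left _ (pow_pos D.hl.pos _)]
    have hsub : ∀ y ∈ zpowers D.g, y ^ D.l = 1 → y ∈ zpowers d := by
      intro y hy hyl
      obtain ⟨j, hj⟩ := (isOfFinOrder_of_finite D.g).mem_powers_iff_mem_zpowers.2 hy
      rw [← hj, ← pow_mul] at hyl
      have h2 := orderOf_dvd_of_pow_eq_one hyl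
      rw [D.order_g, pow_succ] at h2
      obtain ⟨i, rfl⟩ := Nat.dvd_of_mul_dvd_mul_right D.hl.pos h2
      exact ⟨(i : ℤ), by show d ^ (i : ℤ) = y; rw [zpow_natCast, hd, ← pow_mul]; exact hj⟩
    have hd1 : d ≠ 1 := fun e => D.hl.ne_one (by rw [← hdord, e, orderOf_one])
    have hdZ : d ∈ Z := by
      have h1 : zpowers z = zpowers d :=
        eq_of_le_of_card_ge (zpowers_le.2 (hsub z (hZg hzZ) hzl))
          (by rw [Nat.card_zpowers, Nat.card_zpowers, hdord, hzord])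
      exact (zpowers_le.2 hzZ) (h1.ge (mem_zpowers d))
    have hNd : ∀ m ∈ N, Commute m d := fun m hm =>
      D.commute_of_normalize_prime (pow_mem (mem_zpowers _) _) hd1 fun x hx => by
        obtain ⟨j, rfl⟩ := mem_zpowers_iff.1 hx
        rw [← conj_zpow]
        refine zpow_mem (hsub _ (hZg ((mem_normalizer_iff.1 hm d).1 hdZ)) ?_) j
        rw [conj_pow, ← hdord, pow_orderOf_eq_one, mul_one, mul_inv_cancel]
    rcases D.up with hk | ⟨B, _, χ, hχ⟩
    · have hdg : d = D.g := by rw [hd, hk, pow_zero, pow_one]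
      have hRP : ∀ r ∈ R, r ∈ D.P := fun r hr => hCRg r hr (hdg ▸ (hNd r (hRN hr)).symm)
      obtain ⟨x, hx, hne⟩ := D.moved
      have key : ∀ y ∈ D.P, D.t * y * D.t⁻¹ = y⁻¹ → y ^ D.l = 1 → y = 1 := by
        intro y hy hyt hyl
        obtain ⟨j, rfl⟩ := mem_zpowers_iff.1 (hZg (hmemZ y (hPS hy) hyl fun r hr => D.comm r (hRP r hr) y hy))
        rw [(D.g_t.zpow_left j).symm.eq, mul_inv_cancel_right, eq_inv_iff_mul_eq_one] at hyt
        obtain ⟨m, hm⟩ := D.hl.odd_of_ne_two D.hl2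
        rw [hm, pow_succ, pow_mul, pow_two, hyt, one_pow, one_mul] at hyl
        exact hyl
      set z' := x⁻¹ * (D.t * x * D.t⁻¹) with hz'
      have hz'P : z' ∈ D.P := mul_mem (inv_mem hx) (D.stable x hx)
      have hinv : D.t * z' * D.t⁻¹ = z'⁻¹ := hz' ▸ conj_inverted D.order_t x
      obtain ⟨i, hi⟩ := D.sylow.isPGroup ⟨z', hz'P⟩
      have hi' : z' ^ D.l ^ i = 1 := congrArg Subtype.val hi
      have : ∀ i : ℕ, z' ^ D.l ^ i = 1 → z' = 1 := by
        intro i
        induction i with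
        | zero => simp
        | succ i ih =>
          intro h
          refine ih (key _ (pow_mem hz'P _) ?_ (by rw [← pow_mul, ← pow_succ]; exact h))
          rw [← conj_pow, hinv, inv_pow]
      exact hne (mul_left_cancel ((this i hi').trans (inv_mul_cancel x).symm) :)
    · have hNC : N ≤ centralizer ({d} : Set G) := fun m hm => mem_centralizer_singleton_iff.2 (hNd m hm).eq
      have h1 := commutator_mono hNC hNC hgC
      rw [← map_subtype_commutator] at h1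
      obtain ⟨y, hy, hyg⟩ := h1
      exact hχ (by
        rw [show (⟨D.g, _⟩ : ↥(centralizer ({D.g ^ D.l ^ D.k} : Set G))) = y from Subtype.ext hyg.symm]
        exact Abelianization.commutator_subset_ker χ hy)
  obtain ⟨O, hON, hNO, hOodd, hcard, hmem⟩ := D.exists_odd (N := N) htN hno
  have hidx : (O.subgroupOf N).index = 2 := by
    have h := Subgroup.card_mul_index (O.subgroupOf N)
    rw [Nat.card_congr (subgroupOfEquivOfLe hON).toEquiv, hcard, mul_comm 2] at h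
    exact Nat.eq_of_mul_eq_mul_left Nat.card_pos h
  have hmul : ∀ a ∈ N, ∀ b ∈ N, (a * b ∈ O ↔ (a ∈ O ↔ b ∈ O)) := fun a ha b hb => by
    have h := mul_mem_iff_of_index_two hidx (a := ⟨a, ha⟩) (b := ⟨b, hb⟩)
    simpa [mem_subgroupOf] using h
  have htO : D.t ∉ O := fun h => by
    have h1 := Subgroup.orderOf_dvd_natCard O h
    rw [D.order_t] at h1
    exact Nat.not_even_iff_odd.2 hOodd (even_iff_two_dvd.2 h1)
  have hRO : R ≤ O := fun x hx => hmem x (hRN hx) (by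
    obtain ⟨i, hi⟩ := S.2 ⟨x, hx⟩
    exact ((D.hl.odd_of_ne_two D.hl2).pow : Odd (D.l ^ i)).of_dvd_nat
      (orderOf_dvd_of_pow_eq_one (congrArg Subtype.val hi :)))
  -- an element of `O` inducing the weight
  obtain ⟨m, hm, hma⟩ := Cfsg.Agent.S0118.result D.hl2 (not_involves_slTwo D.abTwo D.hl2) S (D.P : Set G)
    hPS D.n⁻¹ (by
      rintro _ ⟨a, ha, rfl⟩
      show D.n⁻¹⁻¹ * a * D.n⁻¹ ∈ (S : Subgroup G)
      rw [inv_inv]; exact hPS (D.n_mem ha))
  have hy0 : ∀ x ∈ D.P, m⁻¹ * x * m⁻¹⁻¹ = D.n * x * D.n⁻¹ := fun x hx => by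
    simpa using hma x hx
  obtain ⟨h, hh⟩ := D.hp.odd_of_ne_two D.odd_p
  have hnp1 : D.n ^ (D.p + 1) = D.n := by rw [pow_succ, D.order_n, one_mul]
  set y1 := m⁻¹ ^ (D.p + 1) with hy1def
  have hy1N : y1 ∈ N := pow_mem (inv_mem hm) _
  have hy1O : y1 ∈ O := by
    have e : y1 = m⁻¹ ^ (h + 1) * m⁻¹ ^ (h + 1) := by rw [hy1def, ← pow_add]; congr 1; omega
    rw [e]
    exact (hmul _ (pow_mem (inv_mem hm) _) _ (pow_mem (inv_mem hm) _)).2 Iff.rfl
  have hy1 : ∀ x ∈ D.P, y1 * x * y1⁻¹ = D.n * x * D.n⁻¹ := fun x hx => by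
    have h := (D.conj_pow_mem hy0 (D.p + 1) x hx).1
    rwa [hnp1] at h
  set K0 : Subgroup G := O ⊓ centralizer (D.P : Set G) with hK0
  have hnormP : ∀ a : G, (∀ x ∈ D.P, a * x * a⁻¹ ∈ D.P) → a ∈ normalizer (D.P : Set G) := fun a ha =>
    CfsgLib.Coprime.conjBy_eq_self_iff.1 (eq_of_le_of_card_ge (by rintro _ ⟨x, hx, rfl⟩; exact ha x hx)
      (CfsgLib.Coprime.card_conjBy a _).ge)
  have hK0norm : ∀ a ∈ N, (∀ x ∈ D.P, a * x * a⁻¹ ∈ D.P) → a ∈ normalizer (K0 : Set G) := fun a ha haP =>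
    CfsgLib.Coprime.inf_le_normalizer (A := normalizer (O : Set G) ⊓ normalizer (D.P : Set G)) inf_le_left
      (inf_le_right.trans (CfsgLib.Coprime.normalizer_le_normalizer_centralizer _)) ⟨hNO ha, hnormP a haP⟩
  have hfixn : ∀ x ∈ D.P, D.t * y1 * D.t⁻¹ * x * (D.t * y1 * D.t⁻¹)⁻¹ = D.n * x * D.n⁻¹ := fun x hx => by
    have h1 : D.t * x * D.t⁻¹ ∈ D.P := D.stable x hx
    have h2 := hy1 _ h1
    calc D.t * y1 * D.t⁻¹ * x * (D.t * y1 * D.t⁻¹)⁻¹
        = D.t * (y1 * (D.t⁻¹ * x * D.t) * y1⁻¹) * D.t⁻¹ := by group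
      _ = D.t * (D.n * (D.t * x * D.t⁻¹) * D.n⁻¹) * D.t⁻¹ := by rw [et] at h2 ⊢; rw [h2]
      _ = D.n * ((D.t * D.t) * x * (D.t⁻¹ * D.t⁻¹)) * D.n⁻¹ := by
          rw [show D.t * (D.n * (D.t * x * D.t⁻¹) * D.n⁻¹) * D.t⁻¹ =
            (D.t * D.n) * (D.t * x * D.t⁻¹) * (D.t * D.n)⁻¹ by group, ← D.n_t.eq]
          group
      _ = D.n * x * D.n⁻¹ := by rw [htt, et, htt, one_mul, mul_one]
  have hcomK : D.t * y1 * D.t⁻¹ * y1⁻¹ ∈ K0 := by
    refine ⟨O.mul_mem ((mem_normalizer_iff.1 (hNO htN) y1).1 hy1O) (O.inv_mem hy1O), mem_centralizer_iff.2 fun x hx => ?_⟩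
    have hy1P : y1 ∈ normalizer (D.P : Set G) := hnormP y1 fun x hx => hy1 x hx ▸ D.n_mem hx
    have hx2 : y1⁻¹ * x * y1⁻¹⁻¹ ∈ D.P := (mem_normalizer_iff.1 ((normalizer (D.P : Set G)).inv_mem hy1P) x).1 hx
    have h3 : (D.t * y1 * D.t⁻¹ * y1⁻¹) * x * (D.t * y1 * D.t⁻¹ * y1⁻¹)⁻¹ = x := by
      rw [show (D.t * y1 * D.t⁻¹ * y1⁻¹) * x * (D.t * y1 * D.t⁻¹ * y1⁻¹)⁻¹ =
        D.t * y1 * D.t⁻¹ * (y1⁻¹ * x * y1⁻¹⁻¹) * (D.t * y1 * D.t⁻¹)⁻¹ by group, hfixn _ hx2, ← hy1 _ hx2]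
      group
    exact (mul_inv_eq_iff_eq_mul.1 h3).symm
  obtain ⟨k0, hk0, hk0t⟩ := CfsgLib.Coprime.exists_fixed_in_coset (A := zpowers D.t) (N := K0) (k := y1)
    (zpowers_le.2 (hK0norm D.t htN D.stable))
    (by rw [Nat.card_zpowers, D.order_t]; exact Nat.coprime_two_left.2 (hOodd.of_dvd_nat (card_dvd_of_le inf_le_left)))
    (Or.inl (CfsgLib.Coprime.isSolvable_of_isMulCommutative inferInstance))
    (hK0norm y1 hy1N fun x hx => hy1 x hx ▸ D.n_mem hx) (fun a ha => by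
      obtain ⟨j, rfl⟩ := mem_zpowers_iff.1 ha
      rcases Int.even_or_odd j with ⟨i, rfl⟩ | ⟨i, rfl⟩
      · rw [zpow_add, ← (Commute.refl D.t).mul_zpow, htt, one_zpow]; simp
      · rw [zpow_add, zpow_one, zpow_mul, zpow_ofNat, pow_two, htt, one_zpow, one_mul]; exact hcomK)
  set y2 := y1 * k0 with hy2def
  have hy2O : y2 ∈ O := mul_mem hy1O hk0.1
  have hy2t : Commute y2 D.t := (mem_centralizer_iff.1 hk0t D.t (mem_zpowers _)).symm
  have hy2 : ∀ x ∈ D.P, y2 * x * y2⁻¹ = D.n * x * D.n⁻¹ := fun x hx => by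
    rw [show y2 * x * y2⁻¹ = y1 * (k0 * x * k0⁻¹) * y1⁻¹ by rw [hy2def]; group,
      show k0 * x * k0⁻¹ = x by rw [← mem_centralizer_iff.1 hk0.2 x hx, mul_inv_cancel_right], hy1 x hx]
  obtain ⟨a, b, hpb, hab⟩ := Nat.exists_eq_pow_mul_and_not_dvd (orderOf_pos y2).ne' D.p D.hp.ne_one
  set e := b ^ (D.p - 1) with he
  have hep : e % D.p = 1 := by
    haveI : Fact D.p.Prime := ⟨D.hp⟩
    haveI : Fact (1 < D.p) := ⟨D.hp.one_lt⟩
    have h1 := ZMod.pow_card_sub_one_eq_one (a := (b : ZMod D.p))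
      (fun hb => hpb ((ZMod.natCast_eq_zero_iff _ _).1 hb))
    have h2 := congrArg ZMod.val h1
    rwa [← Nat.cast_pow, ZMod.val_natCast, ZMod.val_one] at h2
  set n1 := y2 ^ e with hn1def
  have hn1O : n1 ∈ O := pow_mem hy2O _
  have hn1t : Commute n1 D.t := hy2t.pow_left _
  have hn1ord : n1 ^ D.p ^ a = 1 := by
    obtain ⟨c, hc⟩ : b ∣ e := dvd_pow_self _ (by have := D.hp.two_le; omega)
    rw [hn1def, ← pow_mul, hc, mul_right_comm, mul_comm b, ← hab, pow_mul, pow_orderOf_eq_one, one_pow]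
  have hn1 : ∀ x ∈ D.P, n1 * x * n1⁻¹ = D.n * x * D.n⁻¹ := fun x hx => by
    have h := (D.conj_pow_mem hy2 e x hx).1
    rwa [pow_eq_pow_mod e D.order_n, hep, pow_one] at h
  -- the exponent
  obtain ⟨M, hM⟩ := S.2.exists_card_eq
  set E := (D.l ^ M) ^ (D.p - 1) with hE
  have hEp : E % D.p = 1 := by
    haveI : Fact D.p.Prime := ⟨D.hp⟩
    haveI : Fact (1 < D.p) := ⟨D.hp.one_lt⟩
    have h1 := ZMod.pow_card_sub_one_eq_one (a := ((D.l ^ M : ℕ) : ZMod D.p))
      (fun hb => D.hpl ((Nat.prime_dvd_prime_iff_eq D.hp D.hl).1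
        (D.hp.dvd_of_dvd_pow ((ZMod.natCast_eq_zero_iff _ _).1 hb))))
    have h2 := congrArg ZMod.val h1
    rwa [← Nat.cast_pow, ZMod.val_natCast, ZMod.val_one] at h2
  set w' := D.w ^ E with hw'
  have hweight : ∀ r ∈ R, r ^ w' ^ D.p = r := by
    intro r hr
    have h1 : (D.l : ℤ) ∣ (D.w : ℤ) ^ D.p - 1 := by
      rw [← ZMod.intCast_zmod_eq_zero_iff_dvd]
      push_cast
      rw [D.weight_prime, sub_self]
    have h2 := dvd_sub_pow_of_dvd_sub h1 (M * (D.p - 1))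
    rw [one_pow, pow_mul D.l M, ← hE, ← pow_mul, mul_comm D.p E, pow_mul] at h2
    have h3 : 1 ≡ w' ^ D.p [MOD D.l ^ M] := by
      rw [Nat.modEq_iff_dvd]
      push_cast
      refine (pow_dvd_pow (D.l : ℤ) ?_).trans h2
      exact (Nat.le_mul_of_pos_right M (by have := D.hp.two_le; omega)).trans (Nat.le_succ _)
    have h4 : orderOf r ∣ D.l ^ M := hM ▸ Subgroup.orderOf_dvd_natCard _ hr
    rw [← pow_one r, ← pow_mul, one_mul]
    exact pow_eq_pow_iff_modEq.2 (h3.symm.of_dvd h4)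
  have hpowE : ∀ x ∈ D.P, D.t * x * D.t⁻¹ = x⁻¹ → x ^ w' = x ^ D.w := by
    intro x hx hxt
    have : ∀ s : ℕ, x ^ D.w ^ (1 + D.p * s) = x ^ D.w := by
      intro s
      induction s with
      | zero => simp
      | succ s ih =>
        rw [show 1 + D.p * (s + 1) = D.p + (1 + D.p * s) by ring, pow_add, pow_mul, D.weight x hx hxt, ih]
    have h := this (E / D.p)
    rwa [show 1 + D.p * (E / D.p) = E by have := Nat.mod_add_div E D.p; omega] at h
  have hw'sq : ¬ (w' ^ 2) % D.l = 1 := by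
    haveI : Fact (1 < D.l) := ⟨D.hl.one_lt⟩
    intro h
    refine D.weight_sq ?_
    have e2 : ((D.w : ZMod D.l)) ^ E = D.w := by
      rw [← Nat.mod_add_div E D.p, hEp, pow_add, pow_one, pow_mul, D.weight_prime, one_pow, mul_one]
    have e3 : ((w' ^ 2 : ℕ) : ZMod D.l) = ((D.w ^ 2 : ℕ) : ZMod D.l) := by
      rw [hw']; push_cast; rw [e2]
    have e4 := congrArg ZMod.val e3
    rw [ZMod.val_natCast, ZMod.val_natCast] at e4
    rw [← e4, h]
  -- the automorphism of `O`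
  have hOt : ∀ y ∈ O, D.t * y * D.t⁻¹ ∈ O := fun y hy => (mem_normalizer_iff.1 (hNO htN) y).1 hy
  have hττ : ∀ y : G, D.t * (D.t * y * D.t⁻¹) * D.t⁻¹ = y := fun y => by
    rw [show D.t * (D.t * y * D.t⁻¹) * D.t⁻¹ = (D.t * D.t) * y * (D.t⁻¹ * D.t⁻¹) by group, htt, et, htt,
      one_mul, mul_one]
  let τ : MulAut O :=
    { toFun := fun y => ⟨D.t * y * D.t⁻¹, hOt y y.2⟩
      invFun := fun y => ⟨D.t * y * D.t⁻¹, hOt y y.2⟩
      left_inv := fun y => Subtype.ext (hττ y)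
      right_inv := fun y => Subtype.ext (hττ y)
      map_mul' := fun a b => Subtype.ext (by push_cast; group) }
  have hfixC : ∀ y : O, τ y = y → (y : G) ∈ centralizer ({D.t} : Set G) := fun y hy =>
    mem_centralizer_singleton_iff.2 (mul_inv_eq_iff_eq_mul.1 (congrArg Subtype.val hy)).symm
  have hgO : D.g ∈ O := hRO hgR
  have hCH : CoreHyp O D.l D.p w' τ (R.subgroupOf O) ⟨D.g, hgO⟩ ⟨n1, hn1O⟩ :=
    { odd := hOodd
      solvable := Cfsg.Agent.S0205.result hOodd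
      hl := D.hl
      hl2 := D.hl2
      hp := D.hp
      hpl := D.hpl
      invol := fun y => Subtype.ext (hττ y)
      sylow := ⟨S.subtype hRO, rfl⟩
      stable := fun r hr => (mem_normalizer_iff.1 htR (r : G)).1 hr
      g_mem := hgR
      g_fix := Subtype.ext (show D.t * D.g * D.t⁻¹ = D.g by rw [D.g_t.symm.eq, mul_inv_cancel_right])
      n_fix := Subtype.ext (show D.t * n1 * D.t⁻¹ = n1 by rw [hn1t.symm.eq, mul_inv_cancel_right])
      order_n := ⟨a, Subtype.ext hn1ord⟩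
      comm := Subtype.ext (show D.g * n1 = n1 * D.g by
        have h := hn1 D.g D.g_mem_P
        rw [D.n_g.eq, mul_inv_cancel_right] at h
        exact (mul_inv_eq_iff_eq_mul.1 h).symm)
      fix := fun r hr hrt => by
        obtain ⟨j, hj⟩ := mem_zpowers_iff.1 (hCRt.le ⟨hr, hfixC r hrt⟩)
        exact mem_zpowers_iff.2 ⟨j, Subtype.ext (by rw [Subgroup.coe_zpow]; exact hj)⟩
      base := fun r hr hc hrt => Subtype.ext (by
        have hrP := hCRg r hr (congrArg Subtype.val hc)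
        have hrt' : D.t * r * D.t⁻¹ = (r : G)⁻¹ := congrArg Subtype.val hrt
        show n1 * r * n1⁻¹ = ((r ^ w' : O) : G)
        rw [Subgroup.coe_pow, hn1 _ hrP, D.act _ hrP hrt', hpowE _ hrP hrt'])
      weight := fun r hr => Subtype.ext (by rw [Subgroup.coe_pow]; exact hweight _ hr)
      weight_sq := hw'sq }
  let ι : ↥(fixed τ) →* ↥(centralizer ({D.t} : Set G)) :=
    { toFun := fun y => ⟨(y.1 : G), hfixC y.1 y.2⟩
      map_one' := rfl
      map_mul' := fun _ _ => rfl }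
  obtain ⟨χ, hχτ, hχ⟩ := exists_extension hCH D.hA (D.θ.comp ι)
  have hout : ∀ x : N, (x : G) ∉ O → (x : G) * D.t ∈ O := fun x hx => (hmul _ x.2 _ htN).2 (iff_of_false hx htO)
  let f : N → D.A := fun x => if h : (x : G) ∈ O then χ ⟨x, h⟩ else χ ⟨(x : G) * D.t, hout x h⟩
  have hf : ∀ x y : N, f (x * y) = f x * f y := by
    intro x y
    have hxy := hmul _ x.2 _ y.2
    by_cases hx : (x : G) ∈ O <;> by_cases hy : (y : G) ∈ O
    · have h : ((x * y : N) : G) ∈ O := mul_mem hx hy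
      simp only [f, dif_pos hx, dif_pos hy, dif_pos h]
      rw [← map_mul]; rfl
    · have h : ((x * y : N) : G) ∉ O := fun h => hy ((hxy.1 h).1 hx)
      simp only [f, dif_pos hx, dif_neg hy, dif_neg h]
      rw [← map_mul]; exact congrArg χ (Subtype.ext (mul_assoc _ _ _))
    · have h : ((x * y : N) : G) ∉ O := fun h => hx ((hxy.1 h).2 hy)
      simp only [f, dif_neg hx, dif_pos hy, dif_neg h]
      rw [← hχτ ⟨y, hy⟩, ← map_mul]
      refine congrArg χ (Subtype.ext ?_)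
      show (x : G) * y * D.t = x * D.t * (D.t * y * D.t⁻¹)
      rw [et, show (x : G) * D.t * (D.t * y * D.t) = x * (D.t * D.t) * y * D.t by group, htt, mul_one]
    · have h : ((x * y : N) : G) ∈ O := hxy.2 (iff_of_false hx hy)
      simp only [f, dif_neg hx, dif_neg hy, dif_pos h]
      rw [← hχτ ⟨(y : G) * D.t, hout y hy⟩, ← map_mul]
      refine congrArg χ (Subtype.ext ?_)
      show (x : G) * y = x * D.t * (D.t * (y * D.t) * D.t⁻¹)
      rw [show (x : G) * D.t * (D.t * (y * D.t) * D.t⁻¹) = x * (D.t * D.t) * y by group, htt, mul_one]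
  rw [← map_subtype_commutator] at hgC
  obtain ⟨z, hz, hzg⟩ := hgC
  have h1 : f z = 1 := Abelianization.commutator_subset_ker (MonoidHom.mk' f hf) hz
  have hzg' : (z : G) = D.g := hzg
  have hzO : (z : G) ∈ O := hzg' ▸ hgO
  have hgfix : (⟨D.g, hgO⟩ : O) ∈ fixed τ := hCH.g_fix
  have h2 : D.θ ⟨D.g, D.gen_mem⟩ = 1 := by
    have h3 := hχ ⟨⟨D.g, hgO⟩, hgfix⟩
    simp only [f, dif_pos hzO] at h1
    rw [show (⟨(z : G), hzO⟩ : O) = ⟨D.g, hgO⟩ from Subtype.ext hzg'] at h1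
    exact (h3.symm.trans h1)
  exact D.g_ne_one (congrArg Subtype.val
    (D.inj ⟨D.g, D.gen_mem⟩ (D.k + 1) (Subtype.ext (show D.g ^ D.l ^ (D.k + 1) = 1 by
      rw [← D.order_g, pow_orderOf_eq_one])) h2))

end Torus

end CfsgLib.Walter.Outer
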