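import Cfsg.Agent.Lib.Walter.Outer.Quot
import Cfsg.Agent.Lib.Walter.Outer.Local

/-!
# The `l`-part of the field part and the torus it would give

`Part` packages the generator `g` of the `l`-part of `Φ.D`. If `C(g)/⟨g⟩` has an abelian Sylow `l`-subgroup
inverted by an involution, with an element of order `p` acting on it as a scalar of order `p`, then the
configuration `Torus` appears.
-/

set_option autoImplicit false
set_option linter.unusedSectionVars false
set_option linter.style.haveILetI false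

namespace CfsgLib.Walter.Outer

open Subgroup
open CfsgLib.BGroup.FieldKill (Frame)

universe u

variable {G : Type u} [Group G] [Finite G]

/-- The `l`-part of the field part. -/
structure Part (Φ : Frame G) where
  l : ℕ
  k : ℕ
  g : G
  θ : ↥(centralizer ({Φ.t} : Set G)) →* zpowers g
  hl : l.Prime
  hl2 : l ≠ 2
  mem : g ∈ Φ.D
  order : orderOf g = l ^ (k + 1)
  gen : ∀ x, ∃ j : ℕ, ∀ hg, θ x = θ ⟨g, hg⟩ ^ j
  order_θ : ∀ hg, orderOf (θ ⟨g, hg⟩) = l ^ (k + 1)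
  ker : ∀ (x : ↥(centralizer ({Φ.t} : Set G))) (i : ℕ), x ^ l ^ i = 1 → θ x = 1 →
    ∃ a, (a = 1 ∨ a = Φ.t) ∧ ∃ k' ∈ Φ.K, (x : G) = a * k'
  top : ∀ x : G, x ∈ Φ.D → ∀ i : ℕ, x ^ l ^ i = 1 → x ∈ zpowers g

variable {Φ : Frame G}

theorem exists_part {l : ℕ} (hl : l.Prime) (hd : l ∣ Nat.card Φ.D) : ∃ P : Part Φ, P.l = l := by
  have hl2 : l ≠ 2 := fun e => Nat.not_even_iff_odd.2 Φ.D_odd (even_iff_two_dvd.2 (e ▸ hd))
  obtain ⟨g, k, cg, θ, hg, hgo, -, hgen, hord, hker, htop⟩ := exists_theta Φ hl hd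
  exact ⟨{
    l := l, k := k, g := g, θ := θ, hl := hl, hl2 := hl2, mem := hg, order := hgo
    gen := hgen, order_θ := hord, ker := hker
    top := fun x hx i hi => htop ⟨x, mem_centralizer_singleton_iff.2 (Φ.D_comm_t hx).eq⟩ i hx hi }, rfl⟩

theorem comm_central {H : Type u} [Group H] {v v' X Y : H} (h : ∀ u, Commute v u) (h' : ∀ u, Commute v' u) :
    (v * X) * (v' * Y) * (v * X)⁻¹ * (v' * Y)⁻¹ = X * Y * X⁻¹ * Y⁻¹ := by
  calc (v * X) * (v' * Y) * (v * X)⁻¹ * (v' * Y)⁻¹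
      = v * (X * v') * Y * X⁻¹ * (v⁻¹ * Y⁻¹) * v'⁻¹ := by group
    _ = v * (v' * X) * Y * X⁻¹ * (Y⁻¹ * v⁻¹) * v'⁻¹ := by rw [(h' X).eq, (h Y⁻¹).inv_left.eq]
    _ = (v * v') * (X * Y * X⁻¹ * Y⁻¹) * (v' * v)⁻¹ := by group
    _ = _ := by rw [((h _).mul_left (h' _)).eq, (h v').eq, mul_inv_cancel_right]

namespace Part

variable (P : Part Φ)

theorem fact_l : Fact P.l.Prime := ⟨P.hl⟩

theorem odd : Odd (orderOf P.g) := odd_of_mem Φ P.mem

theorem mem_C : P.g ∈ centralizer ({Φ.t} : Set G) :=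
  mem_centralizer_singleton_iff.2 (Φ.D_comm_t P.mem).eq

theorem ne_one : P.g ≠ 1 := fun e => by
  have h := P.order
  rw [e, orderOf_one] at h
  exact (one_lt_pow₀ P.hl.one_lt P.k.succ_ne_zero).ne h

theorem isPGroup : IsPGroup P.l (zpowers P.g) :=
  IsPGroup.of_card (n := P.k + 1) (by rw [Nat.card_zpowers, P.order])

/-- `θ` is injective on the `l`-elements. -/
theorem inj (hK : ¬ P.l ∣ Nat.card Φ.K) (x : ↥(centralizer ({Φ.t} : Set G))) (i : ℕ)
    (hx : x ^ P.l ^ i = 1) (hθ : P.θ x = 1) : x = 1 := by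
  obtain ⟨a, ha, c, hc, he⟩ := P.ker x i hx hθ
  have hac : Commute a c := by
    rcases ha with rfl | rfl
    exacts [Commute.one_left c, (Φ.K_comm c hc).symm]
  have h1 : a ^ P.l ^ i * c ^ P.l ^ i = 1 := by
    rw [← hac.mul_pow, ← he, ← Subgroup.coe_pow, hx, Subgroup.coe_one]
  have hodd : Odd (P.l ^ i) := (P.hl.odd_of_ne_two P.hl2).pow
  have ha' : a ^ P.l ^ i = a := by
    rcases ha with rfl | rfl
    · exact one_pow _
    · obtain ⟨j, hj⟩ := hodd
      rw [hj, pow_succ, pow_mul, pow_two, Φ.sq_t, one_pow, one_mul]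
  rw [ha'] at h1
  have hca : c ^ P.l ^ i = 1 := by
    rcases ha with rfl | rfl
    · rwa [one_mul] at h1
    · refine absurd ?_ Φ.t_notMem
      rw [eq_inv_of_mul_eq_one_left h1]
      exact inv_mem (pow_mem hc _)
  have hc1 : c = 1 := by
    refine orderOf_eq_one_iff.1 (Nat.eq_one_of_dvd_coprimes ?_ (orderOf_dvd_of_pow_eq_one hca)
      (Subgroup.orderOf_dvd_natCard _ hc))
    exact (P.hl.coprime_iff_not_dvd.2 hK).pow_left i
  refine Subtype.ext ?_
  rw [hca, mul_one] at h1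
  rcases ha with rfl | rfl
  · rw [he, hc1, one_mul, Subgroup.coe_one]
  · exact absurd h1 (Invol.invol_ne_one Φ.ht)

/-- An `l`-subgroup of `C(t)` is not larger than `⟨g⟩`. -/
theorem card_le (hK : ¬ P.l ∣ Nat.card Φ.K) {W : Subgroup G} (hW : W ≤ centralizer ({Φ.t} : Set G))
    (hp : IsPGroup P.l W) : Nat.card W ≤ P.l ^ (P.k + 1) := by
  rw [← P.order, ← Nat.card_zpowers]
  refine Nat.card_le_card_of_injective (fun x => P.θ (inclusion hW x)) ?_
  show Function.Injective (P.θ.comp (inclusion hW))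
  rw [injective_iff_map_eq_one]
  intro x hx
  obtain ⟨i, hi⟩ := hp x
  exact inclusion_injective hW ((P.inj hK _ i (by rw [← map_pow, hi, map_one]) hx).trans (map_one _).symm)

/-- An `l`-element of `C(t)` is conjugate there to a power of `g`. -/
theorem exists_conj_mem (hK : ¬ P.l ∣ Nat.card Φ.K) {x : G} (hx : Commute x Φ.t) {i : ℕ}
    (hxi : x ^ P.l ^ i = 1) : ∃ c, Commute c Φ.t ∧ c * x * c⁻¹ ∈ zpowers P.g := by
  haveI := P.fact_l
  set C := centralizer ({Φ.t} : Set G)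
  have hle : zpowers P.g ≤ C := zpowers_le.2 P.mem_C
  obtain ⟨R, hR⟩ := (P.isPGroup.comap_of_injective C.subtype C.subtype_injective).exists_le_sylow
  have hRe : ((R : Subgroup C).map C.subtype) = zpowers P.g := by
    refine (eq_of_le_of_card_ge (fun y hy => mem_map.2 ⟨⟨y, hle hy⟩, hR hy, rfl⟩) ?_).symm
    rw [Nat.card_zpowers, P.order]
    exact P.card_le hK (map_subtype_le _) (R.2.map _)
  obtain ⟨d, hdvd, hd⟩ := (Nat.dvd_prime_pow P.hl).1
    (orderOf_dvd_of_pow_eq_one (show (⟨x, mem_centralizer_singleton_iff.2 hx.eq⟩ : C) ^ P.l ^ i = 1 from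
      Subtype.ext hxi))
  obtain ⟨c, hc⟩ := Invol.exists_conj_le_sylow
    (IsPGroup.of_card (n := d) (by rw [Nat.card_zpowers, hd]) :
      IsPGroup P.l (zpowers (⟨x, mem_centralizer_singleton_iff.2 hx.eq⟩ : C))) R
  exact ⟨c, mem_centralizer_singleton_iff.1 c.2, hRe ▸ mem_map_of_mem C.subtype (hc _ (mem_zpowers _))⟩

/-- A prime with `l ∤ q₁ (q₁² - 1)` does not divide the order of `K`. -/
theorem not_dvd_K {q₁ n : ℕ} (hq : q₁ ^ P.l ^ n = Fintype.card Φ.F) (h0 : ¬ P.l ∣ q₁)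
    (h1 : ¬ P.l ∣ q₁ - 1) (h2 : ¬ P.l ∣ q₁ + 1) : ¬ P.l ∣ Nat.card Φ.K := by
  haveI := P.fact_l
  have hcard := BGroup.FieldKill.two_mul_card_psl (F := Φ.F) Φ.two_ne
  rw [← Nat.card_congr Φ.e.toEquiv] at hcard
  intro h
  have hd : P.l ∣ Fintype.card Φ.F * ((Fintype.card Φ.F - 1) * (Fintype.card Φ.F + 1)) :=
    hcard ▸ h.mul_left 2
  have hz : ((Fintype.card Φ.F : ℕ) : ZMod P.l) = (q₁ : ZMod P.l) := by
    rw [← hq, Nat.cast_pow, ZMod.pow_card_pow]
  have hq1 : 1 ≤ q₁ := by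
    rcases Nat.eq_zero_or_pos q₁ with rfl | h'
    · exact absurd (dvd_zero _) h0
    · exact h'
  have := Fintype.card_pos (α := Φ.F)
  rcases P.hl.dvd_mul.1 hd with h' | h'
  · exact h0 ((ZMod.natCast_eq_zero_iff _ _).1 (hz ▸ (ZMod.natCast_eq_zero_iff _ _).2 h'))
  rcases P.hl.dvd_mul.1 h' with h' | h'
  · refine h1 ((ZMod.natCast_eq_zero_iff _ _).1 ?_)
    have h'' := (ZMod.natCast_eq_zero_iff _ _).2 h'
    rw [Nat.cast_sub (by omega), Nat.cast_one] at h'' ⊢
    rwa [hz] at h''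
  · refine h2 ((ZMod.natCast_eq_zero_iff _ _).1 ?_)
    have h'' := (ZMod.natCast_eq_zero_iff _ _).2 h'
    rw [Nat.cast_add, Nat.cast_one] at h'' ⊢
    rwa [hz] at h''

/-- The configuration gives a torus. -/
theorem false_of_scalar (h : Eight G) (hsec : SectionsOK G) (hK : ¬ P.l ∣ Nat.card Φ.K)
    {S : Subgroup (Lx P.g)} (hS : IsPGroup P.l S) (hSi : ¬ P.l ∣ S.index) (hne : S ≠ ⊥)
    (hcomm : ∀ a ∈ S, ∀ b ∈ S, Commute a b) {s b : Lx P.g} (hs : orderOf s = 2)
    (hinv : ∀ y ∈ S, s * y * s⁻¹ = y⁻¹) (hbs : Commute b s) {p w : ℕ} (hp : p.Prime) (hpl : p ≠ P.l)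
    (hb : b ^ p = 1) (hact : ∀ y ∈ S, b * y * b⁻¹ = y ^ w) (hw : ¬ (w ^ 2) % P.l = 1) : False := by
  classical
  haveI := P.fact_l
  set π := px P.g with hπ
  have hgo := P.odd
  set tb : Lx P.g := π ⟨Φ.t, t_mem_Cx Φ P.mem⟩ with htb
  obtain ⟨c₀, hc₀⟩ := conj_px h Φ P.mem hs
  set φ := MulAut.conj c₀⁻¹ with hφ
  have hφs : φ s = tb := by
    rw [hφ, MulAut.conj_apply, ← hc₀, htb, hπ]; group
  set R := S.map φ.toMonoidHom with hR
  set b' := φ b with hb'
  have hbt : Commute b' tb := hφs ▸ hbs.map φ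
  have hinv' : ∀ y ∈ R, tb * y * tb⁻¹ = y⁻¹ := by
    rintro _ ⟨y, hy, rfl⟩
    show tb * φ y * tb⁻¹ = (φ y)⁻¹
    rw [← hφs, ← map_inv, ← map_mul, ← map_mul, hinv y hy, map_inv]
  have hact' : ∀ y ∈ R, b' * y * b'⁻¹ = y ^ w := by
    rintro _ ⟨y, hy, rfl⟩
    show φ b * φ y * (φ b)⁻¹ = φ y ^ w
    rw [← map_inv, ← map_mul, ← map_mul, hact y hy, map_pow]
  -- the lift of `b`
  obtain ⟨c, hc⟩ := QuotientGroup.mk'_surjective (Kx P.g) b'
  have hct : Commute (c : G) Φ.t :=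
    lift_commute hgo (u := ⟨Φ.t, t_mem_Cx Φ P.mem⟩) Φ.ht (hc.symm ▸ hbt)
  have hcg : Commute (c : G) P.g := mem_centralizer_singleton_iff.1 c.2
  have hbp' : b' ^ p = 1 := by rw [hb', ← map_pow, hb, map_one]
  have hcp : ((c : G) ^ p) ^ P.l ^ (P.k + 1) = 1 := by
    have h1 : ((c ^ p : Cx P.g) : G) ∈ zpowers P.g :=
      px_eq_one_iff.1 (by rw [map_pow, show px P.g c = b' from hc, hbp'])
    rw [Subgroup.coe_pow] at h1
    rw [← P.order]
    exact orderOf_dvd_iff_pow_eq_one.1 (orderOf_dvd_of_mem_zpowers h1)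
  have hco : (P.l ^ (P.k + 1)).Coprime p :=
    ((Nat.coprime_primes P.hl hp).2 (Ne.symm hpl)).pow_left _
  obtain ⟨e, he⟩ := Nat.exists_mul_mod_eq_one_of_coprime hco hp.one_lt
  set E := P.l ^ (P.k + 1) * e with hE
  set n : G := (c : G) ^ E with hn
  have hnp : n ^ p = 1 := by
    rw [hn, ← pow_mul, mul_comm, pow_mul, hE, pow_mul, hcp, one_pow]
  have hπn : π (c ^ E) = b' := by
    rw [map_pow, show π c = b' from hc, ← Nat.mod_add_div E p, show E % p = 1 from he.2, pow_add, pow_one,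
      pow_mul, hbp', one_pow, mul_one]
  -- the preimage
  set Q := (R.comap π).map (Cx P.g).subtype with hQ
  have hQmem : ∀ y, y ∈ Q ↔ ∃ y' : Cx P.g, (y' : G) = y ∧ π y' ∈ R := fun y =>
    ⟨fun ⟨y', h1, h2⟩ => ⟨y', h2, h1⟩, fun ⟨y', h1, h2⟩ => ⟨y', h2, h1⟩⟩
  have hRp : IsPGroup P.l R := hS.map _
  have hker : IsPGroup P.l π.ker := by
    rw [hπ, px, QuotientGroup.ker_mk']
    exact P.isPGroup.comap_of_injective _ (Subgroup.subtype_injective _)
  have hQp : IsPGroup P.l (R.comap π) := hRp.comap_of_ker_isPGroup π hker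
  have hQi : ¬ P.l ∣ (R.comap π).index := by
    rw [index_comap_of_surjective _ (QuotientGroup.mk'_surjective _), hR]
    rwa [show (S.map φ.toMonoidHom).index = S.index from Subgroup.index_map_equiv S φ]
  have hinvx : ∀ x : Cx P.g, π x ∈ R → (Φ.t * x * Φ.t⁻¹ : G) ∈ Q ∧
      π (⟨Φ.t, t_mem_Cx Φ P.mem⟩ * x * ⟨Φ.t, t_mem_Cx Φ P.mem⟩⁻¹) = (π x)⁻¹ := by
    intro x hx
    have h1 : π (⟨Φ.t, t_mem_Cx Φ P.mem⟩ * x * ⟨Φ.t, t_mem_Cx Φ P.mem⟩⁻¹) = (π x)⁻¹ := by
      rw [map_mul, map_mul, map_inv]; exact hinv' _ hx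
    exact ⟨(hQmem _).2 ⟨_, rfl, h1.symm ▸ inv_mem hx⟩, h1⟩
  -- `n` acts as `w` on the inverted elements
  have hact'' : ∀ x ∈ Q, Φ.t * x * Φ.t⁻¹ = x⁻¹ → n * x * n⁻¹ = x ^ w := by
    intro x hx hxt
    obtain ⟨x', rfl, hxR⟩ := (hQmem x).1 hx
    set z : G := ((x' : G) ^ w)⁻¹ * (n * x' * n⁻¹) with hz
    have hzg : z ∈ zpowers P.g := by
      have h1 : π ((x' ^ w)⁻¹ * (c ^ E * x' * (c ^ E)⁻¹)) = 1 := by
        rw [map_mul, map_inv, map_pow, map_mul, map_mul, map_inv, hπn, hact' _ hxR, inv_mul_cancel]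
      have := px_eq_one_iff.1 h1
      push_cast at this
      exact this
    obtain ⟨j, hj⟩ := mem_zpowers_iff.1 hzg
    have hzt : Φ.t * z * Φ.t⁻¹ = z := by
      rw [← hj, ((Φ.D_comm_t P.mem).zpow_left j).symm.eq, mul_inv_cancel_right]
    have hnt : Φ.t * n * Φ.t⁻¹ = n := by rw [(hct.pow_left E).symm.eq, mul_inv_cancel_right]
    have hzc : ∀ y : Cx P.g, Commute z (y : G) := fun y =>
      hj ▸ (show Commute P.g (y : G) from (mem_centralizer_singleton_iff.1 y.2).symm).zpow_left j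
    have hnx : n * x' * n⁻¹ = (x' : G) ^ w * z := by rw [hz]; group
    have h2 : Φ.t * (n * x' * n⁻¹) * Φ.t⁻¹ = (n * x' * n⁻¹)⁻¹ := by
      rw [show Φ.t * (n * x' * n⁻¹) * Φ.t⁻¹ =
        (Φ.t * n * Φ.t⁻¹) * (Φ.t * x' * Φ.t⁻¹) * (Φ.t * n * Φ.t⁻¹)⁻¹ by group, hnt, hxt]
      group
    have h3 : Φ.t * ((x' : G) ^ w * z) * Φ.t⁻¹ = ((x' : G) ^ w)⁻¹ * z := by
      rw [show Φ.t * ((x' : G) ^ w * z) * Φ.t⁻¹ = (Φ.t * (x' : G) ^ w * Φ.t⁻¹) * (Φ.t * z * Φ.t⁻¹) by group,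
        hzt, ← conj_pow, hxt, inv_pow]
    rw [hnx, h3, mul_inv_rev, (((hzc x').pow_right w).inv_left.inv_right).eq] at h2
    have h4 : z * z = 1 := eq_inv_iff_mul_eq_one.1 (mul_left_cancel h2)
    have hz1 : z = 1 := Invol.eq_one_of_odd_of_mul_self
      (hgo.of_dvd_nat (orderOf_dvd_of_mem_zpowers hzg)) h4
    rw [hnx, hz1, mul_one]
  -- `Q` is abelian
  have hRc : ∀ a ∈ R, ∀ a' ∈ R, Commute a a' := by
    rintro _ ⟨a, ha, rfl⟩ _ ⟨a', ha', rfl⟩
    exact (hcomm a ha a' ha').map φ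
  have hQc : ∀ a ∈ Q, ∀ a' ∈ Q, a * a' = a' * a := by
    intro a ha a' ha'
    obtain ⟨x, rfl, hx⟩ := (hQmem a).1 ha
    obtain ⟨y, rfl, hy⟩ := (hQmem a').1 ha'
    set z : Cx P.g := x * y * x⁻¹ * y⁻¹ with hz
    have hzK : (z : G) ∈ zpowers P.g := px_eq_one_iff.1 (by
      show π z = 1
      rw [hz, map_mul, map_mul, map_mul, map_inv, map_inv, (hRc _ hx _ hy).eq]; group)
    have hcen : ∀ (v : Cx P.g), (v : G) ∈ zpowers P.g → ∀ u : Cx P.g, Commute v u := fun v hv u => by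
      obtain ⟨j, hj⟩ := mem_zpowers_iff.1 hv
      exact Subtype.ext ((hj ▸ (show Commute P.g (u : G) from
        (mem_centralizer_singleton_iff.1 u.2).symm).zpow_left j : Commute (v : G) u)).eq
    have hzc : ∀ u : Cx P.g, Commute z u := hcen z hzK
    -- bilinearity
    have hpow : ∀ i : ℕ, x ^ i * y = z ^ i * (y * x ^ i) := by
      intro i
      induction i with
      | zero => simp
      | succ i ih =>
        rw [pow_succ', mul_assoc, ih, ← mul_assoc x, ← ((hzc x).pow_left i).eq, pow_succ, mul_assoc (z ^ i),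
          ← mul_assoc x y, show x * y = z * (y * x) by rw [hz]; group]
        group
    have hpow2 : ∀ i j : ℕ, x ^ i * y ^ j = z ^ (i * j) * (y ^ j * x ^ i) := by
      intro i j
      induction j with
      | zero => simp
      | succ j ih =>
        rw [pow_succ, ← mul_assoc, ih, mul_assoc (z ^ (i * j)), mul_assoc (y ^ j), hpow i,
          ← mul_assoc (y ^ j) (z ^ i), ← ((hzc (y ^ j)).pow_left i).eq, mul_assoc (z ^ i), ← mul_assoc,
          ← pow_add, Nat.mul_succ]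
        group
    -- the action of `n`
    have hng : Commute n P.g := hcg.pow_left E
    have hzn : n * (z : G) * n⁻¹ = z := by
      obtain ⟨j, hj⟩ := mem_zpowers_iff.1 hzK
      rw [← hj, (hng.zpow_right j).eq, mul_inv_cancel_right]
    have hconj : ∀ u : Cx P.g, π u ∈ R → ∃ v : Cx P.g, (v : G) ∈ zpowers P.g ∧
        c ^ E * u * (c ^ E)⁻¹ = v * u ^ w := fun u hu =>
      ⟨c ^ E * u * (c ^ E)⁻¹ * (u ^ w)⁻¹, px_eq_one_iff.1 (by
        rw [map_mul, map_inv, map_pow, map_mul, map_mul, map_inv, hπn, hact' _ hu, mul_inv_cancel]),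
        by group⟩
    obtain ⟨v, hv, hvx⟩ := hconj x hx
    obtain ⟨v', hv', hvy⟩ := hconj y hy
    have hzz : z = z ^ (w * w) := by
      have h1 : c ^ E * z * (c ^ E)⁻¹ = z := Subtype.ext (by push_cast; exact hzn)
      have h2 : c ^ E * z * (c ^ E)⁻¹ = (v * x ^ w) * (v' * y ^ w) * (v * x ^ w)⁻¹ * (v' * y ^ w)⁻¹ := by
        rw [← hvx, ← hvy, hz]; group
      have h3 := comm_central (X := x ^ w) (Y := y ^ w) (hcen v hv) (hcen v' hv')
      rw [h1, h3] at h2
      conv_lhs => rw [h2, hpow2 w w]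
      group
    have hz1 : z = 1 := by
      have hw0 : 0 < w := by
        refine Nat.pos_of_ne_zero fun e0 => hne ?_
        rw [eq_bot_iff]
        intro u hu
        have := hact u hu
        rw [e0, pow_zero] at this
        exact mem_bot.2 (conj_eq_one_iff.1 this)
      have h1 : z ^ (w * w - 1) = 1 := by
        refine mul_right_cancel (b := z) ?_
        rw [one_mul, ← pow_succ, Nat.sub_add_cancel (Nat.mul_pos hw0 hw0), ← hzz]
      refine Subtype.ext ?_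
      have h2 : ((z : G)) ^ (w * w - 1) = 1 := by rw [← Subgroup.coe_pow, h1, Subgroup.coe_one]
      refine orderOf_eq_one_iff.1 (Nat.eq_one_of_dvd_coprimes ?_
        (P.order ▸ orderOf_dvd_of_mem_zpowers hzK) (orderOf_dvd_of_pow_eq_one h2))
      refine (P.hl.coprime_iff_not_dvd.2 fun hd => hw ?_).pow_left _
      have h3 : 1 ≡ w * w [MOD P.l] := (Nat.modEq_iff_dvd' (Nat.mul_pos hw0 hw0)).2 hd
      rw [pow_two, ← h3, Nat.one_mod_eq_one.2 P.hl.ne_one]
    have h5 : x * y = y * x := by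
      rw [hz] at hz1
      exact mul_inv_eq_iff_eq_mul.1 (mul_inv_eq_one.1 hz1)
    exact congrArg Subtype.val h5
  letI cA : CommGroup (zpowers P.g) :=
    { (inferInstance : Group (zpowers P.g)) with mul_comm := fun a b => mul_comm' a b }
  refine Torus.false
    { l := P.l, p := p, k := P.k, w := w, t := Φ.t, g := P.g, n := n, P := Q, A := zpowers P.g, θ := P.θ
      hl := P.hl, hl2 := P.hl2, hp := hp, hpl := hpl
      simple := h.simple, noncomm := h.noncomm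
      abTwo := fun S a b => Subtype.ext (h.comm S a.2 b.2)
      elemTwo := fun S => (h.sylow S).2
      order_t := Φ.ht
      invol_conj := fun u hu => invol_conj h Φ hu
      hA := P.isPGroup
      inj := P.inj hK
      order_g := P.order
      g_t := Φ.D_comm_t P.mem
      gen := fun x => by obtain ⟨j, hj⟩ := P.gen x; exact ⟨j, hj _⟩
      fuse := fun x hx _ u hu hux => fuse h Φ (zpowers_le.2 P.mem hx) hu hux
      sylow := by
        rw [hQ]
        set T := hQp.toSylow hQi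
        rw [show R.comap π = (T : Subgroup (Cx P.g)) from (IsPGroup.toSylow_coe _ _).symm]
        exact CfsgLib.Coprime.isSylowIn_map T
      comm := hQc
      stable := fun x hx => by
        obtain ⟨x', rfl, hx'⟩ := (hQmem x).1 hx
        exact (hinvx x' hx').1
      moved := ?_
      n_g := hcg.pow_left E
      n_t := hct.pow_left E
      order_n := hnp
      act := hact''
      weight := ?_
      weight_sq := hw
      up := ?_ }
  · -- moved
    obtain ⟨y, hy, hy1⟩ : ∃ y ∈ R, y ≠ (1 : Lx P.g) := by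
      by_contra hc'
      push Not at hc'
      refine hne (eq_bot_iff.2 fun y hy => mem_bot.2 ?_)
      exact φ.map_eq_one_iff.1 (hc' _ (mem_map_of_mem _ hy))
    obtain ⟨x, hx⟩ := QuotientGroup.mk'_surjective (Kx P.g) y
    have hxR : π x ∈ R := by rw [show π x = y from hx]; exact hy
    refine ⟨x, (hQmem _).2 ⟨x, rfl, hxR⟩, fun hfix => hy1 ?_⟩
    have h1 : (⟨Φ.t, t_mem_Cx Φ P.mem⟩ * x * ⟨Φ.t, t_mem_Cx Φ P.mem⟩⁻¹ : Cx P.g) = x :=
      Subtype.ext (by push_cast; exact hfix)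
    have h2 := (hinvx x hxR).2
    rw [h1, show π x = y from hx] at h2
    obtain ⟨i, hi⟩ := hRp ⟨y, hy⟩
    exact Invol.eq_one_of_odd_of_mul_self
      (((P.hl.odd_of_ne_two P.hl2).pow (n := i)).of_dvd_nat
        (orderOf_dvd_of_pow_eq_one (congrArg Subtype.val hi :)))
      (by nth_rewrite 2 [h2]; rw [mul_inv_cancel])
  · -- weight
    intro x hx hxt
    have key : ∀ i : ℕ, n ^ i * x * (n ^ i)⁻¹ = x ^ w ^ i := by
      intro i
      induction i with
      | zero => simp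
      | succ i ih =>
        rw [pow_succ', show n * n ^ i * x * (n * n ^ i)⁻¹ = n * (n ^ i * x * (n ^ i)⁻¹) * n⁻¹ by group, ih,
          ← conj_pow, hact'' x hx hxt, ← pow_mul, ← pow_succ']
    have := key p
    rw [hnp, one_mul, inv_one, mul_one] at this
    exact this.symm
  · -- up
    rcases Nat.eq_zero_or_pos P.k with hk | hk
    · exact Or.inl hk
    right
    set x := P.g ^ P.l ^ P.k with hx
    have hxD : x ∈ Φ.D := pow_mem P.mem _
    have hxo : orderOf x = P.l := by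
      rw [hx, orderOf_pow_of_dvd (pow_ne_zero _ P.hl.ne_zero) (by rw [P.order, pow_succ]; exact dvd_mul_right _ _),
        P.order, pow_succ, Nat.mul_div_cancel_left _ (pow_pos P.hl.pos _)]
    obtain ⟨F₁, iF₁, iF₁', hF₁, ⟨e₁⟩⟩ := Φ.cent x hxD
    obtain ⟨F₀, _, _, hF₀, -⟩ := Φ.cent P.g P.mem
    have hq5 : 5 ≤ Fintype.card F₁ := by
      rw [hxo] at hF₁
      rw [P.order, pow_succ, pow_mul] at hF₀
      rw [Nat.pow_left_injective P.hl.ne_zero (hF₁.trans hF₀.symm)]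
      have h2 := Fintype.one_lt_card (α := F₀)
      have h3 : Fintype.card F₀ ^ 3 ≤ Fintype.card F₀ ^ P.l ^ P.k := by
        refine Nat.pow_le_pow_right (by omega) ?_
        have := P.hl.two_le
        have := P.hl2
        calc 3 ≤ P.l := by omega
          _ ≤ P.l ^ P.k := Nat.le_self_pow hk.ne' _
      have h8 : 2 ^ 3 ≤ Fintype.card F₀ ^ 3 := Nat.pow_le_pow_left h2 3
      omega
    obtain ⟨B⟩ := exists_bigData h Φ hsec hxD rfl hq5 hF₁ e₁ (fun e => by
      rw [e, orderOf_one] at hxo; exact P.hl.ne_one hxo.symm)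
    haveI := B.normal
    have hcommq : ∀ a a' : Lx x ⧸ B.N, a * a' = a' * a := by
      intro a a'
      obtain ⟨a, rfl⟩ := QuotientGroup.mk'_surjective _ a
      obtain ⟨a', rfl⟩ := QuotientGroup.mk'_surjective _ a'
      obtain ⟨n₁, hn₁, d₁, hd₁, rfl⟩ := B.decomp a
      obtain ⟨n₂, hn₂, d₂, hd₂, rfl⟩ := B.decomp a'
      rw [map_mul, map_mul, show QuotientGroup.mk' B.N n₁ = 1 from (QuotientGroup.eq_one_iff _).2 hn₁,
        show QuotientGroup.mk' B.N n₂ = 1 from (QuotientGroup.eq_one_iff _).2 hn₂, one_mul, one_mul]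
      exact (((show Commute d₁ d₂ from Subtype.ext (Φ.D_comm hd₁ hd₂).eq).map (px x)).map
        (QuotientGroup.mk' B.N)).eq
    letI cB : CommGroup (Lx x ⧸ B.N) :=
      { (inferInstance : Group (Lx x ⧸ B.N)) with mul_comm := hcommq }
    refine ⟨Lx x ⧸ B.N, cB, (QuotientGroup.mk' B.N).comp (px x), fun e1 => ?_⟩
    have h1 := B.D_trivial _ (show ((⟨P.g, _⟩ : Cx x) : G) ∈ Φ.D from P.mem)
      ((QuotientGroup.eq_one_iff _).1 e1)
    have h2 := px_eq_one_iff.1 h1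
    have h3 := orderOf_dvd_of_mem_zpowers h2
    rw [P.order, hxo] at h3
    have h4 := Nat.le_of_dvd P.hl.pos h3
    have h5 : P.l ^ 2 ≤ P.l ^ (P.k + 1) := Nat.pow_le_pow_right P.hl.pos (by omega)
    have h6 : P.l * 2 ≤ P.l ^ 2 := by rw [pow_two]; exact Nat.mul_le_mul_left _ P.hl.two_le
    have := P.hl.pos
    omega

end Part

end CfsgLib.Walter.Outer
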