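import Cfsg.Agent.Lib.Walter.Outer.Field
import Cfsg.Agent.Lib.Walter.Rank.Factor
import Cfsg.Agent.Lib.Walter.Rank.Quot

/-!
# The centralizer of a field element modulo the element

For `x ∈ Φ.D` the quotient `L = C(x)/⟨x⟩` has one class of involutions, all lifting to involutions, and
`C_L(t)` is the image of `⟨t⟩ (K ∩ C(x)) D`. If the fixed field has at least five elements the involutions
generate a simple subgroup with centralizer `2 × PSL(2, q₁)` of `t`, with abelian quotient.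
-/

set_option autoImplicit false
set_option linter.unusedSectionVars false
set_option linter.style.haveILetI false

namespace CfsgLib.Walter.Outer

open Subgroup
open scoped commutatorElement
open CfsgLib.BGroup.FieldKill (Frame)
open CfsgLib.Walter.Rank (sylow_isElementary abTwo_subgroup abTwo_of_surjective invol_conjugate)

universe u

variable {G : Type u} [Group G] [Finite G]

/-- The centralizer. -/
abbrev Cx (x : G) : Subgroup G := centralizer ({x} : Set G)

/-- The subgroup generated by the element. -/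
abbrev Kx (x : G) : Subgroup (Cx x) := (zpowers x).subgroupOf (Cx x)

instance kx_normal (x : G) : (Kx x).Normal := ⟨fun y hy c => by
  obtain ⟨j, hj⟩ := mem_zpowers_iff.1 (mem_subgroupOf.1 hy)
  have hc : Commute (c : G) x := mem_centralizer_singleton_iff.1 c.2
  rw [mem_subgroupOf, Subgroup.coe_mul, Subgroup.coe_mul, Subgroup.coe_inv, ← hj, (hc.zpow_right j).eq,
    mul_inv_cancel_right]
  exact zpow_mem (mem_zpowers _) _⟩

/-- The quotient. -/
abbrev Lx (x : G) := Cx x ⧸ Kx x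

/-- The projection. -/
abbrev px (x : G) : Cx x →* Lx x := QuotientGroup.mk' (Kx x)

theorem px_eq_one_iff {x : G} {c : Cx x} : px x c = 1 ↔ (c : G) ∈ zpowers x :=
  (QuotientGroup.eq_one_iff c).trans mem_subgroupOf

theorem px_eq_iff {x : G} {a b : Cx x} : px x a = px x b ↔ (a : G)⁻¹ * b ∈ zpowers x :=
  (QuotientGroup.eq (a := a) (b := b)).trans mem_subgroupOf

/-- A commuting pair lifts. -/
theorem lift_commute {x : G} (hx : Odd (orderOf x)) {c u : Cx x} (hu : orderOf (u : G) = 2)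
    (hc : Commute (px x c) (px x u)) : Commute (c : G) u := by
  set d := (c : G) * u * (c : G)⁻¹ * (u : G)⁻¹ with hd
  have hdx : d ∈ zpowers x := (px_eq_one_iff (c := c * u * c⁻¹ * u⁻¹)).1 (by
    rw [map_mul, map_mul, map_mul, map_inv, map_inv, hc.eq]; group)
  have hdu : Commute (u : G) d := by
    obtain ⟨i, hi⟩ := mem_zpowers_iff.1 hdx
    exact hi ▸ (show Commute (u : G) x from mem_centralizer_singleton_iff.1 u.2).zpow_right i
  have h2 : (d * u) * (d * u) = 1 := by
    rw [show d * (u : G) = (c : G) * u * (c : G)⁻¹ by rw [hd]; group,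
      show (c : G) * u * (c : G)⁻¹ * ((c : G) * u * (c : G)⁻¹) = (c : G) * ((u : G) * u) * (c : G)⁻¹ by group,
      Invol.invol_mul_self hu]
    group
  rw [hdu.mul_mul_mul_comm, Invol.invol_mul_self hu, mul_one] at h2
  have hd1 : d = 1 := Invol.eq_one_of_odd_of_mul_self (hx.of_dvd_nat (orderOf_dvd_of_mem_zpowers hdx)) h2
  exact mul_inv_eq_iff_eq_mul.1 (mul_inv_eq_one.1 (hd ▸ hd1))

/-- An involution lifts to an involution. -/
theorem lift_invol {x : G} (hx : Odd (orderOf x)) {ū : Lx x} (hu : orderOf ū = 2) :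
    ∃ u : Cx x, orderOf (u : G) = 2 ∧ px x u = ū := by
  obtain ⟨c, rfl⟩ := QuotientGroup.mk'_surjective _ ū
  obtain ⟨j, hj⟩ := hx
  have hū : px x c ^ 2 = 1 := hu ▸ pow_orderOf_eq_one _
  have hmem : (c : G) ^ 2 ∈ zpowers x := by
    rw [← Subgroup.coe_pow]; exact px_eq_one_iff.1 (by rw [map_pow, hū])
  have himg : px x (c ^ orderOf x) = px x c := by
    rw [map_pow, hj, pow_succ, pow_mul, hū, one_pow, one_mul]
  refine ⟨c ^ orderOf x, Invol.invol_iff.2 ⟨?_, fun e => ?_⟩, himg⟩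
  · rw [Subgroup.coe_pow, ← pow_add, ← two_mul, pow_mul]
    obtain ⟨i, hi⟩ := mem_zpowers_iff.1 hmem
    rw [← hi, ← zpow_natCast, ← zpow_mul, mul_comm, zpow_mul, zpow_natCast, pow_orderOf_eq_one, one_zpow]
  · rw [show c ^ orderOf x = 1 from Subtype.ext e, map_one] at himg
    rw [show QuotientGroup.mk' (Kx x) c = 1 from himg.symm, orderOf_one] at hu
    omega

theorem orderOf_px {x : G} (hx : Odd (orderOf x)) {u : Cx x} (hu : orderOf (u : G) = 2) :
    orderOf (px x u) = 2 := by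
  refine Invol.invol_iff.2 ⟨?_, fun e => ?_⟩
  · rw [← map_mul, show u * u = 1 from Subtype.ext (Invol.invol_mul_self hu), map_one]
  · exact Invol.invol_ne_one hu (Invol.eq_one_of_odd_of_mul_self
      (hx.of_dvd_nat (orderOf_dvd_of_mem_zpowers (px_eq_one_iff.1 e))) (Invol.invol_mul_self hu))

/-- The involutions of `L` correspond to those of `C(x)`. -/
theorem card_invol {x : G} (hx : Odd (orderOf x)) :
    Nat.card {u : G | orderOf u = 2 ∧ Commute u x} = Nat.card {ū : Lx x | orderOf ū = 2} := by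
  let f : {u : G | orderOf u = 2 ∧ Commute u x} → {ū : Lx x | orderOf ū = 2} := fun u =>
    ⟨px x ⟨u.1, mem_centralizer_singleton_iff.2 u.2.2.eq⟩, orderOf_px hx u.2.1⟩
  refine Nat.card_congr (Equiv.ofBijective f ⟨fun a b hab => Subtype.ext ?_, fun ū => ?_⟩)
  · set a' : Cx x := ⟨a.1, mem_centralizer_singleton_iff.2 a.2.2.eq⟩
    set b' : Cx x := ⟨b.1, mem_centralizer_singleton_iff.2 b.2.2.eq⟩
    have he : px x a' = px x b' := congrArg Subtype.val hab
    have hc : Commute (a : G) b := lift_commute hx (c := a') (u := b') b.2.1 (by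
      rw [he])
    have h1 : (a : G)⁻¹ * b ∈ zpowers x := px_eq_iff.1 he
    have h2 : (a : G)⁻¹ * b * ((a : G)⁻¹ * b) = 1 := by
      rw [hc.inv_left.symm.mul_mul_mul_comm, Invol.invol_mul_self b.2.1, mul_one, ← mul_inv_rev,
        Invol.invol_mul_self a.2.1, inv_one]
    exact inv_mul_eq_one.1 (Invol.eq_one_of_odd_of_mul_self (hx.of_dvd_nat (orderOf_dvd_of_mem_zpowers h1)) h2)
  · obtain ⟨u, hu, hue⟩ := lift_invol hx ū.2
    exact ⟨⟨u, hu, mem_centralizer_singleton_iff.1 u.2⟩, Subtype.ext hue⟩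

variable (h : Eight G) (Φ : Frame G) {x : G} (hxD : x ∈ Φ.D)

include hxD

theorem odd_of_mem : Odd (orderOf x) := ((Φ.mem_D x).1 hxD).2

theorem S_le_Cx : (Φ.S : Subgroup G) ≤ Cx x := fun _ hs =>
  mem_centralizer_singleton_iff.2 (Φ.D_comm_S hxD hs).symm.eq

theorem D_le_Cx : Φ.D ≤ Cx x := fun _ hd => mem_centralizer_singleton_iff.2 (Φ.D_comm hd hxD).eq

theorem t_mem_Cx : Φ.t ∈ Cx x := S_le_Cx Φ hxD Φ.htS

/-- The centralizer of `t` in `C(x)`. -/
theorem cent_decomp {c : G} (hcx : Commute c x) (hct : Commute c Φ.t) :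
    ∃ a, (a = 1 ∨ a = Φ.t) ∧ ∃ k ∈ Φ.K, Commute k x ∧ ∃ d ∈ Φ.D, c = a * k * d := by
  obtain ⟨a, ha, k, hk, d, hd, he⟩ := Φ.decomp c hct
  refine ⟨a, ha, k, hk, ?_, d, hd, he⟩
  have ha' : Commute a x := by
    rcases ha with rfl | rfl
    exacts [Commute.one_left x, (Φ.D_comm_t hxD).symm]
  rw [show k = a⁻¹ * c * d⁻¹ by rw [he]; group]
  exact (ha'.inv_left.mul_left hcx).mul_left (Φ.D_comm hd hxD).inv_left

include h

/-- `C(x)/⟨x⟩` has one class of involutions. -/
theorem conj_px {ū : Lx x} (hu : orderOf ū = 2) :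
    ∃ c : Lx x, c * px x ⟨Φ.t, t_mem_Cx Φ hxD⟩ * c⁻¹ = ū := by
  obtain ⟨u, hu', rfl⟩ := lift_invol (odd_of_mem Φ hxD) hu
  obtain ⟨c, hcx, hc⟩ := fuse h Φ hxD hu' (mem_centralizer_singleton_iff.1 u.2)
  refine ⟨px x ⟨c, mem_centralizer_singleton_iff.2 hcx.eq⟩, ?_⟩
  rw [← map_inv, ← map_mul, ← map_mul]
  exact congrArg (px x) (Subtype.ext hc)

omit h

/-- An element of `K` normalised inside: an element of `K` centralizing the four group lies in `S`. -/
theorem K_cent_S {k : G} (hk : k ∈ Φ.K) (hc : ∀ s ∈ (Φ.S : Subgroup G), s ∈ Φ.K → Commute k s) :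
    k ∈ (Φ.S : Subgroup G) := by
  haveI : Fact (Nat.Prime 2) := ⟨Nat.prime_two⟩
  have hkt : ∀ s ∈ (Φ.S : Subgroup G), Commute k s := by
    intro s hs
    obtain ⟨a, ha, k', hk', he⟩ := Three.mem_S_decomp Φ hs
    have haS : a ∈ (Φ.S : Subgroup G) := by rcases ha with rfl | rfl; exacts [one_mem _, Φ.htS]
    have hk'S : k' ∈ (Φ.S : Subgroup G) := by
      have := mul_mem (inv_mem haS) hs
      rwa [he, inv_mul_cancel_left] at this
    have ha' : Commute k a := by
      rcases ha with rfl | rfl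
      exacts [Commute.one_right k, Φ.K_comm k hk]
    exact he ▸ ha'.mul_right (hc k' hk'S hk')
  obtain ⟨i, m, hm, him⟩ := Nat.exists_eq_two_pow_mul_odd (orderOf_pos k).ne'
  have hmem : k ^ 2 ^ i ∈ Φ.D := (Φ.mem_D _).2 ⟨fun s hs => (hkt s hs).pow_left _,
    hm.of_dvd_nat (orderOf_dvd_of_pow_eq_one (by rw [← pow_mul, ← him, pow_orderOf_eq_one]))⟩
  have h1 : k ^ 2 ^ i = 1 := by
    have := Φ.disj 1 (Or.inl rfl) _ (pow_mem hk _) (by rwa [one_mul])
    rwa [one_mul] at this
  obtain ⟨j, -, hj⟩ := (Nat.dvd_prime_pow Nat.prime_two).1 (orderOf_dvd_of_pow_eq_one h1)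
  refine PGroup.CSylow.le_sylow_of_le_normalizer Φ.S
    (IsPGroup.of_card (p := 2) (n := j) (by rw [Nat.card_zpowers, hj])) (zpowers_le.2 ?_) (mem_zpowers k)
  exact centralizer_le_normalizer _ (mem_centralizer_iff.2 fun s hs => (hkt s hs).eq.symm)

omit hxD

/-- A nonsolvable involution centralizer excludes the linear groups from the list. -/
theorem reeForm_of_nonsolvable {Y : Type u} [Group Y] [Finite Y] (hs : IsSimpleGroup Y) (hc : CentForm Y)
    {u : Y} (hu : orderOf u = 2) (hns : ¬ Group.IsSolvable ↥(centralizer ({u} : Set Y))) : ReeForm Y := by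
  haveI := Fact.mk Nat.prime_two
  obtain ⟨P⟩ : Nonempty (Sylow 2 Y) := inferInstance
  have hP := sylow_isElementary hs hc P
  rcases hc with ⟨F, iF, iF', hq, ⟨e⟩⟩ | hr
  · exfalso
    obtain ⟨g, hg⟩ := EqualOrder2.exists_conj_into P hP hu
    obtain ⟨c⟩ := Rank.Factor.centralizer_equiv g u
    refine hns ?_
    suffices h : Group.IsSolvable (centralizer ({g * u * g⁻¹} : Set Y)) from
      Group.isSolvable_of_surjective (f := c.symm.toMonoidHom) c.symm.surjective
    rcases hq with ⟨n, hn2, hn⟩ | ⟨-, h8⟩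
    · haveI : CharP F 2 := charP_of_card_eq_prime_pow hn
      obtain ⟨e', he'⟩ := Rank.Factor.exists_even_iso e P
      refine Group.isSolvable_of_comm fun a b => Subtype.ext ?_
      have hle : ∀ y ∈ centralizer ({g * u * g⁻¹} : Set Y), y ∈ (P : Subgroup Y) := fun y hy =>
        (he' y).1 (Rank.Factor.centralizer_le_rootU ((he' _).2 hg) (fun h => Invol.invol_ne_one (Invol.invol_conj hu g)
          (e'.injective (h.trans (map_one e').symm))) (mem_centralizer_singleton_iff.2 (by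
            rw [← map_mul, ← map_mul, mem_centralizer_singleton_iff.1 hy])))
      exact (EqualOrder2.comm_of_mem P hP (hle a a.2) (hle b b.2)).eq
    · refine EqualOrder2.solvable_cent_four P hP ?_ hg (Invol.invol_conj hu g)
      rw [← card_map_of_injective (f := e.toMonoidHom) e.injective]
      exact (Rank.Factor.sylow_four h8 (P.mapSurjective (f := e.toMonoidHom) e.surjective)).1
  · exact hr

/-- The structure of `C(x)/⟨x⟩` with a fixed field of at least five elements. -/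
structure BigData (Φ : Frame G) (x : G) where
  q : ℕ
  N : Subgroup (Lx x)
  normal : N.Normal
  simple : IsSimpleGroup N
  q_pow : q ^ orderOf x = Fintype.card Φ.F
  invol_mem : ∀ u : Lx x, orderOf u = 2 → u ∈ N
  invol_conj : ∀ u : Lx x, orderOf u = 2 → ∀ v : Lx x, orderOf v = 2 → ∃ n ∈ N, n * u * n⁻¹ = v
  K_mem : ∀ k : Cx x, (k : G) ∈ Φ.K → px x k ∈ N
  decomp : ∀ y : Lx x, ∃ n ∈ N, ∃ d : Cx x, (d : G) ∈ Φ.D ∧ y = n * px x d
  D_trivial : ∀ d : Cx x, (d : G) ∈ Φ.D → px x d ∈ N → px x d = 1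
  card_invol : Nat.card {u : Lx x | orderOf u = 2} * (q * ((q - 1) * (q + 1))) = Nat.card N
  cases : (q = 5 ∧ Nat.card N = 175560) ∨
    ∃ m : ℕ, 1 ≤ m ∧ q = 3 ^ (2 * m + 1) ∧ Nat.card N = q ^ 3 * (q ^ 3 + 1) * (q - 1) ∧
      Nonempty (ReeType.Setup N q ((q + 1) / 4) ((q - 1) / 2))

include h

/-- The simple normal subgroup generated by the involutions. -/
theorem exists_bigData (hsec : SectionsOK G) (hxD : x ∈ Φ.D) {q : ℕ} {F₁ : Type} [Field F₁] [Fintype F₁]
    (hq : Fintype.card F₁ = q) (h5 : 5 ≤ q) (hpow : q ^ orderOf x = Fintype.card Φ.F)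
    (e₁ : ↥(Φ.K ⊓ centralizer ({x} : Set G)) ≃* Matrix.ProjectiveSpecialLinearGroup (Fin 2) F₁)
    (hx1 : x ≠ 1) : Nonempty (BigData Φ x) := by
  classical
  haveI : Fact (Nat.Prime 2) := ⟨Nat.prime_two⟩
  have hxo := odd_of_mem Φ hxD
  have hqodd : Odd (Fintype.card F₁) :=
    (Φ.two_ne).of_dvd_nat (by rw [← hpow, hq]; exact dvd_pow_self q (orderOf_pos x).ne')
  obtain ⟨hP1, hP1na⟩ := CfsgLib.Perm.Dickson.psl_simple_noncomm (F := F₁)
    (by rw [Nat.card_eq_fintype_card, hq]; omega)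
  haveI := hP1
  set tb : Lx x := px x ⟨Φ.t, t_mem_Cx Φ hxD⟩ with htb
  have htb2 : orderOf tb = 2 := orderOf_px hxo (u := ⟨Φ.t, t_mem_Cx Φ hxD⟩) Φ.ht
  set π := px x with hπ
  have hSC := S_le_Cx Φ hxD
  -- the subgroup `K₁`
  set K1 : Subgroup (Lx x) := (Φ.K.subgroupOf (Cx x)).map π with hK1
  have hinjK : Set.InjOn π (Φ.K.subgroupOf (Cx x)) := by
    intro a ha b hb hab
    have h1 : (a : G)⁻¹ * b ∈ zpowers x := px_eq_iff.1 hab
    have h2 := Φ.disj 1 (Or.inl rfl) _ (mul_mem (inv_mem ha) hb) (by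
      rw [one_mul]; exact zpowers_le.2 hxD h1)
    rw [one_mul] at h2
    exact Subtype.ext (inv_mul_eq_one.1 h2)
  let eK : K1 ≃* Matrix.ProjectiveSpecialLinearGroup (Fin 2) F₁ := by
    refine (MulEquiv.symm (MulEquiv.ofBijective
      ((π.comp (Φ.K.subgroupOf (Cx x)).subtype).codRestrict K1 fun a => ⟨a.1, a.2, rfl⟩) ⟨fun a b hab => ?_,
        fun y => ?_⟩)).trans ((?_ : Φ.K.subgroupOf (Cx x) ≃* ↥(Φ.K ⊓ centralizer ({x} : Set G))).trans e₁)
    · exact Subtype.ext (hinjK a.2 b.2 (congrArg Subtype.val hab))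
    · obtain ⟨a, ha, hay⟩ := y.2
      exact ⟨⟨a, ha⟩, Subtype.ext hay⟩
    · exact
        { toFun := fun a => ⟨(a : Cx x), a.2, a.1.2⟩
          invFun := fun a => ⟨⟨a.1, a.2.2⟩, a.2.1⟩
          left_inv := fun _ => rfl
          right_inv := fun _ => rfl
          map_mul' := fun _ _ => rfl }
  haveI hK1s : IsSimpleGroup K1 := by
    haveI : Nontrivial K1 := eK.toEquiv.nontrivial
    exact IsSimpleGroup.isSimpleGroup_of_surjective eK.symm.toMonoidHom eK.symm.surjective
  have hK1card : 2 * Nat.card K1 = q * ((q - 1) * (q + 1)) := by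
    rw [Nat.card_congr eK.toEquiv, BGroup.FieldKill.two_mul_card_psl hqodd, hq]
  -- the image of `S`
  set SN : Sylow 2 (Cx x) := Φ.S.subtype hSC
  set T : Sylow 2 (Lx x) := SN.mapSurjective (QuotientGroup.mk'_surjective _)
  have hT : (T : Subgroup (Lx x)) = (SN : Subgroup (Cx x)).map π := Sylow.coe_mapSurjective _ _
  have hinjS : Set.InjOn π (SN : Subgroup (Cx x)) := by
    intro a ha b hb hab
    have h1 : (a : G)⁻¹ * b ∈ zpowers x := px_eq_iff.1 hab
    have h2 : ((a : G)⁻¹ * b) * ((a : G)⁻¹ * b) = 1 := by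
      rw [← pow_two]; exact Φ.hS.2 _ (mul_mem (inv_mem ha) hb)
    exact Subtype.ext (inv_mul_eq_one.1
      (Invol.eq_one_of_odd_of_mul_self (hxo.of_dvd_nat (orderOf_dvd_of_mem_zpowers h1)) h2))
  have hT8 : Nat.card (T : Subgroup (Lx x)) = 8 := by
    rw [hT, ← Φ.h8, ← Nat.card_congr (subgroupOfEquivOfLe hSC).toEquiv]
    exact Nat.card_image_of_injOn hinjS
  have hTmem : ∀ s : Cx x, (s : G) ∈ (Φ.S : Subgroup G) → π s ∈ (T : Subgroup (Lx x)) := fun s hs =>
    hT ▸ mem_map_of_mem π hs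
  have hTinv : ∀ y ∈ (T : Subgroup (Lx x)), y ≠ 1 → orderOf y = 2 := by
    intro y hy hy1
    obtain ⟨s, hs, rfl⟩ := (hT ▸ hy : y ∈ (SN : Subgroup (Cx x)).map π)
    refine Invol.invol_iff.2 ⟨?_, hy1⟩
    rw [← map_mul, show s * s = 1 from Subtype.ext (by rw [Subgroup.coe_mul, ← pow_two]; exact Φ.hS.2 _ hs),
      map_one]
  -- the centralizer of `t`
  have hcent : ∀ c : Cx x, Commute (π c) tb → ∃ a, (a = 1 ∨ a = Φ.t) ∧ ∃ k ∈ Φ.K, Commute k x ∧
      ∃ d ∈ Φ.D, (c : G) = a * k * d := fun c hc =>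
    cent_decomp Φ hxD (mem_centralizer_singleton_iff.1 c.2)
      (lift_commute hxo (c := c) (u := ⟨Φ.t, t_mem_Cx Φ hxD⟩) Φ.ht hc)
  have hKnorm : ∀ c : Lx x, Commute c tb → ∀ k ∈ K1, c * k * c⁻¹ ∈ K1 := by
    intro c hc k hk
    obtain ⟨c, rfl⟩ := QuotientGroup.mk'_surjective _ c
    obtain ⟨k, hk', rfl⟩ := hk
    exact ⟨c * k * c⁻¹, Φ.K_conj (lift_commute hxo (u := ⟨Φ.t, t_mem_Cx Φ hxD⟩) Φ.ht hc) hk', by rw [map_mul, map_mul, map_inv]⟩
  -- no odd normal subgroup
  have hcore : ∀ V : Subgroup (Lx x), V.Normal → Odd (Nat.card V) → V = ⊥ := by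
    intro V hV hVodd
    have hWt : ∀ w ∈ V, Commute w tb → w = 1 := by
      intro w hwV hwt
      set W : Subgroup (Lx x) := V ⊓ centralizer ({tb} : Set (Lx x))
      have hWK : W ⊓ K1 = ⊥ := by
        haveI : (W.subgroupOf K1).Normal := ⟨fun y hy k => by
          have hkt : Commute (k : Lx x) tb := by
            obtain ⟨k', hk', he⟩ := k.2
            rw [← he]
            exact (show Commute k' ⟨Φ.t, t_mem_Cx Φ hxD⟩ from Subtype.ext (Φ.K_comm _ hk').eq).map π
          refine ⟨hV.conj_mem _ hy.1 _, mem_centralizer_singleton_iff.2 ?_⟩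
          exact ((hkt.mul_left (mem_centralizer_singleton_iff.1 hy.2)).mul_left hkt.inv_left).eq⟩
        rcases (inferInstance : (W.subgroupOf K1).Normal).eq_bot_or_eq_top with hb | ht
        · refine eq_bot_iff.2 fun y hy => mem_bot.2 ?_
          have : (⟨y, hy.2⟩ : K1) ∈ W.subgroupOf K1 := hy.1
          rw [hb, mem_bot] at this
          exact congrArg Subtype.val this
        · exfalso
          have hle : K1 ≤ V := (subgroupOf_eq_top.1 ht).trans inf_le_left
          have hev : 2 ∣ Nat.card K1 := by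
            rw [Nat.card_congr eK.toEquiv]
            obtain ⟨P⟩ : Nonempty (Sylow 2 (Matrix.ProjectiveSpecialLinearGroup (Fin 2) F₁)) := inferInstance
            have hmod : Fintype.card F₁ % 2 = 1 := Nat.odd_iff.1 hqodd
            have h1 := BGroup.FieldKill.two_mul_card_psl hqodd
            have h4 : 4 ∣ (Fintype.card F₁ - 1) * (Fintype.card F₁ + 1) :=
              Nat.mul_dvd_mul (show 2 ∣ _ by omega) (show 2 ∣ _ by omega)
            have h5 : 2 * 2 ∣ 2 * Nat.card (Matrix.ProjectiveSpecialLinearGroup (Fin 2) F₁) :=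
              h1 ▸ h4.mul_left _
            exact Nat.dvd_of_mul_dvd_mul_left two_pos h5
          exact Nat.not_even_iff_odd.2 hVodd (even_iff_two_dvd.2 (hev.trans (card_dvd_of_le hle)))
      obtain ⟨c, rfl⟩ := QuotientGroup.mk'_surjective _ w
      have hct : Commute (c : G) Φ.t := lift_commute hxo (u := ⟨Φ.t, t_mem_Cx Φ hxD⟩) Φ.ht hwt
      have hcK : ∀ k : Cx x, (k : G) ∈ Φ.K → Commute (c : G) k := by
        intro k hk
        have hkt : Commute k ⟨Φ.t, t_mem_Cx Φ hxD⟩ := Subtype.ext (Φ.K_comm _ hk).eq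
        have h1 : π c * π k * (π c)⁻¹ * (π k)⁻¹ ∈ W ⊓ K1 := by
          refine ⟨⟨?_, ?_⟩, K1.mul_mem (hKnorm _ hwt _ ⟨k, hk, rfl⟩) (K1.inv_mem ⟨k, hk, rfl⟩)⟩
          · rw [show π c * π k * (π c)⁻¹ * (π k)⁻¹ = π c * (π k * (π c)⁻¹ * (π k)⁻¹) by group]
            exact V.mul_mem hwV (hV.conj_mem _ (V.inv_mem hwV) _)
          · exact mem_centralizer_singleton_iff.2
              ((((hwt.mul_left (hkt.map π)).mul_left hwt.inv_left).mul_left (hkt.map π).inv_left)).eq
        rw [hWK, mem_bot, ← map_inv, ← map_inv, ← map_mul, ← map_mul, ← map_mul] at h1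
        have h2 : (c : G) * k * (c : G)⁻¹ * (k : G)⁻¹ ∈ zpowers x := px_eq_one_iff.1 h1
        have h3 := Φ.disj 1 (Or.inl rfl) _ (mul_mem (Φ.K_conj hct hk) (inv_mem hk))
          (by rw [one_mul]; exact zpowers_le.2 hxD h2)
        rw [one_mul] at h3
        exact mul_inv_eq_iff_eq_mul.1 (mul_inv_eq_one.1 h3)
      obtain ⟨a, ha, k, hk, hkx, d, hd, he⟩ := hcent c hwt
      have hkd : k * d = a⁻¹ * c := by rw [he]; group
      have haC : a ∈ (Φ.S : Subgroup G) := by rcases ha with rfl | rfl; exacts [one_mem _, Φ.htS]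
      have hkdK : ∀ k' : G, k' ∈ Φ.K → Commute k' x → Commute (k * d) k' := by
        intro k' hk' hk'x
        rw [hkd]
        refine Commute.mul_left ?_ (hcK ⟨k', mem_centralizer_singleton_iff.2 hk'x.eq⟩ hk')
        rcases ha with rfl | rfl
        · rw [inv_one]; exact Commute.one_left k'
        · exact (Φ.K_comm k' hk').symm.inv_left
      have hkS : k ∈ (Φ.S : Subgroup G) := by
        refine K_cent_S Φ hxD hk fun s hs hsK => ?_
        have h1 := hkdK s hsK (Φ.D_comm_S hxD hs).symm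
        have h2 := h1.mul_left (Φ.D_comm_S hd hs).inv_left
        rwa [mul_inv_cancel_right] at h2
      have hk2 : k ^ 2 = 1 := Φ.hS.2 k hkS
      have hd2 : d ^ 2 ∈ zpowers x := mem_of_cent Φ hxD (pow_mem hd 2) fun k' hk' hk'x => by
        have h1 := (hkdK k' hk' hk'x).pow_left 2
        rw [(Φ.D_comm_S hd hkS).symm.mul_pow, hk2, one_mul] at h1
        exact h1.symm
      have hdx : d ∈ zpowers x := by
        obtain ⟨j, hj⟩ := ((Φ.mem_D d).1 hd).2
        have h1 := pow_mem hd2 (j + 1)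
        rwa [← pow_mul, show 2 * (j + 1) = orderOf d + 1 by omega, pow_succ, pow_orderOf_eq_one, one_mul] at h1
      have hk1 : k = 1 := by
        have h1 : π ⟨k, mem_centralizer_singleton_iff.2 hkx.eq⟩ = 1 := by
          have hz : (⟨π ⟨k, mem_centralizer_singleton_iff.2 hkx.eq⟩, _, hk, rfl⟩ : K1) ∈ center K1 := by
            refine mem_center_iff.2 fun y => Subtype.ext ?_
            obtain ⟨k', hk', hy⟩ := y.2
            show (y : Lx x) * _ = _ * (y : Lx x)
            rw [← hy]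
            have hdk : Commute d (k' : G) := by
              obtain ⟨i, hi⟩ := mem_zpowers_iff.1 hdx
              exact hi ▸ ((show Commute (k' : G) x from mem_centralizer_singleton_iff.1 k'.2).symm).zpow_left i
            have h2 := (hkdK k' hk' (mem_centralizer_singleton_iff.1 k'.2)).mul_left hdk.inv_left
            rw [mul_inv_cancel_right] at h2
            exact ((show Commute k' ⟨k, mem_centralizer_singleton_iff.2 hkx.eq⟩ from
              Subtype.ext h2.symm.eq).map π).eq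
          rcases (inferInstance : (center K1).Normal).eq_bot_or_eq_top with hb | ht
          · rw [hb, mem_bot] at hz
            exact congrArg Subtype.val hz
          · exfalso
            refine hP1na ⟨⟨fun a b => eK.symm.injective ?_⟩⟩
            rw [map_mul, map_mul]
            exact (mem_center_iff.1 (ht.ge (mem_top (eK.symm b))) (eK.symm a))
        have h2 := Φ.disj 1 (Or.inl rfl) k hk (by rw [one_mul]; exact zpowers_le.2 hxD (px_eq_one_iff.1 h1))
        rwa [one_mul] at h2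
      have hca : π c = π ⟨a, hSC haC⟩ := px_eq_iff.2 (by
        show (c : G)⁻¹ * a ∈ zpowers x
        rw [he, hk1, mul_one, show (a * d)⁻¹ * a = d⁻¹ by group]
        exact inv_mem hdx)
      by_contra hne
      have h2 : orderOf (π c) = 2 := hTinv _ (hca ▸ hTmem _ haC) hne
      have h3 := Subgroup.orderOf_dvd_natCard V hwV
      rw [h2] at h3
      exact Nat.not_even_iff_odd.2 hVodd (even_iff_two_dvd.2 h3)
    obtain ⟨A, hAc, hcyc, htA, hsq, hA2⟩ : ∃ A : Subgroup (Lx x), IsMulCommutative A ∧ ¬ IsCyclic A ∧ tb ∈ A ∧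
        (∀ y ∈ A, y * y = 1) ∧ IsPGroup 2 A := by
      have hsq : ∀ y ∈ (T : Subgroup (Lx x)), y * y = 1 := fun y hy => by
        by_cases hy1 : y = 1
        · rw [hy1, one_mul]
        · exact Invol.invol_mul_self (hTinv y hy hy1)
      refine ⟨(T : Subgroup (Lx x)), ⟨⟨fun a b => Subtype.ext ?_⟩⟩, fun hc => ?_, hTmem _ Φ.htS, hsq, T.2⟩
      · have hab := hsq _ (mul_mem a.2 b.2)
        calc (a : Lx x) * b = (a * b : Lx x)⁻¹ := (inv_eq_of_mul_eq_one_left hab).symm
          _ = b * a := by rw [mul_inv_rev, inv_eq_of_mul_eq_one_left (hsq _ a.2),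
            inv_eq_of_mul_eq_one_left (hsq _ b.2)]
      · obtain ⟨⟨z, hz⟩, hzo⟩ := IsCyclic.exists_ofOrder_eq_natCard (α := (T : Subgroup (Lx x)))
        rw [← Subgroup.orderOf_coe, hT8] at hzo
        have := Nat.le_of_dvd two_pos (orderOf_dvd_of_pow_eq_one (show z ^ 2 = 1 by rw [pow_two]; exact hsq z hz))
        rw [hzo] at this
        omega
    rw [eq_bot_iff]
    refine CfsgLib.Coprime.le_of_centralizers_le hcyc (by rw [normalizer_eq_top]; exact le_top) ?_ fun a ha ha1 w hw => ?_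
    · obtain ⟨i, hi⟩ := hA2.exists_card_eq
      rw [hi]
      exact (Nat.coprime_two_left.2 hVodd).pow_left i
    · obtain ⟨c, hc⟩ := conj_px h Φ hxD (Invol.invol_iff.2 ⟨hsq a ha, ha1⟩)
      have h1 : Commute (c⁻¹ * w * c) tb := by
        have h2 : Commute w a := mem_centralizer_singleton_iff.1 hw.2
        have hca : c * tb * c⁻¹ = a := hc
        have h3 := h2.map (MulAut.conj c⁻¹)
        simp only [MulAut.conj_apply, inv_inv] at h3
        rwa [show c⁻¹ * a * c = tb by rw [← hca]; group] at h3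
      have h2 := hWt _ (by simpa using hV.conj_mem w hw.1 c⁻¹) h1
      rw [mem_bot, show w = c * (c⁻¹ * w * c) * c⁻¹ by group, h2]
      group
  -- the subgroup generated by the involutions
  set N : Subgroup (Lx x) := closure {u | orderOf u = 2} with hNdef
  have hinv : ∀ u : Lx x, orderOf u = 2 → u ∈ N := fun u hu => subset_closure hu
  haveI hN : N.Normal := normalizer_eq_top_iff.1 (eq_top_iff.2 fun g _ => by
    refine CfsgLib.Coprime.conjBy_eq_self_iff.1 (eq_of_le_of_card_ge ?_ (CfsgLib.Coprime.card_conjBy g _).ge)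
    show N.map (MulAut.conj g).toMonoidHom ≤ N
    rw [hNdef, MonoidHom.map_closure]
    refine closure_mono ?_
    rintro _ ⟨u, hu, rfl⟩
    exact Invol.invol_conj hu g)
  have htN : tb ∈ N := hinv _ htb2
  have hTN : (T : Subgroup (Lx x)) ≤ N := fun y hy => by
    by_cases hy1 : y = 1
    · rw [hy1]; exact one_mem _
    · exact hinv y (hTinv y hy hy1)
  obtain ⟨k₀, hk₀, hk₀n, s₀, hs₀, hne₀⟩ := Φ.moves
  have hk₀x : Commute k₀ x := Φ.K_fix hk₀ hk₀n hxD
  have hK1N : K1 ≤ N := by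
    haveI : (N.subgroupOf K1).Normal := inferInstance
    rcases (inferInstance : (N.subgroupOf K1).Normal).eq_bot_or_eq_top with hb | ht
    · exfalso
      obtain ⟨a, ha, k', hk', he⟩ := Three.mem_S_decomp Φ hs₀
      have haS : a ∈ (Φ.S : Subgroup G) := by rcases ha with rfl | rfl; exacts [one_mem _, Φ.htS]
      have hk'S : k' ∈ (Φ.S : Subgroup G) := by
        have := mul_mem (inv_mem haS) hs₀
        rwa [he, inv_mul_cancel_left] at this
      have hk'1 : k' ≠ 1 := by
        intro e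
        rw [e, mul_one] at he
        subst he
        refine hne₀ ?_
        rcases ha with rfl | rfl
        · rw [mul_one, mul_inv_cancel]
        · rw [(Φ.K_comm k₀ hk₀).eq, mul_inv_cancel_right]
      have h1 : (⟨π ⟨k', hSC hk'S⟩, _, hk', rfl⟩ : K1) ∈ N.subgroupOf K1 := hTN (hTmem _ hk'S)
      rw [hb, mem_bot] at h1
      have h2 := Φ.disj 1 (Or.inl rfl) k' hk' (by
        rw [one_mul]; exact zpowers_le.2 hxD (px_eq_one_iff.1 (congrArg Subtype.val h1)))
      rw [one_mul] at h2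
      exact hk'1 h2
    · exact subgroupOf_eq_top.1 ht
  -- transitivity inside `N`
  have htrans : ∀ a ∈ (T : Subgroup (Lx x)), a ≠ 1 → ∀ b ∈ (T : Subgroup (Lx x)), b ≠ 1 →
      ∃ m ∈ normalizer ((T : Subgroup (Lx x)) : Set (Lx x)) ⊓ N, m * a * m⁻¹ = b := by
    refine BGroup.FieldKill.transitive_of_normal (T : Subgroup (Lx x)) hT8
      (fun m hm s hs => (mem_normalizer_iff.1 hm.1 s).1 hs) (fun a ha ha1 b hb hb1 => ?_) ?_
    · have hn : ∀ a ∈ (T : Subgroup (Lx x)), a ≠ 1 →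
          ∃ u ∈ normalizer ((T : Subgroup (Lx x)) : Set (Lx x)), u * tb * u⁻¹ = a := by
        intro a ha ha1
        obtain ⟨s, hs, rfl⟩ := (hT ▸ ha : a ∈ (SN : Subgroup (Cx x)).map π)
        obtain ⟨n, hn, hnt⟩ := fus h Φ (show (s : G) ∈ (Φ.S : Subgroup G) from hs) fun e => ha1 (by
          rw [show s = 1 from Subtype.ext e, map_one])
        have hnx : n ∈ Cx x :=
          mem_centralizer_singleton_iff.2 (mem_centralizer_iff.1 (normalizer_cent h Φ hn) x hxD).symm
        refine ⟨π ⟨n, hnx⟩, CfsgLib.Coprime.conjBy_eq_self_iff.1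
          (eq_of_le_of_card_ge ?_ (CfsgLib.Coprime.card_conjBy _ _).ge), ?_⟩
        · rintro _ ⟨y, hy, rfl⟩
          obtain ⟨s', hs', rfl⟩ := (hT ▸ hy : y ∈ (SN : Subgroup (Cx x)).map π)
          show π ⟨n, hnx⟩ * π s' * (π ⟨n, hnx⟩)⁻¹ ∈ _
          rw [← map_inv, ← map_mul, ← map_mul]
          exact hTmem _ ((mem_normalizer_iff.1 hn s').1 hs')
        · rw [htb, ← map_inv, ← map_mul, ← map_mul]
          exact congrArg π (Subtype.ext hnt)
      obtain ⟨u, hu, hua⟩ := hn a ha ha1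
      obtain ⟨v, hv, hvb⟩ := hn b hb hb1
      refine ⟨MulAut.conj (v * u⁻¹), ?_, fun m hm => ⟨?_, hN.conj_mem m hm.2 _⟩⟩
      · rw [MulAut.conj_apply, ← hua, ← hvb]; group
      · exact Subgroup.mul_mem _ (Subgroup.mul_mem _ (Subgroup.mul_mem _ hv (Subgroup.inv_mem _ hu)) hm.1)
          (Subgroup.inv_mem _ (Subgroup.mul_mem _ hv (Subgroup.inv_mem _ hu)))
    · refine ⟨π ⟨k₀, mem_centralizer_singleton_iff.2 hk₀x.eq⟩, ⟨?_, hK1N ⟨_, hk₀, rfl⟩⟩, π ⟨s₀, hSC hs₀⟩,
        hTmem _ hs₀, fun e => hne₀ ?_⟩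
      · refine CfsgLib.Coprime.conjBy_eq_self_iff.1 (eq_of_le_of_card_ge ?_ (CfsgLib.Coprime.card_conjBy _ _).ge)
        rintro _ ⟨y, hy, rfl⟩
        obtain ⟨s', hs', rfl⟩ := (hT ▸ hy : y ∈ (SN : Subgroup (Cx x)).map π)
        show π ⟨k₀, _⟩ * π s' * (π ⟨k₀, _⟩)⁻¹ ∈ _
        rw [← map_inv, ← map_mul, ← map_mul]
        exact hTmem _ ((mem_normalizer_iff.1 hk₀n s').1 hs')
      · rw [← map_inv, ← map_mul, ← map_mul] at e
        exact congrArg Subtype.val (hinjS ((mem_normalizer_iff.1 hk₀n s₀).1 hs₀) hs₀ e)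
  have hconjN : ∀ u : Lx x, orderOf u = 2 → ∃ n ∈ N, n * u * n⁻¹ = tb := by
    intro u hu
    set TN : Sylow 2 N := T.subtype hTN
    have hu' : orderOf (⟨u, hinv u hu⟩ : N) = 2 := by rw [← Subgroup.orderOf_coe]; exact hu
    obtain ⟨g, hg⟩ := Invol.exists_conj_le_sylow (IsPGroup.of_card (n := 1) (by rw [Nat.card_zpowers, hu', pow_one]) :
      IsPGroup 2 (zpowers (⟨u, hinv u hu⟩ : N))) TN
    have h1 : (g : Lx x) * u * (g : Lx x)⁻¹ ∈ (T : Subgroup (Lx x)) := hg _ (mem_zpowers _)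
    obtain ⟨m, hm, hmt⟩ := htrans _ h1 (fun e => Invol.invol_ne_one hu (conj_eq_one_iff.1 e)) tb
      (hTmem _ Φ.htS) (Invol.invol_ne_one htb2)
    exact ⟨m * g, mul_mem hm.2 g.2, by rw [← hmt]; group⟩
  haveI hNs : IsSimpleGroup N := by
    haveI : Nontrivial N := ⟨⟨tb, htN⟩, 1, fun e => Invol.invol_ne_one htb2 (congrArg Subtype.val e)⟩
    refine ⟨fun W hW => ?_⟩
    by_cases hodd : Odd (Nat.card W)
    · left
      haveI : Fact (Nat.Prime 2) := ⟨Nat.prime_two⟩
      haveI := hW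
      haveI hOn : (Cfsg.pPrimeCore 2 N).Characteristic := CfsgLib.Coprime.pPrimeCore_characteristic 2
      have hWO : W ≤ Cfsg.pPrimeCore 2 N :=
        CfsgLib.Coprime.le_pPrimeCore_of_not_dvd Nat.prime_two
          fun hd => Nat.not_even_iff_odd.2 hodd (even_iff_two_dvd.2 hd)
      have h1 := hcore ((Cfsg.pPrimeCore 2 N).map N.subtype) inferInstance (by
        rw [card_map_of_injective N.subtype_injective, ← Nat.not_even_iff_odd, even_iff_two_dvd]
        exact CfsgLib.Coprime.pPrimeCore_not_dvd Nat.prime_two)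
      rw [eq_bot_iff]
      intro w hw
      have h2 : (w : Lx x) ∈ (⊥ : Subgroup (Lx x)) := h1 ▸ mem_map_of_mem N.subtype (hWO hw)
      exact mem_bot.2 (Subtype.ext (mem_bot.1 h2))
    · right
      obtain ⟨v, hv, hv2⟩ := Invol.exists_invol_mem (Nat.not_odd_iff_even.1 hodd)
      have hv2' : orderOf (v : Lx x) = 2 := by rw [Subgroup.orderOf_coe]; exact hv2
      have hall : ∀ u : Lx x, orderOf u = 2 → u ∈ W.map N.subtype := by
        intro u hu
        obtain ⟨n, hn, hnu⟩ := hconjN u hu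
        obtain ⟨m, hm, hmv⟩ := hconjN v hv2'
        refine ⟨⟨n⁻¹ * m, mul_mem (inv_mem hn) hm⟩ * v * (⟨n⁻¹ * m, mul_mem (inv_mem hn) hm⟩ : N)⁻¹,
          hW.conj_mem v hv _, ?_⟩
        show n⁻¹ * m * (v : Lx x) * (n⁻¹ * m)⁻¹ = u
        rw [show n⁻¹ * m * (v : Lx x) * (n⁻¹ * m)⁻¹ = n⁻¹ * (m * (v : Lx x) * m⁻¹) * n by group, hmv, ← hnu]
        group
      have hle : N ≤ W.map N.subtype := (closure_le _).2 hall
      rw [eq_top_iff]
      intro w _
      obtain ⟨w', hw', he⟩ := hle w.2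
      exact (Subtype.ext he : w' = w) ▸ hw'
  have hNna : ¬ IsMulCommutative N := fun hc => hP1na ⟨⟨fun a b => eK.symm.injective (Subtype.ext (by
    rw [map_mul, map_mul]
    exact congrArg (fun z : N => (z : Lx x)) (mul_comm' (⟨(eK.symm a : Lx x), hK1N (eK.symm a).2⟩ : N)
      ⟨(eK.symm b : Lx x), hK1N (eK.symm b).2⟩)))⟩⟩
  have habG : AbTwo G := fun S a b => Subtype.ext (h.comm S a.2 b.2)
  have habN : AbTwo N := abTwo_subgroup (abTwo_of_surjective π (QuotientGroup.mk'_surjective _)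
    (abTwo_subgroup habG (Cx x))) N
  have hdvd : Nat.card N ∣ Nat.card (Cx x) := (card_subgroup_dvd_card N).trans (card_quotient_dvd_card _)
  have hlt : Nat.card N < Nat.card G := by
    refine (Nat.le_of_dvd Nat.card_pos hdvd).trans_lt (lt_of_le_of_ne (Nat.le_of_dvd Nat.card_pos
      (card_subgroup_dvd_card _)) fun e => ?_)
    have htop := eq_top_of_card_eq _ e
    haveI := h.simple
    rcases (inferInstance : (center G).Normal).eq_bot_or_eq_top with hb | ht
    · exact hx1 (mem_bot.1 (hb ▸ mem_center_iff.2 fun g =>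
        mem_centralizer_singleton_iff.1 (htop.ge (mem_top g))))
    · exact h.noncomm ⟨⟨fun a b => (mem_center_iff.1 (ht.ge (mem_top b)) a)⟩⟩
  have hcf := hsec N hNs hNna hlt (hdvd.trans (card_subgroup_dvd_card _)) habN
  set tN : N := ⟨tb, htN⟩
  have htN2 : orderOf tN = 2 := by rw [← Subgroup.orderOf_coe]; exact htb2
  have hK1C : ∀ k ∈ K1, Commute k tb := by
    rintro _ ⟨k, hk, rfl⟩
    exact (show Commute k ⟨Φ.t, t_mem_Cx Φ hxD⟩ from Subtype.ext (Φ.K_comm _ hk).eq).map π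
  set K1N : Subgroup N := K1.subgroupOf N
  have hK1le : K1N ≤ centralizer ({tN} : Set N) := fun k hk =>
    mem_centralizer_singleton_iff.2 (Subtype.ext (hK1C k hk).eq)
  have hns : ¬ Group.IsSolvable ↥(centralizer ({tN} : Set N)) := by
    intro hs
    haveI := hs
    haveI : Group.IsSolvable K1N := Group.isSolvable_of_isSolvable_injective (inclusion_injective hK1le)
    haveI : Group.IsSolvable K1 := Group.isSolvable_of_surjective (f := (subgroupOfEquivOfLe hK1N).toMonoidHom)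
      (subgroupOfEquivOfLe hK1N).surjective
    haveI : Group.IsSolvable (Matrix.ProjectiveSpecialLinearGroup (Fin 2) F₁) :=
      Group.isSolvable_of_surjective (f := eK.toMonoidHom) eK.surjective
    exact hP1na ⟨⟨fun a b => IsSimpleGroup.comm_iff_isSolvable.2 inferInstance a b⟩⟩
  obtain ⟨h8, t₀, ht₀, F', iF', iF'', hF', ⟨e₀⟩⟩ := reeForm_of_nonsolvable hNs hcf htN2 hns
  obtain ⟨hmod', h4'⟩ := Rank.Factor.psl_mod hF'
  obtain ⟨g₀, hg₀⟩ := invol_conjugate hNs (Or.inr ⟨h8, t₀, ht₀, F', iF', iF'', hF', ⟨e₀⟩⟩) habN ht₀ htN2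
  obtain ⟨c₀⟩ := Rank.Factor.centralizer_equiv g₀ t₀
  rw [hg₀] at c₀
  let e : centralizer ({tN} : Set N) ≃* Multiplicative (ZMod 2) × Matrix.ProjectiveSpecialLinearGroup (Fin 2) F' :=
    c₀.symm.trans e₀
  set f := (MonoidHom.snd (Multiplicative (ZMod 2)) (Matrix.ProjectiveSpecialLinearGroup (Fin 2) F')).comp
    e.toMonoidHom with hf
  have hfs : Function.Surjective f := fun p => ⟨e.symm (1, p), by simp [hf]⟩
  obtain ⟨hP', -⟩ := CfsgLib.Perm.Dickson.psl_simple_noncomm (F := F') h4'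
  haveI := hP'
  haveI hKNs : IsSimpleGroup K1N := by
    haveI : Nontrivial K1N := (subgroupOfEquivOfLe hK1N).toEquiv.nontrivial
    exact IsSimpleGroup.isSimpleGroup_of_surjective (subgroupOfEquivOfLe hK1N).symm.toMonoidHom
      (subgroupOfEquivOfLe hK1N).symm.surjective
  let g : K1N →* Matrix.ProjectiveSpecialLinearGroup (Fin 2) F' := f.comp (inclusion hK1le)
  have hginj : Function.Injective g := by
    rcases (inferInstance : g.ker.Normal).eq_bot_or_eq_top with hb | ht
    · exact (MonoidHom.ker_eq_bot_iff g).1 hb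
    · exfalso
      refine hP1na ⟨⟨fun a b => eK.symm.injective ((subgroupOfEquivOfLe hK1N).symm.injective ?_)⟩⟩
      have key : ∀ y z : K1N, y * z = z * y := fun y z => Subtype.ext (by
        have hy : (e (inclusion hK1le y)).2 = 1 := MonoidHom.mem_ker.1 (ht.ge (mem_top y))
        have hz : (e (inclusion hK1le z)).2 = 1 := MonoidHom.mem_ker.1 (ht.ge (mem_top z))
        exact congrArg (fun w : centralizer ({tN} : Set N) => (w : N)) (e.injective (show
          e (inclusion hK1le y * inclusion hK1le z) = e (inclusion hK1le z * inclusion hK1le y) by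
            rw [map_mul, map_mul]; exact Prod.ext (mul_comm _ _) (by simp [Prod.snd_mul, hy, hz]))))
      rw [map_mul, map_mul, map_mul, map_mul]
      exact key _ _
  have hgnorm : g.range.Normal := by
    refine ⟨?_⟩
    rintro _ ⟨y, rfl⟩ p
    obtain ⟨c, rfl⟩ := hfs p
    have h1 : (c : N) * y * (c : N)⁻¹ ∈ K1N :=
      hKnorm _ (congrArg Subtype.val (mem_centralizer_singleton_iff.1 c.2)) _ y.2
    refine ⟨⟨_, h1⟩, ?_⟩
    show f (inclusion hK1le ⟨_, h1⟩) = f c * f (inclusion hK1le y) * (f c)⁻¹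
    rw [← map_inv, ← map_mul, ← map_mul]
    exact congrArg f (Subtype.ext rfl)
  have hgs : g.range = ⊤ := by
    rcases hgnorm.eq_bot_or_eq_top with hb | ht
    · exfalso
      haveI : Nontrivial K1N := inferInstance
      obtain ⟨y, hy⟩ := exists_ne (1 : K1N)
      have : g y ∈ (⊥ : Subgroup _) := hb ▸ ⟨y, rfl⟩
      exact hy (hginj ((mem_bot.1 this).trans (map_one g).symm))
    · exact ht
  have hcardP : Nat.card (Matrix.ProjectiveSpecialLinearGroup (Fin 2) F') = Nat.card K1 := by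
    rw [← Nat.card_congr (subgroupOfEquivOfLe hK1N).toEquiv,
      Nat.card_congr (Equiv.ofBijective g ⟨hginj, MonoidHom.range_eq_top.1 hgs⟩)]
  have hodd' : Odd (Fintype.card F') := by rw [Nat.odd_iff]; rcases hmod' with h' | h' <;> omega
  have hqF : Fintype.card F' = q := by
    have h1 := BGroup.FieldKill.two_mul_card_psl hodd'
    rw [hcardP, hK1card] at h1
    rcases lt_trichotomy (Fintype.card F') q with hlt' | heq | hlt'
    · exfalso
      have h4 := Nat.mul_lt_mul'' hlt' (Nat.mul_lt_mul'' (show Fintype.card F' - 1 < q - 1 by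
        have := Fintype.card_pos (α := F'); omega) (show Fintype.card F' + 1 < q + 1 by omega))
      omega
    · exact heq
    · exfalso
      have h4 := Nat.mul_lt_mul'' hlt' (Nat.mul_lt_mul'' (show q - 1 < Fintype.card F' - 1 by omega)
        (show q + 1 < Fintype.card F' + 1 by omega))
      omega
  have hCcard : Nat.card (centralizer ({tN} : Set N)) = q * ((q - 1) * (q + 1)) := by
    rw [Nat.card_congr e.toEquiv, Nat.card_prod, show Nat.card (Multiplicative (ZMod 2)) = 2 from Nat.card_zmod 2,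
      hcardP, hK1card]
  -- `C_N(t) = ⟨t⟩ K₁`
  have hK1or : ∀ c : N, Commute c tN → c ∈ K1N ∨ tN * c ∈ K1N := by
    have htnot : tN ∉ K1N := by
      rintro ⟨k, hk, hkt⟩
      have hc : Commute (k : G) Φ.t := Φ.K_comm _ hk
      have h1 : (k : G)⁻¹ * Φ.t ∈ zpowers x := px_eq_iff.1 (show π k = π ⟨Φ.t, _⟩ from hkt)
      have h2 := Φ.disj Φ.t (Or.inr rfl) _ (Φ.K.inv_mem (show (k : G) ∈ Φ.K from hk)) (by
        rw [← hc.inv_left.eq]; exact zpowers_le.2 hxD h1)
      exact Φ.t_notMem (mul_inv_eq_one.1 h2 ▸ hk)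
    have hidx : (K1N.subgroupOf (centralizer ({tN} : Set N))).index = 2 := by
      have h1 := (K1N.subgroupOf (centralizer ({tN} : Set N))).card_mul_index
      rw [Nat.card_congr (subgroupOfEquivOfLe hK1le).toEquiv, Nat.card_congr (subgroupOfEquivOfLe hK1N).toEquiv,
        hCcard, ← hK1card, mul_comm 2] at h1
      exact Nat.eq_of_mul_eq_mul_left Nat.card_pos h1
    intro c hc
    by_cases hcK : c ∈ K1N
    · exact Or.inl hcK
    · right
      have h1 := (mul_mem_iff_of_index_two hidx (a := ⟨tN, mem_centralizer_singleton_iff.2 rfl⟩)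
        (b := ⟨c, mem_centralizer_singleton_iff.2 hc.eq⟩)).2 (iff_of_false (fun h => htnot (mem_subgroupOf.1 h))
          (fun h => hcK (mem_subgroupOf.1 h)))
      exact mem_subgroupOf.1 h1
  -- the decomposition
  have hdec : ∀ y : Lx x, ∃ n ∈ N, ∃ d : Cx x, (d : G) ∈ Φ.D ∧ y = n * π d := by
    intro y
    obtain ⟨n, hn, hny⟩ := hconjN (y * tb * y⁻¹) (Invol.invol_conj htb2 y)
    have hc : Commute (n * y) tb := by
      calc n * y * tb = n * (y * tb * y⁻¹) * n⁻¹ * (n * y) := by group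
        _ = tb * (n * y) := by rw [hny]
    obtain ⟨c, hce⟩ := QuotientGroup.mk'_surjective (Kx x) (n * y)
    obtain ⟨a, ha, k, hk, hkx, d, hd, he⟩ := hcent c (hce ▸ hc)
    have haC : a ∈ Cx x := by rcases ha with rfl | rfl; exacts [one_mem _, t_mem_Cx Φ hxD]
    have haN : π ⟨a, haC⟩ ∈ N := by
      rcases ha with rfl | rfl
      · rw [show (⟨1, haC⟩ : Cx x) = 1 from rfl, map_one]; exact one_mem _
      · exact htN
    refine ⟨n⁻¹ * (π ⟨a, haC⟩ * π ⟨k, mem_centralizer_singleton_iff.2 hkx.eq⟩), mul_mem (inv_mem hn)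
      (mul_mem haN (hK1N ⟨_, hk, rfl⟩)), ⟨d, D_le_Cx Φ hxD hd⟩, hd, ?_⟩
    rw [mul_assoc, ← map_mul, ← map_mul,
      show (⟨a, haC⟩ : Cx x) * ⟨k, mem_centralizer_singleton_iff.2 hkx.eq⟩ * ⟨d, D_le_Cx Φ hxD hd⟩ = c from
        Subtype.ext he.symm, show π c = n * y from hce, inv_mul_cancel_left]
  have hDtriv : ∀ d : Cx x, (d : G) ∈ Φ.D → π d ∈ N → π d = 1 := by
    intro d hd hdN
    have hc : Commute (⟨π d, hdN⟩ : N) tN := Subtype.ext ((show Commute d ⟨Φ.t, t_mem_Cx Φ hxD⟩ from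
      Subtype.ext (Φ.D_comm_t hd).eq).map π).eq
    have key : ∀ a : G, (a = 1 ∨ a = Φ.t) → ∀ k : Cx x, (k : G) ∈ Φ.K → ∀ (haC : a ∈ Cx x),
        π ⟨a, haC⟩ * π k = π d → π d = 1 := by
      intro a ha k hk haC he
      rw [← map_mul] at he
      have h1 : (a * k)⁻¹ * (d : G) ∈ zpowers x := px_eq_iff.1 he
      obtain ⟨i, hi⟩ := mem_zpowers_iff.1 h1
      have h2 : (d : G) = x ^ i := decomp_unique Φ (Or.inl rfl) ha (one_mem _) hk hd
        (zpow_mem hxD i) (by rw [one_mul, one_mul, hi, mul_inv_cancel_left])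
      exact px_eq_one_iff.2 (h2 ▸ zpow_mem (mem_zpowers x) i)
    rcases hK1or _ hc with ⟨k, hk, hke⟩ | ⟨k, hk, hke⟩
    · exact key 1 (Or.inl rfl) k hk (one_mem _) (by
        rw [show (⟨1, one_mem _⟩ : Cx x) = 1 from rfl, map_one, one_mul]; exact hke)
    · refine key Φ.t (Or.inr rfl) k hk (t_mem_Cx Φ hxD) ?_
      rw [show π k = tb * π d from hke, ← mul_assoc, ← htb, Invol.invol_mul_self htb2, one_mul]
  have hI : Nat.card {u : Lx x | orderOf u = 2} * (q * ((q - 1) * (q + 1))) = Nat.card N := by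
    have h1 := CfsgLib.LargePrimeMix.card_conjugates (G := N) (t := tN) rfl {u : N | orderOf u = 2}
      (fun u => ⟨fun hu => by
          obtain ⟨n, hn, hnu⟩ := hconjN u (by rw [Subgroup.orderOf_coe]; exact hu)
          exact ⟨(⟨n, hn⟩ : N)⁻¹, Subtype.ext (show n⁻¹ * tb * n⁻¹⁻¹ = u by rw [← hnu]; group)⟩,
        fun ⟨c, hc⟩ => hc ▸ Invol.invol_conj htN2 c⟩)
    rw [hCcard] at h1
    rw [← h1]
    congr 1
    exact Nat.card_congr
      { toFun := fun u => ⟨⟨u.1, hinv _ u.2⟩, (Subgroup.orderOf_coe (⟨u.1, hinv _ u.2⟩ : N)).symm.trans u.2⟩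
        invFun := fun u => ⟨(u.1 : Lx x), (Subgroup.orderOf_coe u.1).trans u.2⟩
        left_inv := fun _ => rfl
        right_inv := fun _ => rfl }
  refine ⟨{
    q := q
    N := N
    normal := hN
    simple := hNs
    q_pow := hpow
    invol_mem := hinv
    invol_conj := fun u hu v hv => by
      obtain ⟨n, hn, hnu⟩ := hconjN u hu
      obtain ⟨m, hm, hmv⟩ := hconjN v hv
      exact ⟨m⁻¹ * n, mul_mem (inv_mem hm) hn, by
        rw [show m⁻¹ * n * u * (m⁻¹ * n)⁻¹ = m⁻¹ * (n * u * n⁻¹) * m by group, hnu, ← hmv]; group⟩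
    K_mem := fun k hk => hK1N ⟨k, hk, rfl⟩
    decomp := hdec
    D_trivial := hDtriv
    card_invol := hI
    cases := ?_ }⟩
  haveI := Fintype.ofFinite N
  have hq3 : 3 ≤ Fintype.card F' := by omega
  rcases JTh.main_univ (fun _ _ _ _ T5 => ReeType.Five.Setup.false_of_torus _ T5) habN hq3 tN htN2 ⟨e⟩ with
    ⟨m, hm, hF3, hcard⟩ | ⟨h45, hJ⟩
  · right
    have hq' : q = 3 ^ (2 * m + 1) := hqF ▸ hF3
    refine ⟨m, hm, hq', by rw [hq']; exact hcard, ?_⟩
    have h4 : q % 4 = 3 := by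
      rw [hq', pow_succ, pow_mul, Nat.mul_mod, Nat.pow_mod]; norm_num
    have hodd : Odd (centralizer ({tN} : Set N)).index := by
      rw [Nat.odd_iff, ← Nat.two_dvd_ne_zero]
      intro h2
      refine (T.subtype hTN).not_dvd_index (h2.trans (index_dvd_of_le fun s hs => ?_))
      refine mem_centralizer_singleton_iff.2 (Subtype.ext ?_)
      have hsT : (s : Lx x) ∈ (T : Subgroup (Lx x)) := hs
      obtain ⟨s', hs', hse⟩ := (hT ▸ hsT : (s : Lx x) ∈ (SN : Subgroup (Cx x)).map π)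
      show (s : Lx x) * tb = tb * (s : Lx x)
      rw [← hse]
      exact ((show Commute s' ⟨Φ.t, t_mem_Cx Φ hxD⟩ from Subtype.ext
        (show (s' : G) * Φ.t = Φ.t * s' from congrArg Subtype.val (Φ.hS.1.is_comm.comm (⟨(s' : G), hs'⟩ : (Φ.S : Subgroup G)) ⟨Φ.t, Φ.htS⟩))).map π).eq
    exact ReeType.exists_setup_of_kit hNna tN K1N
      (ReeType.Kit.of_equiv (m := (q + 1) / 4) (n := (q - 1) / 2) hm hq hq'
        (by omega) (by omega) ((subgroupOfEquivOfLe hK1N).trans eK)) htN2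
      (fun c hc => Subtype.ext (hK1C c hc).eq) hK1or
      (by
        intro hc
        have h1 := mem_centralizer_singleton_iff.1 (hK1le hc)
        rcases (inferInstance : (center K1N).Normal).eq_bot_or_eq_top with hb | ht
        · have : (⟨tN, hc⟩ : K1N) ∈ center K1N := mem_center_iff.2 fun y =>
            Subtype.ext (mem_centralizer_singleton_iff.1 (hK1le y.2))
          rw [hb, mem_bot] at this
          exact Invol.invol_ne_one htN2 (congrArg Subtype.val this)
        · refine hP1na ⟨⟨fun a b => eK.symm.injective ((subgroupOfEquivOfLe hK1N).symm.injective ?_)⟩⟩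
          rw [map_mul, map_mul, map_mul, map_mul]
          exact mem_center_iff.1 (ht.ge (mem_top _)) _) hodd
  · left
    exact ⟨by rw [hqF] at h45; have := hqodd; rw [hq, Nat.odd_iff] at this; omega, hJ.2⟩

end CfsgLib.Walter.Outer
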