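import Cfsg.Agent.Lib.Walter.Outer.SmallCore
import Cfsg.Agent.Lib.Walter.Outer.Sections
import Cfsg.Agent.Lib.Fusion.Transfer
import Cfsg.Agent.Lib.CFun.OddSCNUnique
import Cfsg.Agent.Lib.LocalStructure.BlockModule
import Cfsg.Agent.S0118
import Cfsg.Agent.S0205

/-!
# A field element of order seven with centralizer `7 × (8 : 21)` does not occur

No involution normalises a `7`-subgroup containing `P`, so the normalizer of the centre of the Thompson
subgroup of a Sylow `7`-subgroup has odd order, and the transfer is non-trivial on `g`.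
-/

set_option autoImplicit false
set_option linter.unusedSectionVars false
set_option linter.style.haveILetI false

namespace CfsgLib.Walter.Outer

open Subgroup
open scoped commutatorElement

universe u

/-- In a simple group with abelian Sylow `2`-subgroups a Sylow subgroup lies in the commutator with the
normalizer of the centre of its Thompson subgroup. -/
theorem sylow_le_commutator_local {G : Type u} [Group G] [Finite G] (hs : IsSimpleGroup G)
    (hn : ¬ IsMulCommutative G) (hab : ∀ S : Sylow 2 G, ∀ a b : S, a * b = b * a) {l : ℕ} [Fact l.Prime]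
    (hl2 : l ≠ 2) (S : Sylow l G) :
    (S : Subgroup G) ≤ ⁅(S : Subgroup G),
      normalizer (Cfsg.centerThompsonOf l (S : Subgroup G) : Set G)⁆ := by
  have htop : commutator G = ⊤ := by
    haveI := hs
    refine (IsSimpleGroup.eq_bot_or_eq_top_of_normal (commutator G) inferInstance).resolve_left
      fun h => hn ⟨⟨fun a b => ?_⟩⟩
    have h1 : ⁅a, b⁆ ∈ commutator G := commutator_mem_commutator (mem_top a) (mem_top b)
    rw [h, mem_bot] at h1
    exact commutatorElement_eq_one_iff_mul_comm.1 h1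
  have hfree := not_involves_slTwo hab hl2
  have h := CfsgLib.Fusion.commutator_inf_eq_focal (CfsgLib.Fusion.coprime_card_focalQuotient S)
  rw [htop, top_inf_eq] at h
  refine h.le.trans (CfsgLib.Fusion.focalSubgroup_le_of_control fun x hx g hgx => ?_)
  obtain ⟨n, hn, h⟩ := Cfsg.Agent.S0118.result hl2 hfree S {x} (Set.singleton_subset_iff.2 hx) g⁻¹ (by
    rintro _ ⟨a, rfl, rfl⟩
    show g⁻¹⁻¹ * a * g⁻¹ ∈ (S : Subgroup G)
    rw [inv_inv]; exact hgx)
  exact ⟨n⁻¹, inv_mem hn, by simpa using h x rfl⟩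

/-- The configuration. -/
structure Nonreal (G : Type u) [Group G] where
  g : G
  h : G
  P : Subgroup G
  simple : IsSimpleGroup G
  noncomm : ¬ IsMulCommutative G
  abTwo : ∀ S : Sylow 2 G, ∀ a b : S, a * b = b * a
  order_g : orderOf g = 7
  order_h : orderOf h = 3
  h_g : Commute h g
  sylow : CfsgLib.Coprime.IsSylowIn 7 P (centralizer ({g} : Set G))
  card_P : Nat.card P = 49
  h_P : ∀ x ∈ P, h * x * h⁻¹ ∈ P
  h_fix : ∀ x ∈ P, Commute h x → x ∈ zpowers g
  cent_P : ∀ c, (∀ x ∈ P, Commute c x) → c ∈ P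
  norm_g : ∀ m, m * g * m⁻¹ ∈ zpowers g → Commute m g
  invol : ∀ u, orderOf u = 2 → Commute u g → ∀ x, Commute x g → x ^ 7 = 1 →
    (u * x * u⁻¹ = x ∨ u * x * u⁻¹ = x⁻¹) → x ∈ zpowers g
  even_cent : ∀ x u, x ^ 7 = 1 → x ≠ 1 → orderOf u = 2 → Commute u x → ∃ c : G, c * x * c⁻¹ ∈ zpowers g

namespace Nonreal

variable {G : Type u} [Group G] [Finite G] (D : Nonreal G)

include D

theorem fact7 : Fact (Nat.Prime 7) := ⟨by norm_num⟩

theorem g_ne_one : D.g ≠ 1 := fun e => by
  have h := D.order_g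
  rw [e, orderOf_one] at h
  omega

theorem P_comm {a b : G} (ha : a ∈ D.P) (hb : b ∈ D.P) : Commute a b := by
  haveI := D.fact7
  have h := IsPGroup.commutative_of_card_eq_prime_sq (p := 7) (G := D.P) (by rw [D.card_P]; norm_num)
    ⟨a, ha⟩ ⟨b, hb⟩
  exact congrArg Subtype.val h

theorem g_mem_P : D.g ∈ D.P :=
  D.cent_P D.g fun _ hx => (mem_centralizer_singleton_iff.1 (D.sylow.1 hx) : _ = _).symm

theorem exp {x : G} (hx : x ∈ D.P) : x ^ 7 = 1 := by
  haveI := D.fact7
  set z := D.h * x * D.h⁻¹ * x⁻¹ with hz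
  have hzP : z ∈ D.P := mul_mem (D.h_P x hx) (inv_mem hx)
  obtain ⟨k, hk2, hk⟩ := (Nat.dvd_prime_pow D.fact7.out).1
    (show orderOf x ∣ 7 ^ 2 from (Subgroup.orderOf_dvd_natCard _ hx).trans (by rw [D.card_P]; norm_num))
  by_contra hne
  have hk' : k = 2 := by
    rcases (show k = 2 ∨ k ≤ 1 by omega) with h | h
    · exact h
    · exact absurd (orderOf_dvd_iff_pow_eq_one.1 (hk ▸ pow_dvd_pow 7 h)) (by simpa using hne)
  have hgen : zpowers x = D.P := eq_of_le_of_card_ge (zpowers_le.2 hx) (by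
    rw [Nat.card_zpowers, hk, hk', D.card_P]; norm_num)
  obtain ⟨i, hi⟩ := (isOfFinOrder_of_finite x).mem_powers_iff_mem_zpowers.2
    (hgen.ge (D.h_P x hx) : D.h * x * D.h⁻¹ ∈ zpowers x)
  obtain ⟨j, hj⟩ := (isOfFinOrder_of_finite x).mem_powers_iff_mem_zpowers.2
    (hgen.ge D.g_mem_P : D.g ∈ zpowers x)
  have hiP : ∀ n : ℕ, D.h ^ n * x * (D.h ^ n)⁻¹ = x ^ i ^ n := by
    intro n
    induction n with
    | zero => simp
    | succ n ih =>
      rw [pow_succ', show D.h * D.h ^ n * x * (D.h * D.h ^ n)⁻¹ = D.h * (D.h ^ n * x * (D.h ^ n)⁻¹) * D.h⁻¹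
        by group, ih, ← conj_pow, ← hi, ← pow_mul, pow_succ']
  have h3 : x ^ i ^ 3 = x := by
    rw [← hiP 3, ← D.order_h, pow_orderOf_eq_one]; group
  have hg : x ^ (i * j) = x ^ j := by
    show (fun n => x ^ n) (i * j) = _
    simp only at hi hj ⊢
    rw [pow_mul, hi, conj_pow, hj, D.h_g.eq, mul_inv_cancel_right]
  have e1 : i ^ 3 ≡ 1 [MOD 49] := by
    have := pow_eq_pow_iff_modEq.1 (h3.trans (pow_one x).symm)
    rwa [hk, hk'] at this
  have e2 : i * j ≡ j [MOD 49] := by
    have := pow_eq_pow_iff_modEq.1 hg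
    rwa [hk, hk'] at this
  have hj7 : ¬ 49 ∣ j := by
    rintro ⟨c, rfl⟩
    simp only at hj
    rw [pow_mul, show x ^ 49 = 1 by rw [show (49 : ℕ) = orderOf x by rw [hk, hk']; norm_num]; exact pow_orderOf_eq_one x,
      one_pow] at hj
    exact D.g_ne_one hj.symm
  have key : i % 49 = 1 := by
    have e1' : (i % 49) ^ 3 % 49 = 1 := by rw [← Nat.pow_mod]; exact e1
    have e2' : (i % 49) * (j % 49) % 49 = j % 49 := by rw [← Nat.mul_mod]; exact e2
    have hlt : i % 49 < 49 := Nat.mod_lt _ (by norm_num)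
    generalize i % 49 = a at *
    interval_cases a <;> omega
  have hfix : D.h * x * D.h⁻¹ = x := by
    rw [← hi]
    show x ^ i = x
    rw [← pow_mod_orderOf, hk, hk', show (7 : ℕ) ^ 2 = 49 from rfl, key, pow_one]
  have h1 := D.h_fix x hx (mul_inv_eq_iff_eq_mul.1 hfix)
  exact hne (orderOf_dvd_iff_pow_eq_one.1 (D.order_g ▸ orderOf_dvd_of_mem_zpowers h1))

/-- An element of order seven of an abelian `7`-group in `C(g)`, normalised by an involution of `C(g)`,
is in `⟨g⟩`. -/
theorem mem_of_invol {W : Subgroup G} (hW : IsPGroup 7 W) (hWg : W ≤ centralizer ({D.g} : Set G))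
    {u : G} (hu : orderOf u = 2) (hug : Commute u D.g) (hWu : ∀ x ∈ W, u * x * u⁻¹ ∈ W) :
    W ≤ zpowers D.g := by
  haveI := D.fact7
  obtain ⟨T, hT⟩ := (hW.comap_of_injective (centralizer ({D.g} : Set G)).subtype
    (Subgroup.subtype_injective _) : IsPGroup 7 (W.subgroupOf (centralizer ({D.g} : Set G)))).exists_le_sylow
  obtain ⟨c, -, hc⟩ := D.sylow.exists_conj (CfsgLib.Coprime.isSylowIn_map T)
  have hconj : ∀ x ∈ W, ∃ p ∈ D.P, MulAut.conj c p = x := fun x hx => by
    have h1 : x ∈ (T : Subgroup _).map (centralizer ({D.g} : Set G)).subtype :=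
      ⟨⟨x, hWg hx⟩, hT (mem_subgroupOf.2 hx), rfl⟩
    rw [← hc] at h1
    exact h1
  have hcomm : ∀ x ∈ W, ∀ y ∈ W, Commute x y := fun x hx y hy => by
    obtain ⟨p, hp, rfl⟩ := hconj x hx
    obtain ⟨q, hq, rfl⟩ := hconj y hy
    exact (D.P_comm hp hq).map (MulAut.conj c)
  have hexp : ∀ x ∈ W, x ^ 7 = 1 := fun x hx => by
    obtain ⟨p, hp, rfl⟩ := hconj x hx
    rw [← map_pow, D.exp hp, map_one]
  have huu := Invol.invol_mul_self hu
  have eu : u⁻¹ = u := inv_eq_of_mul_eq_one_right huu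
  intro x hx
  set y := u * x * u⁻¹
  have hy := hWu x hx
  have huy : u * y * u⁻¹ = x := by
    rw [show u * (u * x * u⁻¹) * u⁻¹ = (u * u) * x * (u⁻¹ * u⁻¹) by group, huu, eu, huu, one_mul, mul_one]
  have h1 : x * y ∈ zpowers D.g := D.invol u hu hug _ (mem_centralizer_singleton_iff.1 (hWg (mul_mem hx hy)))
    (hexp _ (mul_mem hx hy)) (Or.inl (by
      rw [show u * (x * y) * u⁻¹ = (u * x * u⁻¹) * (u * y * u⁻¹) by group, huy, (hcomm y hy x hx).eq]))
  have h2 : x * y⁻¹ ∈ zpowers D.g := D.invol u hu hug _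
    (mem_centralizer_singleton_iff.1 (hWg (mul_mem hx (inv_mem hy))))
    (hexp _ (mul_mem hx (inv_mem hy))) (Or.inr (by
      rw [show u * (x * y⁻¹) * u⁻¹ = (u * x * u⁻¹) * (u * y * u⁻¹)⁻¹ by group, huy, mul_inv_rev, inv_inv]))
  have h3 : x ^ 2 ∈ zpowers D.g := by
    have := mul_mem h1 h2
    rwa [show x * y * (x * y⁻¹) = x ^ 2 by
      rw [(hcomm x hx y hy).eq, show y * x * (x * y⁻¹) = y * (x * x) * y⁻¹ by group,
        (hcomm y hy (x * x) (mul_mem hx hx)).eq, mul_inv_cancel_right, pow_two]] at this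
  have h4 := pow_mem h3 4
  rwa [← pow_mul, show 2 * 4 = 7 + 1 from rfl, pow_succ, hexp x hx, one_mul] at h4

/-- A subgroup conjugated. -/
theorem map_conj_normalised {W : Subgroup G} {u c : G} (hWu : ∀ x ∈ W, u * x * u⁻¹ ∈ W) :
    ∀ x ∈ W.map (MulAut.conj c).toMonoidHom,
      c * u * c⁻¹ * x * (c * u * c⁻¹)⁻¹ ∈ W.map (MulAut.conj c).toMonoidHom := by
  rintro _ ⟨x, hx, rfl⟩
  exact ⟨u * x * u⁻¹, hWu x hx, by
    show c * (u * x * u⁻¹) * c⁻¹ = c * u * c⁻¹ * (c * x * c⁻¹) * (c * u * c⁻¹)⁻¹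
    group⟩

/-- No involution normalises a `7`-subgroup containing `P`. -/
theorem no_invol {R : Subgroup G} (hR : IsPGroup 7 R) (hPR : D.P ≤ R) {u : G} (hu : orderOf u = 2)
    (hn : ∀ x ∈ R, u * x * u⁻¹ ∈ R) : False := by
  haveI := D.fact7
  by_cases hfix : ∃ x ∈ R, x ≠ 1 ∧ Commute u x
  · obtain ⟨x₀, hx₀, hx₀1, hux₀⟩ := hfix
    obtain ⟨j, hj⟩ := hR ⟨x₀, hx₀⟩
    obtain ⟨x, hx, hx1, hx7, hux⟩ : ∃ x ∈ R, x ≠ 1 ∧ x ^ 7 = 1 ∧ Commute u x := by
      have hj' : x₀ ^ 7 ^ j = 1 := congrArg Subtype.val hj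
      obtain ⟨i, -, hi⟩ := (Nat.dvd_prime_pow D.fact7.out).1 (orderOf_dvd_of_pow_eq_one hj')
      obtain ⟨i, rfl⟩ := Nat.exists_eq_succ_of_ne_zero
        (show i ≠ 0 from fun e => hx₀1 (orderOf_eq_one_iff.1 (by rw [hi, e, pow_zero])))
      refine ⟨x₀ ^ 7 ^ i, pow_mem hx₀ _, fun e => ?_, ?_, hux₀.pow_right _⟩
      · have := Nat.le_of_dvd (by positivity) (hi ▸ orderOf_dvd_of_pow_eq_one e)
        exact absurd this (not_le.2 (Nat.pow_lt_pow_right (by norm_num) (Nat.lt_succ_self i)))
      · rw [← pow_mul, ← pow_succ, ← hi, pow_orderOf_eq_one]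
    obtain ⟨c, hc⟩ := D.even_cent x u hx7 hx1 hu hux
    set u' := c * u * c⁻¹
    have hu' : orderOf u' = 2 := Invol.invol_conj hu c
    have hgen : zpowers (c * x * c⁻¹) = zpowers D.g := by
      refine eq_of_le_of_card_ge (zpowers_le.2 hc) ?_
      rw [Nat.card_zpowers, Nat.card_zpowers, D.order_g,
        show c * x * c⁻¹ = MulAut.conj c x from rfl, MulEquiv.orderOf_eq, orderOf_eq_prime hx7 hx1]
    set R' := R.map (MulAut.conj c).toMonoidHom
    have hgR : D.g ∈ R' :=
      (zpowers_le.2 (show c * x * c⁻¹ ∈ R' from ⟨x, hx, rfl⟩)) (hgen.ge (mem_zpowers _))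
    have hu'g : Commute u' D.g := by
      obtain ⟨i, hi⟩ := mem_zpowers_iff.1 (hgen.ge (mem_zpowers D.g))
      exact hi ▸ (show Commute u' (c * x * c⁻¹) from hux.map (MulAut.conj c)).zpow_right i
    have hR'p : IsPGroup 7 R' := hR.map _
    have hW := D.mem_of_invol (W := R' ⊓ centralizer ({D.g} : Set G)) (hR'p.to_le inf_le_left) inf_le_right hu'
      hu'g fun y hy => ⟨D.map_conj_normalised (c := c) hn y hy.1, mem_centralizer_singleton_iff.2
        ((hu'g.mul_left (mem_centralizer_singleton_iff.1 hy.2)).mul_left hu'g.inv_left).eq⟩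
    haveI : Nontrivial R' := ⟨⟨D.g, hgR⟩, 1, fun e => D.g_ne_one (congrArg Subtype.val e)⟩
    haveI := hR'p.center_nontrivial
    obtain ⟨⟨⟨z, hzR⟩, hz⟩, hz1⟩ := exists_ne (1 : Subgroup.center R')
    have hzg : Commute z D.g := (congrArg Subtype.val (mem_center_iff.1 hz ⟨D.g, hgR⟩) : D.g * z = z * D.g).symm
    have hz' := hW ⟨hzR, mem_centralizer_singleton_iff.2 hzg.eq⟩
    have hgz : zpowers z = zpowers D.g := by
      refine eq_of_le_of_card_ge (zpowers_le.2 hz') ?_
      rw [Nat.card_zpowers, Nat.card_zpowers, D.order_g]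
      rcases (Nat.dvd_prime D.fact7.out).1 (D.order_g ▸ orderOf_dvd_of_mem_zpowers hz') with h | h
      · exact absurd (Subtype.ext (Subtype.ext (orderOf_eq_one_iff.1 h))) hz1
      · exact h.ge
    have hle : R' ≤ zpowers D.g := fun r hr => by
      refine hW ⟨hr, mem_centralizer_singleton_iff.2 ?_⟩
      obtain ⟨i, hi⟩ := mem_zpowers_iff.1 (hgz.ge (mem_zpowers D.g))
      exact hi ▸ (show Commute r z from congrArg Subtype.val (mem_center_iff.1 hz ⟨r, hr⟩)).zpow_right i
    have h1 := card_dvd_of_le hle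
    rw [card_map_of_injective (MulAut.conj c).injective, Nat.card_zpowers, D.order_g] at h1
    have h2 := (card_dvd_of_le hPR).trans h1
    rw [D.card_P] at h2
    norm_num at h2
  · push Not at hfix
    have hodd : Odd (Nat.card R) := by
      obtain ⟨j, hj⟩ := hR.exists_card_eq
      rw [hj]; exact (by decide : Odd 7).pow
    have huu := Invol.invol_mul_self hu
    have eu : u⁻¹ = u := inv_eq_of_mul_eq_one_right huu
    let τ : MulAut R :=
      { toFun := fun x => ⟨u * x * u⁻¹, hn x x.2⟩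
        invFun := fun x => ⟨u * x * u⁻¹, hn x x.2⟩
        left_inv := fun x => Subtype.ext (by
          show u * (u * x * u⁻¹) * u⁻¹ = (x : G)
          rw [show u * (u * (x : G) * u⁻¹) * u⁻¹ = (u * u) * x * (u⁻¹ * u⁻¹) by group, huu, eu, huu, one_mul,
            mul_one])
        right_inv := fun x => Subtype.ext (by
          show u * (u * x * u⁻¹) * u⁻¹ = (x : G)
          rw [show u * (u * (x : G) * u⁻¹) * u⁻¹ = (u * u) * x * (u⁻¹ * u⁻¹) by group, huu, eu, huu, one_mul,
            mul_one])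
        map_mul' := fun a b => Subtype.ext (by push_cast; group) }
    have hττ : ∀ x, τ (τ x) = x := τ.left_inv
    obtain ⟨c, m, hcm, hc, hm, -⟩ := exists_fixed_mul_inverted hodd hττ ⟨D.g, hPR D.g_mem_P⟩
    have hc1 : c = 1 := Subtype.ext (by_contra fun h1 => hfix c c.2 h1
      (mul_inv_eq_iff_eq_mul.1 (congrArg Subtype.val hc)))
    rw [hc1, one_mul] at hcm
    subst hcm
    have hinv : u * D.g * u⁻¹ = D.g⁻¹ := congrArg Subtype.val hm
    have hug := D.norm_g u (hinv ▸ inv_mem (mem_zpowers _))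
    rw [hug.eq, mul_inv_cancel_right, eq_inv_iff_mul_eq_one] at hinv
    have h2 : orderOf D.g ∣ 2 := orderOf_dvd_of_pow_eq_one (by rw [pow_two]; exact hinv)
    rw [D.order_g] at h2
    norm_num at h2

/-- The configuration does not exist. -/
theorem false : False := by
  classical
  haveI := D.fact7
  haveI : Fact (Nat.Prime 2) := ⟨Nat.prime_two⟩
  obtain ⟨S, hPS⟩ := D.sylow.isPGroup.exists_le_sylow
  set R := (S : Subgroup G)
  set Z := Cfsg.centerThompsonOf 7 R
  set N := normalizer (Z : Set G)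
  have hRN : R ≤ N := le_normalizer.trans (CfsgLib.CFun.normalizer_le_normalizer_centerThompsonOf R)
  have hgN : D.g ∈ ⁅R, N⁆ :=
    sylow_le_commutator_local D.simple D.noncomm D.abTwo (by norm_num) S (hPS D.g_mem_P)
  have hZR : Z ≤ R := inf_le_left.trans (CfsgLib.Fusion.thompsonSubgroupOf_le _)
  have hZc : ∀ a ∈ Z, ∀ b ∈ Z, Commute a b := fun a ha b hb =>
    (mem_centralizer_iff.1 ha.2 b hb.1).symm
  have hmemZ : ∀ x ∈ R, x ^ 7 = 1 → (∀ r ∈ R, r * x = x * r) → x ∈ Z := fun x hx hxl hc =>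
    (closure_le _).2 (fun y hy => hy.1)
      (CfsgLib.BaumannBlock.omegaOneCenter_le_omegaOne_centerThompson S
        (subset_closure ⟨⟨hx, mem_centralizer_iff.2 hc⟩, hxl⟩))
  haveI : Nontrivial R := ⟨⟨D.g, hPS D.g_mem_P⟩, 1, fun e => D.g_ne_one (congrArg Subtype.val e)⟩
  haveI := S.2.center_nontrivial
  obtain ⟨⟨⟨z, hzR⟩, hzc⟩, hz1⟩ := exists_prime_orderOf_dvd_card' (G := Subgroup.center R) 7 (by
    obtain ⟨j, hj⟩ := (S.2.to_subgroup (Subgroup.center R)).exists_card_eq
    rw [hj]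
    refine dvd_pow_self _ fun e => ?_
    have h := Finite.one_lt_card (α := Subgroup.center R)
    rw [hj, e, pow_zero] at h
    exact lt_irrefl _ h)
  have hzo : orderOf z = 7 := by rw [← hz1, ← Subgroup.orderOf_coe, ← Subgroup.orderOf_coe]
  have hzne : z ≠ 1 := fun e => by rw [e, orderOf_one] at hzo; omega
  have hz7 : z ^ 7 = 1 := hzo ▸ pow_orderOf_eq_one z
  have hzcen : ∀ r ∈ R, r * z = z * r := fun r hr => congrArg Subtype.val (mem_center_iff.1 hzc ⟨r, hr⟩)
  have hzZ : z ∈ Z := hmemZ z hzR hz7 hzcen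
  -- no involution in `N`
  have hNodd : Odd (Nat.card N) := by
    by_contra he
    rw [Nat.not_odd_iff_even] at he
    obtain ⟨u, huN, hu⟩ := Invol.exists_invol_mem he
    have hZu : ∀ x ∈ Z, u * x * u⁻¹ ∈ Z := fun x hx => (mem_normalizer_iff.1 huN x).1 hx
    by_cases hfix : ∃ x ∈ Z, x ≠ 1 ∧ x ^ 7 = 1 ∧ Commute u x
    · obtain ⟨x, hx, hx1, hx7, hux⟩ := hfix
      obtain ⟨c, hc⟩ := D.even_cent x u hx7 hx1 hu hux
      set f := MulAut.conj c
      have hgen : zpowers (c * x * c⁻¹) = zpowers D.g := by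
        refine eq_of_le_of_card_ge (zpowers_le.2 hc) ?_
        rw [Nat.card_zpowers, Nat.card_zpowers, D.order_g,
          show c * x * c⁻¹ = MulAut.conj c x from rfl, MulEquiv.orderOf_eq, orderOf_eq_prime hx7 hx1]
      obtain ⟨i, hi⟩ := mem_zpowers_iff.1 (hgen.ge (mem_zpowers D.g))
      have hZg : Z.map f.toMonoidHom ≤ centralizer ({D.g} : Set G) := by
        rintro _ ⟨y, hy, rfl⟩
        refine mem_centralizer_singleton_iff.2 ?_
        exact (hi ▸ (show Commute (f y) (c * x * c⁻¹) from (hZc y hy x hx).map f).zpow_right i :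
          Commute (f y) D.g).eq
      have hu'g : Commute (f u) D.g := hi ▸ (show Commute (f u) (c * x * c⁻¹) from hux.map f).zpow_right i
      have hle := D.mem_of_invol ((S.2.to_le hZR).map _) hZg (Invol.invol_conj hu c) hu'g
        (D.map_conj_normalised (c := c) hZu)
      have hzx : z ∈ zpowers x := by
        obtain ⟨j, hj⟩ := mem_zpowers_iff.1 (hgen.ge (hle (mem_map_of_mem f.toMonoidHom hzZ)))
        exact mem_zpowers_iff.2 ⟨j, f.injective (by rw [map_zpow]; exact hj)⟩
      have hzgen : zpowers z = zpowers x := eq_of_le_of_card_ge (zpowers_le.2 hzx) (by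
        rw [Nat.card_zpowers, Nat.card_zpowers, hzo, orderOf_eq_prime hx7 hx1])
      obtain ⟨k, hk⟩ := mem_zpowers_iff.1 (hzgen.ge (mem_zpowers x))
      have hRg : R.map f.toMonoidHom ≤ centralizer ({D.g} : Set G) := by
        rintro _ ⟨r, hr, rfl⟩
        refine mem_centralizer_singleton_iff.2 ?_
        have hrx : Commute r x := hk ▸ (show Commute r z from hzcen r hr).zpow_right k
        exact (hi ▸ (show Commute (f r) (c * x * c⁻¹) from hrx.map f).zpow_right i : Commute (f r) D.g).eq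
      have hcardR : Nat.card R ≤ 49 := by
        obtain ⟨j, hj⟩ := S.2.exists_card_eq
        rw [hj, ← D.card_P, D.sylow.2]
        refine Nat.pow_le_pow_right (by norm_num)
          ((Nat.Prime.pow_dvd_iff_le_factorization D.fact7.out Nat.card_pos.ne').1 ?_)
        rw [← hj, ← card_map_of_injective (f := f.toMonoidHom) f.injective]
        exact card_dvd_of_le hRg
      have hRP : R = D.P := (eq_of_le_of_card_ge hPS (by rw [D.card_P]; exact hcardR)).symm
      have hPZ : D.P ≤ Z := fun p hp => hmemZ p (hPS hp) (D.exp hp) fun r hr =>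
        (D.P_comm (hRP ▸ hr) hp).eq
      have h49 := card_dvd_of_le ((map_mono hPZ).trans hle)
      rw [card_map_of_injective f.injective, D.card_P, Nat.card_zpowers, D.order_g] at h49
      norm_num at h49
    · push Not at hfix
      -- `u` inverts `z`
      have hodd : Odd (Nat.card Z) := by
        obtain ⟨j, hj⟩ := (S.2.to_le hZR).exists_card_eq
        rw [hj]; exact (by decide : Odd 7).pow
      set y := z * (u * z * u⁻¹)
      have huu := Invol.invol_mul_self hu
      have eu : u⁻¹ = u := inv_eq_of_mul_eq_one_right huu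
      have hy : Commute u y := by
        have h1 : u * y * u⁻¹ = y := by
          show u * (z * (u * z * u⁻¹)) * u⁻¹ = z * (u * z * u⁻¹)
          rw [show u * (z * (u * z * u⁻¹)) * u⁻¹ = (u * z * u⁻¹) * ((u * u) * z * (u * u)⁻¹) by group, huu,
            inv_one, one_mul, mul_one]
          exact (hZc (u * z * u⁻¹) (hZu z hzZ) z hzZ).eq
        exact mul_inv_eq_iff_eq_mul.1 h1
      have hy7 : y ^ 7 = 1 := by
        rw [(hZc z hzZ _ (hZu z hzZ)).mul_pow, hz7, conj_pow, hz7, mul_one, mul_inv_cancel, mul_one]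
      have hy1 : y = 1 := by
        by_contra h1
        exact hfix y (mul_mem hzZ (hZu z hzZ)) h1 hy7 hy
      have hinv : u * z * u⁻¹ = z⁻¹ := eq_inv_of_mul_eq_one_right hy1
      -- Frattini in `C(z)`
      set Cz := centralizer ({z} : Set G)
      have hRC : R ≤ Cz := fun r hr => mem_centralizer_singleton_iff.2 (hzcen r hr)
      have huC : ∀ r ∈ R, u * r * u⁻¹ ∈ Cz := fun r hr => mem_centralizer_singleton_iff.2 (by
        have h : Commute (u * r * u⁻¹) (u * z * u⁻¹) := (show Commute r z from hzcen r hr).map (MulAut.conj u)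
        rw [hinv] at h
        exact (inv_inv z ▸ h.inv_right).eq)
      obtain ⟨c, hc⟩ := MulAction.exists_smul_eq Cz (Sylow.subtype (P := (u • S : Sylow 7 G)) (N := Cz) (by
        rintro _ ⟨r, hr, rfl⟩
        exact huC r hr)) (S.subtype hRC)
      have hn : ∀ r ∈ R, (c : G) * u * r * ((c : G) * u)⁻¹ ∈ R := by
        intro r hr
        have h1 := congrArg (fun T : Sylow 7 Cz => (T : Subgroup Cz)) hc
        have h2 : (c * ⟨u * r * u⁻¹, huC r hr⟩ * c⁻¹ : Cz) ∈ ((S.subtype hRC : Sylow 7 Cz) : Subgroup Cz) := by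
          rw [← show ((c • (Sylow.subtype (P := (u • S : Sylow 7 G)) (N := Cz) _) : Sylow 7 Cz) : Subgroup Cz) =
            ((S.subtype hRC : Sylow 7 Cz) : Subgroup Cz) from h1]
          exact ⟨⟨u * r * u⁻¹, huC r hr⟩, ⟨r, hr, rfl⟩, rfl⟩
        rw [show (c : G) * u * r * ((c : G) * u)⁻¹ = (c : G) * (u * r * u⁻¹) * (c : G)⁻¹ by group]
        exact h2
      set n := (c : G) * u
      have hnz : n * z * n⁻¹ = z⁻¹ := by
        rw [show n * z * n⁻¹ = (c : G) * (u * z * u⁻¹) * (c : G)⁻¹ by simp only [n]; group, hinv,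
          (show Commute (c : G) z⁻¹ from
            (show Commute (c : G) z from mem_centralizer_singleton_iff.1 c.2).inv_right).eq,
          mul_inv_cancel_right]
      have hinvpow : ∀ k : ℕ, n ^ k * z * (n ^ k)⁻¹ = if Even k then z else z⁻¹ := by
        intro k
        induction k with
        | zero => simp
        | succ k ih =>
          rw [pow_succ', show n * n ^ k * z * (n * n ^ k)⁻¹ = n * (n ^ k * z * (n ^ k)⁻¹) * n⁻¹ by group, ih]
          by_cases hk : Even k
          · rw [if_pos hk, if_neg (by simpa [Nat.even_add_one] using hk), hnz]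
          · rw [if_neg hk, if_pos (by simpa [Nat.even_add_one] using hk),
              show n * z⁻¹ * n⁻¹ = (n * z * n⁻¹)⁻¹ by group, hnz, inv_inv]
      have hev : Even (orderOf n) := by
        by_contra hk
        have h1 := hinvpow (orderOf n)
        rw [pow_orderOf_eq_one, if_neg hk, one_mul, inv_one, mul_one, eq_inv_iff_mul_eq_one] at h1
        have h2 : orderOf z ∣ 2 := orderOf_dvd_of_pow_eq_one (by rw [pow_two]; exact h1)
        rw [hzo] at h2
        norm_num at h2
      obtain ⟨k, hk⟩ := hev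
      have hnN : n ∈ normalizer (R : Set G) := CfsgLib.Coprime.conjBy_eq_self_iff.1
        (eq_of_le_of_card_ge (by rintro _ ⟨r, hr, rfl⟩; exact hn r hr) (CfsgLib.Coprime.card_conjBy n _).ge)
      refine D.no_invol S.2 hPS (u := n ^ k) (Invol.invol_iff.2 ⟨?_, fun e => ?_⟩) fun r hr =>
        (mem_normalizer_iff.1 (pow_mem hnN k) r).1 hr
      · rw [← pow_add, ← hk, pow_orderOf_eq_one]
      · have hdv := orderOf_dvd_of_pow_eq_one e
        have hpos := orderOf_pos n
        have := Nat.le_of_dvd (by omega) hdv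
        omega
  -- `h ∈ N`
  obtain ⟨m, hm, hma⟩ := Cfsg.Agent.S0118.result (by norm_num) (not_involves_slTwo D.abTwo (by norm_num)) S
    (D.P : Set G) hPS D.h⁻¹ (by
      rintro _ ⟨a, ha, rfl⟩
      show D.h⁻¹⁻¹ * a * D.h⁻¹ ∈ (S : Subgroup G)
      rw [inv_inv]; exact hPS (D.h_P a ha))
  have hhN : D.h ∈ N := by
    have hc : D.h⁻¹ * m⁻¹ ∈ D.P := D.cent_P _ fun x hx => by
      have h1 : m⁻¹ * x * m = D.h⁻¹⁻¹ * x * D.h⁻¹ := hma x hx
      calc D.h⁻¹ * m⁻¹ * x = D.h⁻¹ * (m⁻¹ * x * m) * m⁻¹ := by group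
        _ = x * (D.h⁻¹ * m⁻¹) := by rw [h1]; group
    have h2 := mul_mem (inv_mem hm) (inv_mem (hRN (hPS hc)))
    rwa [show m⁻¹ * (D.h⁻¹ * m⁻¹)⁻¹ = D.h by group] at h2
  -- pass to the quotient by the `7'`-core
  haveI hNsol : Group.IsSolvable N := Cfsg.Agent.S0205.result hNodd
  set O := Cfsg.pPrimeCore 7 N
  haveI hOn : O.Normal := Subgroup.sSup_normal _ (fun _ h => h.1)
  have hO7 : ¬ 7 ∣ Nat.card O := CfsgLib.Coprime.pPrimeCore_not_dvd D.fact7.out
  set π := QuotientGroup.mk' O
  have hπs : Function.Surjective π := QuotientGroup.mk'_surjective _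
  have hπ1 : ∀ x : N, π x = 1 → x ∈ O := fun x hx => (QuotientGroup.eq_one_iff x).1 hx
  have hOR : ∀ x : N, x ∈ O → (x : G) ∈ R → x = 1 := fun x hx hxR => by
    obtain ⟨j, hj⟩ := S.2 ⟨_, hxR⟩
    refine orderOf_eq_one_iff.1 (Nat.eq_one_of_dvd_coprimes
      (((Nat.Prime.coprime_iff_not_dvd D.fact7.out).2 hO7).pow_left j) ?_ (Subgroup.orderOf_dvd_natCard O hx))
    exact orderOf_dvd_of_pow_eq_one (Subtype.ext (by rw [Subgroup.coe_pow]; exact congrArg Subtype.val hj))
  let gN : N := ⟨D.g, hRN (hPS D.g_mem_P)⟩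
  let hN' : N := ⟨D.h, hhN⟩
  set PN := D.P.subgroupOf N
  set Pb := PN.map π
  have hPN : D.P ≤ N := hPS.trans hRN
  have hinjP : ∀ a b : N, (a : G) ∈ R → (b : G) ∈ R → π a = π b → a = b := fun a b ha hb e => by
    refine mul_inv_eq_one.1 (hOR _ (hπ1 _ (by rw [map_mul, map_inv, e, mul_inv_cancel])) ?_)
    exact R.mul_mem ha (R.inv_mem hb)
  have hPb : Nat.card Pb = 49 := by
    rw [← D.card_P, ← Nat.card_congr (subgroupOfEquivOfLe hPN).toEquiv]
    exact Nat.card_image_of_injOn fun a ha b hb e => hinjP a b (hPS ha) (hPS hb) e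
  -- centralizers lift
  have hlift : ∀ A : Subgroup N, (∀ a ∈ A, (a : G) ∈ R) → ∀ x : N, (∀ a ∈ A, Commute (π x) (π a)) →
      ∃ x' : N, π x' = π x ∧ ∀ a ∈ A, Commute x' a := by
    intro A hA x hx
    obtain ⟨n, hn, hxn⟩ := CfsgLib.Coprime.exists_fixed_in_coset (A := A) (N := O) (k := x)
      (by rw [normalizer_eq_top]; exact le_top)
      (by
        obtain ⟨j, hj⟩ := (S.2.comap_of_injective N.subtype N.subtype_injective).to_le
          (show A ≤ R.comap N.subtype from hA) |>.exists_card_eq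
        rw [hj]
        exact ((Nat.Prime.coprime_iff_not_dvd D.fact7.out).2 hO7).pow_left j)
      (Or.inr inferInstance) (by rw [normalizer_eq_top]; exact mem_top x)
      (fun a ha => hπ1 _ (by
        rw [map_mul, map_mul, map_mul, map_inv, map_inv, (hx a ha).symm.eq]; group))
    exact ⟨x * n, by rw [map_mul, show π n = 1 from (QuotientGroup.eq_one_iff n).2 hn, mul_one],
      fun a ha => (mem_centralizer_iff.1 hxn a ha).symm⟩
  have hcentg : ∀ x : N, Commute (π x) (π gN) → ∃ x' : N, π x' = π x ∧ Commute (x' : G) D.g := by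
    intro x hx
    obtain ⟨x', h1, h2⟩ := hlift (zpowers gN) (fun a ha => by
      obtain ⟨i, rfl⟩ := mem_zpowers_iff.1 ha
      exact R.zpow_mem (hPS D.g_mem_P) i) x fun a ha => by
      obtain ⟨i, rfl⟩ := mem_zpowers_iff.1 ha
      rw [map_zpow]; exact hx.zpow_right i
    exact ⟨x', h1, congrArg Subtype.val (h2 gN (mem_zpowers _))⟩
  set Sb : Sylow 7 (N ⧸ O) := (S.subtype hRN).mapSurjective hπs
  have hSb : (Sb : Subgroup (N ⧸ O)) = (R.subgroupOf N).map π := Sylow.coe_mapSurjective _ _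
  have hH : Seven.Hyp (N ⧸ O) Sb Pb (π gN) (π hN') :=
    { odd := hNodd.of_dvd_nat (card_quotient_dvd_card O)
      solvable := inferInstance
      core := CfsgLib.Coprime.pPrimeCore_quotient_eq_bot D.fact7.out
      sylow := by
        have hle : Pb ≤ centralizer ({π gN} : Set (N ⧸ O)) := by
          rintro _ ⟨a, ha, rfl⟩
          refine mem_centralizer_singleton_iff.2 ?_
          rw [← map_mul, ← map_mul]
          exact congrArg π (Subtype.ext (mem_centralizer_singleton_iff.1 (D.sylow.1 ha)))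
        refine ⟨hle, le_antisymm ?_ ?_⟩
        · obtain ⟨j, hj⟩ := (IsPGroup.of_card (p := 7) (n := 2) (by rw [hPb]; norm_num) : IsPGroup 7 Pb).exists_card_eq
          rw [hj]
          refine Nat.pow_le_pow_right (by norm_num)
            ((Nat.Prime.pow_dvd_iff_le_factorization D.fact7.out Nat.card_pos.ne').1 ?_)
          exact hj ▸ card_dvd_of_le hle
        · have h1 : centralizer ({π gN} : Set (N ⧸ O)) ≤
              ((centralizer ({D.g} : Set G)).subgroupOf N).map π := fun b hb => by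
            obtain ⟨x, rfl⟩ := hπs b
            obtain ⟨x', h1, h2⟩ := hcentg x (mem_centralizer_singleton_iff.1 hb)
            exact ⟨x', mem_centralizer_singleton_iff.2 h2.eq, h1⟩
          have h2 : Nat.card (centralizer ({π gN} : Set (N ⧸ O))) ∣ Nat.card (centralizer ({D.g} : Set G)) :=
            ((card_dvd_of_le h1).trans (Subgroup.card_map_dvd _ _)).trans
              ((card_map_of_injective N.subtype_injective).symm.dvd.trans
                (card_dvd_of_le (by rintro _ ⟨y, hy, rfl⟩; exact hy)))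
          rw [hPb, ← D.card_P, D.sylow.2]
          exact Nat.pow_le_pow_right (by norm_num)
            ((Nat.factorization_le_iff_dvd Nat.card_pos.ne' Nat.card_pos.ne').2 h2 7)
      card_P := hPb
      P_le := by rw [hSb]; exact map_mono (fun x hx => hPS hx)
      g_mem := ⟨gN, D.g_mem_P, rfl⟩
      order_g := orderOf_eq_prime
        (by rw [← map_pow, show gN ^ 7 = 1 from Subtype.ext (show D.g ^ 7 = 1 from D.order_g ▸ pow_orderOf_eq_one _),
          map_one])
        (fun e => D.g_ne_one (congrArg Subtype.val (hinjP gN 1 (hPS D.g_mem_P) R.one_mem (e.trans π.map_one.symm))))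
      exp := by
        rintro _ ⟨a, ha, rfl⟩
        rw [← map_pow, show a ^ 7 = 1 from Subtype.ext (by rw [Subgroup.coe_pow]; exact D.exp ha), map_one]
      h_three := by
        rw [← map_pow, show hN' ^ 3 = 1 from Subtype.ext (show D.h ^ 3 = 1 from D.order_h ▸ pow_orderOf_eq_one _),
          map_one]
      h_g := (show Commute hN' gN from Subtype.ext D.h_g.eq).map π
      h_P := by
        rintro _ ⟨a, ha, rfl⟩
        exact ⟨hN' * a * hN'⁻¹, D.h_P _ ha, by simp⟩
      h_fix := by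
        rintro _ ⟨a, ha, rfl⟩ hc
        have h1 : hN' * a * hN'⁻¹ = a := hinjP _ _ (hPS (D.h_P _ ha)) (hPS ha) (by
          rw [map_mul, map_mul, map_inv, hc.eq, mul_inv_cancel_right])
        obtain ⟨i, hi⟩ := mem_zpowers_iff.1 (D.h_fix _ ha
          (mul_inv_eq_iff_eq_mul.1 (congrArg Subtype.val h1)))
        exact mem_zpowers_iff.2 ⟨i, by
          rw [← map_zpow]; exact congrArg π (Subtype.ext (by rw [Subgroup.coe_zpow]; exact hi))⟩
      cent_P := fun b hb => by
        obtain ⟨x, rfl⟩ := hπs b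
        obtain ⟨x', h1, h2⟩ := hlift PN (fun a ha => hPS ha) x (fun a ha => hb _ ⟨a, ha, rfl⟩)
        exact ⟨x', D.cent_P _ (fun p hp => congrArg Subtype.val (h2 ⟨p, hPN hp⟩ hp)), h1⟩
      norm_g := fun b hb => by
        obtain ⟨x, rfl⟩ := hπs b
        obtain ⟨i, hi⟩ := mem_zpowers_iff.1 hb
        set H := (zpowers (π gN)).comap π
        have hgH : zpowers gN ≤ H := zpowers_le.2 (mem_zpowers (π gN))
        have hxH : x * gN * x⁻¹ ∈ H := by
          show π (x * gN * x⁻¹) ∈ zpowers (π gN)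
          rw [map_mul, map_mul, map_inv]; exact hb
        have ho : orderOf gN = 7 := (Subgroup.orderOf_coe gN).symm.trans D.order_g
        have h7H : ¬ 7 ^ 2 ∣ Nat.card H := by
          intro hd
          have hle : H ≤ O ⊔ zpowers gN := fun y hy => by
            obtain ⟨k, hk⟩ := mem_zpowers_iff.1 (show π y ∈ zpowers (π gN) from hy)
            have hy' : y * (gN ^ k)⁻¹ ∈ O := hπ1 _ (by rw [map_mul, map_inv, map_zpow, hk, mul_inv_cancel])
            have := mul_mem (mem_sup_left (T := zpowers gN) hy') (mem_sup_right (S := O) (zpow_mem (mem_zpowers gN) k))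
            rwa [inv_mul_cancel_right] at this
          have h1 := hd.trans ((card_dvd_of_le (hle.trans (sup_comm _ _).le)).trans (CfsgLib.Coprime.card_sup_dvd_of_normal (zpowers gN) O))
          rw [Nat.card_zpowers, ho, pow_two] at h1
          exact hO7 (Nat.dvd_of_mul_dvd_mul_left (by norm_num) h1)
        have hpH : ∀ z : N, z ∈ H → orderOf z = 7 → CfsgLib.Coprime.IsSylowIn 7 (zpowers z) H := by
          intro z hz hzo
          refine ⟨zpowers_le.2 hz, ?_⟩
          have h1 : (Nat.card H).factorization 7 = 1 := by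
            refine le_antisymm ?_ ((Nat.Prime.pow_dvd_iff_le_factorization D.fact7.out Nat.card_pos.ne').1 ?_)
            · by_contra hlt
              exact h7H ((Nat.Prime.pow_dvd_iff_le_factorization D.fact7.out Nat.card_pos.ne').2 (by omega))
            · rw [pow_one, ← hzo]; exact Subgroup.orderOf_dvd_natCard H hz
          rw [Nat.card_zpowers, hzo, h1, pow_one]
        obtain ⟨y, hy, hyc⟩ := (hpH _ hxH (by
          rw [show x * gN * x⁻¹ = MulAut.conj x gN from rfl, MulEquiv.orderOf_eq]; exact ho)).exists_conj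
            (hpH gN (hgH (mem_zpowers gN)) ho)
        obtain ⟨k, hk⟩ := mem_zpowers_iff.1 (hyc.le (mem_map_of_mem _ (mem_zpowers (x * gN * x⁻¹))))
        have hk' : gN ^ k = (y * x) * gN * (y * x)⁻¹ := hk.trans (by simp [mul_assoc])
        have hyx : Commute (y * x) gN := Subtype.ext (D.norm_g _ (mem_zpowers_iff.2 ⟨k, by
          exact (Subgroup.coe_zpow _ _ _).symm.trans (congrArg Subtype.val hk')⟩)).eq
        obtain ⟨k', hk''⟩ := mem_zpowers_iff.1 (show π y ∈ zpowers (π gN) from hy)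
        have h2 := hyx.map π
        rw [map_mul, ← hk''] at h2
        have h3 := ((Commute.refl (π gN)).zpow_left k').inv_left.mul_left h2
        rwa [inv_mul_cancel_left] at h3 }
  refine Seven.not_mem_commutator hH ?_
  have h1 : gN ∈ ⁅R.subgroupOf N, (⊤ : Subgroup N)⁆ := by
    have h2 : (⁅R.subgroupOf N, (⊤ : Subgroup N)⁆).map N.subtype = ⁅R, N⁆ := by
      rw [map_commutator, map_subgroupOf_eq_of_le hRN, ← MonoidHom.range_eq_map, Subgroup.range_subtype]
    obtain ⟨y, hy, hye⟩ := h2.ge hgN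
    exact (show y = gN from Subtype.ext hye) ▸ hy
  have h3 : π gN ∈ (⁅R.subgroupOf N, (⊤ : Subgroup N)⁆).map π := mem_map_of_mem π h1
  rwa [map_commutator, ← hSb, map_top_of_surjective π hπs] at h3

end Nonreal

end CfsgLib.Walter.Outer
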