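import Cfsg.Agent.Lib.Walter.Outer.Invert
import Cfsg.Agent.Lib.Coprime.Solvable
import Cfsg.Agent.Lib.Coprime.Action
import Cfsg.Agent.Lib.Coprime.PGroupFrattini
import Mathlib.LinearAlgebra.Matrix.GeneralLinearGroup.Card
import Mathlib.LinearAlgebra.Matrix.ToLin
import Mathlib.LinearAlgebra.FreeModule.Finite.Basic

/-!
# An element of order seven with centralizer `49` in the Sylow subgroup of a group of odd order

`M` has odd order and trivial `7'`-core, `g` has order seven, a Sylow `7`-subgroup of `C(g)` is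
`P ≅ 7 × 7`, `h` of order three fixes exactly `⟨g⟩` in `P`, and `N(⟨g⟩) = C(g)`. Then `g` is not in
`[R, M]` for a Sylow `7`-subgroup `R`.
-/

set_option autoImplicit false
set_option linter.unusedSectionVars false
set_option linter.style.haveILetI false

namespace CfsgLib.Walter.Outer.Seven

open Subgroup
open scoped commutatorElement

universe u

variable {M : Type u} [Group M] [Finite M]

/-- The hypotheses. -/
structure Hyp (M : Type u) [Group M] [Finite M] (R : Sylow 7 M) (P : Subgroup M) (g h : M) : Prop where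
  odd : Odd (Nat.card M)
  solvable : Group.IsSolvable M
  core : Cfsg.pPrimeCore 7 M = ⊥
  sylow : CfsgLib.Coprime.IsSylowIn 7 P (centralizer ({g} : Set M))
  card_P : Nat.card P = 49
  P_le : P ≤ R
  g_mem : g ∈ P
  order_g : orderOf g = 7
  exp : ∀ x ∈ P, x ^ 7 = 1
  h_three : h ^ 3 = 1
  h_g : Commute h g
  h_P : ∀ x ∈ P, h * x * h⁻¹ ∈ P
  h_fix : ∀ x ∈ P, Commute h x → x ∈ zpowers g
  cent_P : ∀ c, (∀ x ∈ P, Commute c x) → c ∈ P
  norm_g : ∀ m, m * g * m⁻¹ ∈ zpowers g → Commute m g

variable {R : Sylow 7 M} {P : Subgroup M} {g h : M} (H : Hyp M R P g h)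

include H

theorem g_ne_one : g ≠ 1 := fun e => by
  have h7 := H.order_g
  rw [e, orderOf_one] at h7
  omega

theorem h_ne_one : h ≠ 1 := by
  intro e
  have hle : P ≤ zpowers g := fun x hx => H.h_fix x hx (e ▸ Commute.one_left x)
  have h2 := card_dvd_of_le hle
  rw [H.card_P, Nat.card_zpowers, H.order_g] at h2
  norm_num at h2

/-- In `R` the centralizer of `g` is `P`. -/
theorem mem_P {x : M} (hx : x ∈ (R : Subgroup M)) (hc : Commute x g) : x ∈ P := by
  haveI : Fact (Nat.Prime 7) := ⟨by norm_num⟩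
  have hW : P = (R : Subgroup M) ⊓ centralizer ({g} : Set M) := by
    refine eq_of_le_of_card_ge (le_inf H.P_le H.sylow.1) ?_
    obtain ⟨j, hj⟩ := (R.2.to_le inf_le_left : IsPGroup 7
      ((R : Subgroup M) ⊓ centralizer ({g} : Set M) : Subgroup M)).exists_card_eq
    rw [hj, H.sylow.2]
    refine Nat.pow_le_pow_right (by norm_num)
      ((Nat.Prime.pow_dvd_iff_le_factorization (by norm_num) Nat.card_pos.ne').1 ?_)
    exact hj ▸ card_dvd_of_le inf_le_right
  exact hW.ge ⟨hx, mem_centralizer_singleton_iff.2 hc.eq⟩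

/-- A power of `g` has the same centralizer. -/
theorem commute_of_pow {e x : M} (he : e ∈ zpowers g) (he1 : e ≠ 1) (hx : Commute x e) : Commute x g := by
  have h1 : zpowers e = zpowers g := by
    refine eq_of_le_of_card_ge (zpowers_le.2 he) ?_
    have h2 : orderOf e ∣ 7 := H.order_g ▸ orderOf_dvd_of_mem_zpowers he
    rw [Nat.card_zpowers, Nat.card_zpowers, H.order_g]
    rcases (Nat.dvd_prime (by norm_num)).1 h2 with h | h
    · exact absurd (orderOf_eq_one_iff.1 h) he1
    · exact h.ge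
  obtain ⟨j, hj⟩ := mem_zpowers_iff.1 (h1.ge (mem_zpowers g))
  exact hj ▸ hx.zpow_right j

/-- The elements of a subgroup of `R` moving `e` into `eK` are few. -/
theorem card_moving_le {Q K : Subgroup M} (hQ : Q ≤ R) {e : M} (he : e ∈ zpowers g) (he1 : e ≠ 1) :
    Nat.card {q : M | q ∈ Q ∧ q * e * q⁻¹ * e⁻¹ ∈ K} ≤ Nat.card (Q ⊓ P : Subgroup M) * Nat.card K := by
  classical
  haveI := Fintype.ofFinite M
  set S := {q : M | q ∈ Q ∧ q * e * q⁻¹ * e⁻¹ ∈ K}
  let F : S → K := fun q => ⟨q.1 * e * q.1⁻¹ * e⁻¹, q.2.2⟩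
  have hfib : ∀ a b : S, F a = F b → a.1⁻¹ * b.1 ∈ Q ⊓ P := by
    intro a b hab
    have h1 : a.1 * e * a.1⁻¹ * e⁻¹ = b.1 * e * b.1⁻¹ * e⁻¹ := congrArg Subtype.val hab
    have h2 : Commute (a.1⁻¹ * b.1) e := by
      have h3 := mul_right_cancel h1
      calc a.1⁻¹ * b.1 * e = a.1⁻¹ * (b.1 * e * b.1⁻¹) * b.1 := by group
        _ = e * (a.1⁻¹ * b.1) := by rw [← h3]; group
    have hQab : a.1⁻¹ * b.1 ∈ Q := mul_mem (inv_mem a.2.1) b.2.1
    exact ⟨hQab, mem_P H (hQ hQab) (commute_of_pow H he he1 h2)⟩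
  let G' : S → (Q ⊓ P : Subgroup M) × K := fun q =>
    haveI : Nonempty S := ⟨q⟩
    (⟨(Function.invFun F (F q) : S).1⁻¹ * q.1, hfib _ q (Function.invFun_eq ⟨q, rfl⟩)⟩, F q)
  refine (Nat.card_le_card_of_injective G' fun a b hab => ?_).trans (Nat.card_prod _ _).le
  obtain ⟨h1, h2⟩ := Prod.ext_iff.1 hab
  have h3 := congrArg Subtype.val h1
  simp only [G'] at h3 h2
  rw [h2] at h3
  exact Subtype.ext (mul_left_cancel h3)

variable {Q : Subgroup M}

theorem R_le_of_ker (hQ : Q ≤ R) (hnd : ∀ T : Subgroup M, T.Normal → IsPGroup 7 T → T ≤ Q)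
    {A : Type*} [Group A] [Finite A] (f : M →* A) (hker : IsPGroup 7 f.ker) (hQker : Q ≤ f.ker)
    (hA : Nat.card f.range ∣ 63) : (R : Subgroup M) = Q ∧ Nat.card f.range ∣ 9 := by
  haveI : Fact (Nat.Prime 7) := ⟨by norm_num⟩
  have h7 : ¬ 7 ∣ Nat.card f.range := by
    intro h
    obtain ⟨T⟩ : Nonempty (Sylow 7 f.range) := inferInstance
    have hT : 7 ∣ Nat.card (T : Subgroup f.range) := T.dvd_card_of_dvd_card h
    have hidx : Nat.card (Sylow 7 f.range) ∣ 9 := by
      have h1 := (Sylow.card_dvd_index T)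
      refine h1.trans ?_
      have h2 := (T : Subgroup f.range).card_mul_index
      have h3 : 7 * (T : Subgroup f.range).index ∣ 63 :=
        ((Nat.mul_dvd_mul_right hT _).trans h2.dvd).trans hA
      exact Nat.dvd_of_mul_dvd_mul_left (by norm_num) (show 7 * _ ∣ 7 * 9 from h3)
    have hone : Nat.card (Sylow 7 f.range) = 1 := by
      have hmod : Nat.card (Sylow 7 f.range) % 7 = 1 := card_sylow_modEq_one 7 f.range
      have hle := Nat.le_of_dvd (by norm_num) hidx
      interval_cases hc : Nat.card (Sylow 7 f.range) <;> omega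
    haveI := (Nat.card_eq_one_iff_unique.1 hone).1
    haveI hTn : (T : Subgroup f.range).Normal := Sylow.normal_of_subsingleton T
    set T' := ((T : Subgroup f.range).comap f.rangeRestrict)
    have hT' : IsPGroup 7 T' := T.2.comap_of_ker_isPGroup _ (by rwa [f.ker_rangeRestrict])
    have h1 := hnd T' inferInstance hT'
    obtain ⟨⟨a, ha⟩, hao⟩ := exists_prime_orderOf_dvd_card' (G := (T : Subgroup f.range)) 7 hT
    obtain ⟨x, hx⟩ := f.rangeRestrict_surjective a
    have hxT : x ∈ T' := by show f.rangeRestrict x ∈ (T : Subgroup f.range); rw [hx]; exact ha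
    have hx1 : f.rangeRestrict x = 1 := Subtype.ext (MonoidHom.mem_ker.1 (hQker (h1 hxT)))
    rw [← Subgroup.orderOf_coe] at hao
    rw [show ((⟨a, ha⟩ : (T : Subgroup f.range)) : f.range) = a from rfl, ← hx, hx1, orderOf_one] at hao
    omega
  refine ⟨le_antisymm ?_ hQ, ?_⟩
  · have hRk : (R : Subgroup M) ≤ f.ker := by
      intro r hr
      obtain ⟨j, hj⟩ := R.2 ⟨r, hr⟩
      have hj' : r ^ 7 ^ j = 1 := congrArg Subtype.val hj
      have h1 : orderOf (f.rangeRestrict r) ∣ 7 ^ j :=
        orderOf_dvd_of_pow_eq_one (by rw [← map_pow, hj', map_one])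
      have h2 := Nat.eq_one_of_dvd_coprimes ((Nat.Prime.coprime_iff_not_dvd (by norm_num)).2 h7 |>.pow_left j)
        h1 (orderOf_dvd_natCard _)
      exact MonoidHom.mem_ker.2 (congrArg Subtype.val (orderOf_eq_one_iff.1 h2))
    exact hRk.trans (hnd _ inferInstance hker)
  · exact ((Nat.Prime.coprime_iff_not_dvd (by norm_num : Nat.Prime 7)).2 h7).symm.dvd_of_dvd_mul_left
      (show Nat.card f.range ∣ 7 * 9 from hA)

/-- The theorem. -/
theorem not_mem_commutator : g ∉ ⁅(R : Subgroup M), (⊤ : Subgroup M)⁆ := by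
  classical
  haveI h7 : Fact (Nat.Prime 7) := ⟨by norm_num⟩
  haveI := H.solvable
  set Q := Cfsg.pCore 7 M with hQdef
  haveI hQn : Q.Normal := CfsgLib.Coprime.pCore_normal' (G := M) 7
  have hQp : IsPGroup 7 Q := CfsgLib.Coprime.pCore_isPGroup 7
  have hQR : Q ≤ R := CfsgLib.Coprime.pCore_le_sylow R
  have hCQ : centralizer (Q : Set M) ≤ Q := CfsgLib.Coprime.centralizer_pCore_le H.core
  have hnd : ∀ T : Subgroup M, T.Normal → IsPGroup 7 T → T ≤ Q := fun T hT hTp =>
    CfsgLib.Coprime.le_pCore (hN := hT) hTp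
  -- the Frattini quotient of `Q`
  haveI hΦc : (frattini Q).Characteristic := inferInstance
  set V := Q ⧸ frattini Q
  let ρ : M →* MulAut V :=
    { toFun := fun x => QuotientGroup.congr (frattini Q) (frattini Q) (MulAut.conjNormal x)
        (Subgroup.characteristic_iff_map_eq.1 hΦc _)
      map_one' := MulEquiv.ext fun v => by
        obtain ⟨q, rfl⟩ := QuotientGroup.mk'_surjective _ v
        simp
      map_mul' := fun a b => MulEquiv.ext fun v => by
        obtain ⟨q, rfl⟩ := QuotientGroup.mk'_surjective _ v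
        show QuotientGroup.mk' (frattini Q) (MulAut.conjNormal (a * b) q) =
          QuotientGroup.mk' (frattini Q) (MulAut.conjNormal a (MulAut.conjNormal b q))
        rw [map_mul]
        rfl }
  have hρ : ∀ (x : M) (q : Q), ρ x (QuotientGroup.mk' (frattini Q) q) =
      QuotientGroup.mk' (frattini Q) (MulAut.conjNormal x q) := fun x q => rfl
  have hVc : ∀ a b : V, a * b = b * a := by
    intro a b
    obtain ⟨a, rfl⟩ := QuotientGroup.mk'_surjective _ a
    obtain ⟨b, rfl⟩ := QuotientGroup.mk'_surjective _ b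
    rw [← map_mul, ← map_mul]
    refine (QuotientGroup.eq (s := frattini Q)).2 ?_
    rw [show (a * b)⁻¹ * (b * a) = ⁅b⁻¹, a⁻¹⁆ by rw [commutatorElement_def]; group]
    exact CfsgLib.Coprime.commutator_le_frattini hQp (commutator_mem_commutator (mem_top _) (mem_top _))
  letI cV : CommGroup V := { (inferInstance : Group V) with mul_comm := hVc }
  have hV7 : ∀ v : V, v ^ 7 = 1 := by
    intro v
    obtain ⟨q, rfl⟩ := QuotientGroup.mk'_surjective _ v
    rw [← map_pow]
    exact (QuotientGroup.eq_one_iff _).2 (CfsgLib.Coprime.pow_mem_frattini hQp q)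
  have hQker : Q ≤ ρ.ker := by
    intro a ha
    refine MonoidHom.mem_ker.2 (MulEquiv.ext fun v => ?_)
    obtain ⟨q, rfl⟩ := QuotientGroup.mk'_surjective _ v
    rw [hρ, show MulAut.conjNormal a q = (⟨a, ha⟩ : Q) * q * (⟨a, ha⟩ : Q)⁻¹ from Subtype.ext rfl, map_mul,
      map_mul, map_inv, mul_comm (QuotientGroup.mk' _ (⟨a, ha⟩ : Q)), mul_inv_cancel_right]
    rfl
  have hker : IsPGroup 7 ρ.ker := by
    intro x
    obtain ⟨a, m, hm, hxm⟩ := Nat.exists_eq_pow_mul_and_not_dvd (orderOf_pos (x : M)).ne' 7 (by norm_num)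
    set y := (x : M) ^ 7 ^ a with hy
    have hyo : orderOf y = m := by
      rw [hy, orderOf_pow_of_dvd (by positivity) (hxm ▸ dvd_mul_right _ _), hxm,
        Nat.mul_div_cancel_left _ (by positivity)]
    have h1 : zpowers y ≤ centralizer (Q : Set M) := by
      refine CfsgLib.Coprime.le_centralizer_of_trivial_on_frattini_quotient (A := zpowers y) (K := Q)
        (by rw [Subgroup.normalizer_eq_top]; exact le_top)
        (by
          obtain ⟨j, hj⟩ := (hQp.to_subgroup (frattini Q)).exists_card_eq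
          rw [Nat.card_zpowers, hyo, hj]
          exact ((Nat.Prime.coprime_iff_not_dvd (by norm_num)).2 hm).symm.pow_right j) ?_
      intro c hc q hq
      have hck : c ∈ ρ.ker := zpowers_le.2 (pow_mem x.2 _) hc
      have h2 := congrArg (fun f : MulAut V => f (QuotientGroup.mk' _ ⟨q, hq⟩)) (MonoidHom.mem_ker.1 hck)
      simp only [MulAut.one_apply] at h2
      rw [hρ] at h2
      refine ⟨MulAut.conjNormal c ⟨q, hq⟩ * (⟨q, hq⟩ : Q)⁻¹, (QuotientGroup.eq_one_iff _).1 ?_, rfl⟩
      show QuotientGroup.mk' (frattini Q) _ = 1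
      rw [map_mul, map_inv, h2, mul_inv_cancel]
    have h2 : y ∈ Q := hCQ (h1 (mem_zpowers y))
    obtain ⟨j, hj⟩ := hQp ⟨y, h2⟩
    have hj' : y ^ 7 ^ j = 1 := congrArg Subtype.val hj
    refine ⟨a + j, Subtype.ext ?_⟩
    rw [Subgroup.coe_pow, pow_add, pow_mul, ← hy, hj']
    rfl
  by_cases hgQ : g ∈ Q
  · -- `g ∈ O₇(M)`
    obtain ⟨z, hzR, hz1, hzc⟩ : ∃ z ∈ (R : Subgroup M), z ≠ 1 ∧ ∀ r ∈ (R : Subgroup M), Commute r z := by
      haveI : Nontrivial (R : Subgroup M) := ⟨⟨g, H.P_le H.g_mem⟩, 1, fun e => g_ne_one H (congrArg Subtype.val e)⟩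
      haveI := R.2.center_nontrivial
      obtain ⟨⟨z, hz⟩, hz1⟩ := exists_ne (1 : Subgroup.center (R : Subgroup M))
      exact ⟨z, z.2, fun e => hz1 (Subtype.ext (Subtype.ext e)), fun r hr =>
        congrArg Subtype.val (mem_center_iff.1 hz ⟨r, hr⟩)⟩
    have hzP : z ∈ P := mem_P H hzR (hzc g (H.P_le H.g_mem)).symm
    have hzQ : z ∈ Q := hCQ (mem_centralizer_iff.2 fun q hq => hzc q (hQR hq))
    have hPQ : P ≤ Q := by
      by_cases hzg : z ∈ zpowers g
      · refine fun x hx => hCQ (mem_centralizer_iff.2 fun q hq => ?_)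
        have hqP : q ∈ P := mem_P H (hQR hq) (commute_of_pow H hzg hz1 (hzc q (hQR hq)))
        have hPc : IsMulCommutative P :=
          ⟨⟨IsPGroup.commutative_of_card_eq_prime_sq (p := 7) (by rw [H.card_P]; norm_num)⟩⟩
        exact congrArg Subtype.val (mul_comm' (⟨q, hqP⟩ : P) ⟨x, hx⟩)
      · have hlt : zpowers g < P ⊓ Q :=
          lt_of_le_of_ne (zpowers_le.2 ⟨H.g_mem, hgQ⟩) fun e => hzg (e.ge ⟨hzP, hzQ⟩)
        have hdvd := card_dvd_of_le (inf_le_left : P ⊓ Q ≤ P)
        rw [H.card_P, show (49 : ℕ) = 7 ^ 2 by norm_num] at hdvd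
        obtain ⟨j, hj2, hj⟩ := (Nat.dvd_prime_pow h7.out).1 hdvd
        have h2 : 7 < Nat.card (P ⊓ Q : Subgroup M) := by
          by_contra hle
          exact hlt.ne (eq_of_le_of_card_ge hlt.le (by rw [Nat.card_zpowers, H.order_g]; omega))
        have hj' : j = 2 := by
          interval_cases j <;> simp_all
        exact (eq_of_le_of_card_ge (inf_le_left : P ⊓ Q ≤ P) (by rw [hj, hj', H.card_P]; norm_num)).ge.trans
          inf_le_right
    have hQP : Q ⊓ P = P := inf_eq_right.2 hPQ
    set Φ := (frattini Q).map Q.subtype with hΦ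
    have hΦQ : Φ ≤ Q := map_subtype_le _
    have hcom : ∀ a b : Q, (a : M) * b * (a : M)⁻¹ * (b : M)⁻¹ ∈ Φ := fun a b =>
      ⟨_, CfsgLib.Coprime.commutator_le_frattini hQp (commutator_mem_commutator (mem_top a) (mem_top b)),
        by simp [commutatorElement_def]⟩
    have hS : ∀ e ∈ zpowers g, {q : M | q ∈ Q ∧ q * e * q⁻¹ * e⁻¹ ∈ Φ} = (Q : Set M) := by
      intro e he
      ext q
      exact ⟨fun hq => hq.1, fun hq => ⟨hq, hcom ⟨q, hq⟩ ⟨e, zpowers_le.2 hgQ he⟩⟩⟩
    have hQ49 : Nat.card Q ≤ 49 * Nat.card Φ := by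
      have h1 := card_moving_le H (K := Φ) hQR (mem_zpowers g) (g_ne_one H)
      rw [hS g (mem_zpowers g), hQP, H.card_P] at h1
      exact h1
    have hVcard : Nat.card V = 49 := by
      have h1 : Nat.card V * Nat.card Φ = Nat.card Q := by
        rw [hΦ, card_map_of_injective Q.subtype_injective, ← Subgroup.card_eq_card_quotient_mul_card_subgroup]
      have hle : Nat.card V ≤ 49 := Nat.le_of_mul_le_mul_right (h1.trans_le hQ49) Nat.card_pos
      obtain ⟨j, hj⟩ := (IsPGroup.to_quotient hQp (frattini Q) : IsPGroup 7 V).exists_card_eq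
      have hj2 : j ≤ 2 := (Nat.pow_le_pow_iff_right (by norm_num : 1 < 7)).1 (hj ▸ hle)
      rcases (show j = 2 ∨ j ≤ 1 by omega) with rfl | hj1
      · rw [hj]; norm_num
      exfalso
      have hcyc : IsCyclic V := by
        rcases (show j = 0 ∨ j = 1 by omega) with rfl | rfl
        · haveI : Subsingleton V := (Nat.card_eq_one_iff_unique.1 (by rw [hj]; norm_num)).1
          infer_instance
        · exact isCyclic_of_prime_card (p := 7) (by rw [hj]; norm_num)
      obtain ⟨v, hv⟩ := hcyc.exists_generator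
      obtain ⟨q, rfl⟩ := QuotientGroup.mk'_surjective _ v
      have hgen : zpowers q ⊔ frattini Q = ⊤ := by
        refine eq_top_iff.2 fun x _ => ?_
        obtain ⟨i, hi⟩ := mem_zpowers_iff.1 (hv (QuotientGroup.mk' _ x))
        have h2 : (q ^ i)⁻¹ * x ∈ frattini Q := by
          rw [← map_zpow] at hi
          exact (QuotientGroup.eq (s := frattini Q)).1 hi
        have h3 := mul_mem (mem_sup_left (T := frattini Q) (zpow_mem (mem_zpowers q) i))
          (mem_sup_right (S := zpowers q) h2)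
        rwa [mul_inv_cancel_left] at h3
      have htop := frattini_nongenerating hgen
      haveI : IsCyclic Q := ⟨q, fun x => htop.ge (mem_top x)⟩
      haveI : IsCyclic P := isCyclic_of_injective (inclusion hPQ) (inclusion_injective hPQ)
      obtain ⟨⟨p, hp⟩, hpo⟩ := IsCyclic.exists_ofOrder_eq_natCard (α := P)
      rw [← Subgroup.orderOf_coe, H.card_P] at hpo
      have := orderOf_dvd_of_pow_eq_one (H.exp p hp)
      rw [hpo] at this
      norm_num at this
    have hQc : Nat.card Q = 49 * Nat.card Φ := by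
      rw [← hVcard, hΦ, card_map_of_injective Q.subtype_injective,
        ← Subgroup.card_eq_card_quotient_mul_card_subgroup]
    have hclass : ∀ e ∈ zpowers g, e ≠ 1 → ∀ φ ∈ Φ, ∃ q ∈ Q, q * e * q⁻¹ = φ * e := by
      intro e he he1 φ hφ
      haveI := Fintype.ofFinite M
      let C := (P.subgroupOf Q)
      let F : Q ⧸ C → Φ := fun x => Quotient.liftOn' x
        (fun q : Q => (⟨(q : M) * e * (q : M)⁻¹ * e⁻¹, hcom q ⟨e, zpowers_le.2 hgQ he⟩⟩ : Φ))
        (fun a b hab => by
          rw [QuotientGroup.leftRel_apply] at hab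
          have hab' : (a : M)⁻¹ * b ∈ P := hab
          have hc : Commute ((a : M)⁻¹ * b) e := by
            obtain ⟨i, rfl⟩ := mem_zpowers_iff.1 he
            have : Commute ((a : M)⁻¹ * b) g := mem_centralizer_singleton_iff.1 (H.sylow.1 hab')
            exact this.zpow_right i
          refine Subtype.ext ?_
          show (a : M) * e * (a : M)⁻¹ * e⁻¹ = (b : M) * e * (b : M)⁻¹ * e⁻¹
          congr 1
          calc (a : M) * e * (a : M)⁻¹ = (a : M) * (e * ((a : M)⁻¹ * b)) * (b : M)⁻¹ := by group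
            _ = (b : M) * e * (b : M)⁻¹ := by rw [← hc.eq]; group)
      have hinj : Function.Injective F := by
        intro x y
        refine QuotientGroup.induction_on x fun a => QuotientGroup.induction_on y fun b hab => ?_
        refine QuotientGroup.eq.2 ?_
        show (a : M)⁻¹ * b ∈ P
        have h1 : (a : M) * e * (a : M)⁻¹ * e⁻¹ = (b : M) * e * (b : M)⁻¹ * e⁻¹ := congrArg Subtype.val hab
        have h3 := mul_right_cancel h1
        refine mem_P H (hQR (mul_mem (inv_mem a.2) b.2)) (commute_of_pow H he he1 ?_)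
        calc (a : M)⁻¹ * b * e = (a : M)⁻¹ * ((b : M) * e * (b : M)⁻¹) * b := by group
          _ = e * ((a : M)⁻¹ * b) := by rw [← h3]; group
      have hcardC : Nat.card (Q ⧸ C) = Nat.card Φ := by
        have h1 := Subgroup.card_eq_card_quotient_mul_card_subgroup C
        rw [hQc, Nat.card_congr (subgroupOfEquivOfLe hPQ).toEquiv, H.card_P, mul_comm] at h1
        exact Nat.eq_of_mul_eq_mul_right (by norm_num) h1.symm
      obtain ⟨x, hx⟩ := ((Nat.bijective_iff_injective_and_card F).2 ⟨hinj, hcardC⟩).2 ⟨φ, hφ⟩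
      induction x using QuotientGroup.induction_on with
      | H q =>
        have h1 : (q : M) * e * (q : M)⁻¹ * e⁻¹ = φ := congrArg Subtype.val hx
        exact ⟨q, q.2, by rw [← h1, inv_mul_cancel_right]⟩
    set π := QuotientGroup.mk' (frattini Q)
    set gV : V := π ⟨g, hgQ⟩
    have hmemΦ : ∀ q : Q, π q = 1 → (q : M) ∈ Φ := fun q hq =>
      ⟨q, (QuotientGroup.eq_one_iff q).1 hq, rfl⟩
    have hgV1 : gV ≠ 1 := fun e => by
      obtain ⟨q, -, hq⟩ := hclass g (mem_zpowers g) (g_ne_one H) g⁻¹ (inv_mem (hmemΦ _ e))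
      rw [inv_mul_cancel] at hq
      exact g_ne_one H (conj_eq_one_iff.1 hq)
    -- the matrices
    letI : Module (ZMod 7) (Additive V) := AddCommGroup.zmodModule (fun v => hV7 (Additive.toMul v))
    have hfin : Module.finrank (ZMod 7) (Additive V) = 2 := by
      have h1 := Module.natCard_eq_pow_finrank (K := ZMod 7) (V := Additive V)
      rw [show Nat.card (Additive V) = Nat.card V from rfl, hVcard, Nat.card_zmod] at h1
      exact (Nat.pow_right_injective (by norm_num : 2 ≤ 7) (show 7 ^ 2 = 7 ^ _ from h1)).symm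
    let bV := Module.finBasisOfFinrankEq (ZMod 7) (Additive V) hfin
    let lin : MulAut V →* Module.End (ZMod 7) (Additive V) :=
      { toFun := fun f => AddMonoidHom.toZModLinearMap 7 (MonoidHom.toAdditive f.toMonoidHom)
        map_one' := LinearMap.ext fun _ => rfl
        map_mul' := fun f g => LinearMap.ext fun _ => rfl }
    have hlin : Function.Injective lin := fun f g e => MulEquiv.ext fun v =>
      congrArg Additive.toMul (LinearMap.congr_fun e (Additive.ofMul v))
    let toGL : MulAut V →* GL (Fin 2) (ZMod 7) :=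
      ((LinearMap.toMatrixAlgEquiv bV).toMonoidHom.comp lin).toHomUnits
    have htoGL : Function.Injective toGL := fun f g e =>
      hlin ((LinearMap.toMatrixAlgEquiv bV).injective (congrArg Units.val e))
    have hrange : Nat.card ρ.range ∣ 63 := by
      have h1 : Nat.card ρ.range ∣ 2016 := by
        have h2 : Nat.card (GL (Fin 2) (ZMod 7)) = 2016 := by
          rw [Matrix.card_GL_field, Fin.prod_univ_two, ZMod.card]
          rfl
        refine h2 ▸ ?_
        rw [← card_map_of_injective htoGL]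
        exact card_subgroup_dvd_card _
      have hodd : Odd (Nat.card ρ.range) := H.odd.of_dvd_nat (card_range_dvd ρ)
      exact ((Nat.coprime_two_right.2 hodd).pow_right 5).dvd_of_dvd_mul_left
        (show Nat.card ρ.range ∣ 2 ^ 5 * 63 from h1)
    obtain ⟨hRQ, h9⟩ := R_le_of_ker H hQR hnd ρ hker hQker hrange
    have hcomm : ∀ a b : M, ρ a * ρ b = ρ b * ρ a := by
      intro a b
      obtain ⟨j, hj2, hj⟩ := (Nat.dvd_prime_pow Nat.prime_three).1 (show Nat.card ρ.range ∣ 3 ^ 2 from h9)
      haveI : Fact (Nat.Prime 3) := ⟨Nat.prime_three⟩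
      have hab : ∀ x y : ρ.range, x * y = y * x := by
        rcases (show j = 2 ∨ j ≤ 1 by omega) with rfl | hj1
        · exact IsPGroup.commutative_of_card_eq_prime_sq hj
        · intro x y
          haveI : IsCyclic ρ.range := by
            rcases (show j = 0 ∨ j = 1 by omega) with rfl | rfl
            · haveI : Subsingleton ρ.range := (Nat.card_eq_one_iff_unique.1 (by rw [hj]; norm_num)).1
              infer_instance
            · exact isCyclic_of_prime_card (p := 3) (by rw [hj]; norm_num)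
          obtain ⟨c, hc⟩ := IsCyclic.exists_generator (α := ρ.range)
          obtain ⟨i, rfl⟩ := mem_zpowers_iff.1 (hc x)
          obtain ⟨k, rfl⟩ := mem_zpowers_iff.1 (hc y)
          exact (Commute.zpow_zpow (Commute.refl c) i k).eq
      exact congrArg Subtype.val (hab ⟨ρ a, a, rfl⟩ ⟨ρ b, b, rfl⟩)
    let δ : V →* V := MonoidHom.mk' (fun v => ρ h v * v⁻¹) fun a b => by
      rw [map_mul, mul_inv, mul_mul_mul_comm]
    have hδ : ∀ v, δ v = ρ h v * v⁻¹ := fun _ => rfl
    have hgh : ρ h gV = gV := congrArg π (Subtype.ext (by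
      show h * g * h⁻¹ = g
      rw [H.h_g.eq, mul_inv_cancel_right]) : MulAut.conjNormal h (⟨g, hgQ⟩ : Q) = ⟨g, hgQ⟩)
    have hhQ : h ∉ Q := fun hh => h_ne_one H (by
      obtain ⟨j, hj⟩ := hQp ⟨h, hh⟩
      exact orderOf_eq_one_iff.1 (Nat.eq_one_of_dvd_coprimes
        (((Nat.coprime_primes Nat.prime_three (by norm_num)).2 (by norm_num)).pow_right j)
        (orderOf_dvd_of_pow_eq_one H.h_three) (orderOf_dvd_of_pow_eq_one (congrArg Subtype.val hj :))))
    have hkerδ : δ.ker = zpowers gV := by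
      have hle : zpowers gV ≤ δ.ker := zpowers_le.2 (MonoidHom.mem_ker.2 (by rw [hδ, hgh, mul_inv_cancel]))
      have hne : δ.ker ≠ ⊤ := fun e => hhQ (hnd _ inferInstance hker (MonoidHom.mem_ker.2 (MulEquiv.ext fun v => by
        have h1 : δ v = 1 := MonoidHom.mem_ker.1 (e.ge (mem_top v))
        rw [hδ, mul_inv_eq_one] at h1
        exact h1)))
      have hgo : orderOf gV = 7 := orderOf_eq_prime (hV7 gV) hgV1
      refine (eq_of_le_of_card_ge hle ?_).symm
      have hd := card_subgroup_dvd_card δ.ker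
      rw [hVcard, show (49 : ℕ) = 7 ^ 2 by norm_num] at hd
      obtain ⟨j, hj2, hj⟩ := (Nat.dvd_prime_pow h7.out).1 hd
      rcases (show j = 2 ∨ j ≤ 1 by omega) with rfl | hj1
      · exact absurd (eq_top_of_card_eq _ (by rw [hj, hVcard]; norm_num)) hne
      · rw [hj, Nat.card_zpowers, hgo]
        exact (Nat.pow_le_pow_right (by norm_num) hj1).trans (by norm_num)
    have hfixg : ∀ x : M, ρ x gV = gV := by
      intro x
      have h1 : ρ x gV ∈ δ.ker := MonoidHom.mem_ker.2 (by
        rw [hδ, ← MulAut.mul_apply, hcomm h x, MulAut.mul_apply, hgh, mul_inv_cancel])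
      rw [hkerδ] at h1
      obtain ⟨a, ha⟩ := (isOfFinOrder_of_finite gV).mem_powers_iff_mem_zpowers.2 h1
      set xg : Q := MulAut.conjNormal x ⟨g, hgQ⟩
      have h2 : π (xg * ((⟨g, hgQ⟩ : Q) ^ a)⁻¹) = 1 := by
        rw [map_mul, map_inv, map_pow, ← hρ, mul_inv_eq_one]
        exact ha.symm
      by_cases he1 : g ^ a = 1
      · have h3 : gV ^ a = 1 := by
          show π ⟨g, hgQ⟩ ^ a = 1
          rw [← map_pow, show (⟨g, hgQ⟩ : Q) ^ a = 1 from Subtype.ext (by rw [Subgroup.coe_pow]; exact he1),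
            map_one]
        have h4 : ρ x gV = 1 := ha.symm.trans h3
        exact absurd ((EmbeddingLike.map_eq_one_iff (f := ρ x)).1 h4) hgV1
      obtain ⟨q, hq, hqe⟩ := hclass (g ^ a) (pow_mem (mem_zpowers g) a) he1 _ (hmemΦ _ h2)
      have hqe' : q * g ^ a * q⁻¹ = x * g * x⁻¹ := by
        rw [hqe]
        show x * g * x⁻¹ * (((⟨g, hgQ⟩ : Q) ^ a : Q) : M)⁻¹ * g ^ a = _
        rw [Subgroup.coe_pow, inv_mul_cancel_right]
      have hn := H.norm_g (q⁻¹ * x) (mem_zpowers_iff.2 ⟨a, by
        rw [zpow_natCast, show q⁻¹ * x * g * (q⁻¹ * x)⁻¹ = q⁻¹ * (x * g * x⁻¹) * q by group, ← hqe']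
        group⟩)
      have hxq : x * g * x⁻¹ = q * g * q⁻¹ := by
        calc x * g * x⁻¹ = q * ((q⁻¹ * x) * g * (q⁻¹ * x)⁻¹) * q⁻¹ := by group
          _ = q * g * q⁻¹ := by rw [hn.eq, mul_inv_cancel_right]
      rw [hρ, show MulAut.conjNormal x (⟨g, hgQ⟩ : Q) = MulAut.conjNormal q ⟨g, hgQ⟩ from Subtype.ext hxq, ← hρ]
      exact congrArg (fun f : MulAut V => f gV) (MonoidHom.mem_ker.1 (hQker hq))
    set I := δ.range with hI
    have hgI : gV ∉ I := by
      rintro ⟨v, hv⟩
      have hk : δ (δ v) = 1 := by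
        rw [hv]
        exact MonoidHom.mem_ker.1 (hkerδ.ge (mem_zpowers gV))
      have e1 : ρ h (δ v) = δ v := by rw [hδ, mul_inv_eq_one] at hk; exact hk
      have e0 : ρ h v = δ v * v := by rw [hδ]; group
      have e3 : ρ h (ρ h (ρ h v)) = v := by
        rw [← MulAut.mul_apply, ← MulAut.mul_apply, ← map_mul, ← map_mul,
          show h * h * h = 1 by rw [← H.h_three, pow_succ, pow_two], map_one]
        rfl
      rw [e0, map_mul, e1, e0, map_mul, map_mul, e1, e0] at e3
      have h33 : δ v ^ 3 = 1 := by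
        rw [pow_succ, pow_two]
        calc δ v * δ v * δ v = (δ v * (δ v * (δ v * v))) * v⁻¹ := by group
          _ = 1 := by rw [e3, mul_inv_cancel]
      exact hgV1 (hv ▸ orderOf_eq_one_iff.1 (Nat.eq_one_of_dvd_coprimes
        (show Nat.Coprime 3 7 by norm_num) (orderOf_dvd_of_pow_eq_one h33) (orderOf_dvd_of_pow_eq_one (hV7 _))))
    have hIcard : Nat.card I = 7 := by
      have h1 := card_range_dvd δ
      have h2 := Subgroup.card_eq_card_quotient_mul_card_subgroup δ.ker
      rw [Nat.card_congr (QuotientGroup.quotientKerEquivRange δ).toEquiv, hVcard, hkerδ, Nat.card_zpowers,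
        orderOf_eq_prime (hV7 gV) hgV1, ← hI] at h2
      omega
    have htop : zpowers gV ⊔ I = ⊤ := by
      refine eq_top_of_card_eq _ ?_
      have hd := card_subgroup_dvd_card (zpowers gV ⊔ I)
      rw [hVcard, show (49 : ℕ) = 7 ^ 2 by norm_num] at hd ⊢
      obtain ⟨j, hj2, hj⟩ := (Nat.dvd_prime_pow h7.out).1 hd
      rcases (show j = 2 ∨ j ≤ 1 by omega) with rfl | hj1
      · exact hj
      · exfalso
        have e1 : I = zpowers gV ⊔ I := eq_of_le_of_card_ge le_sup_right (by
          rw [hj, hIcard]; exact (Nat.pow_le_pow_right (by norm_num) hj1).trans (by norm_num))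
        exact hgI (e1.ge (mem_sup_left (mem_zpowers gV)))
    set L := (I.comap π).map Q.subtype
    have hRL : ∀ r ∈ (R : Subgroup M), ∀ x : M, ⁅r, x⁆ ∈ L := by
      intro r hr x
      have hrQ : r ∈ Q := hRQ ▸ hr
      set q : Q := ⟨r, hrQ⟩
      obtain ⟨_, hv1, v2, hv2, hv⟩ := mem_sup.1 (htop.ge (mem_top (π q)))
      obtain ⟨i, rfl⟩ := mem_zpowers_iff.1 hv1
      obtain ⟨w, rfl⟩ := hv2
      refine ⟨q * MulAut.conjNormal x q⁻¹, ?_, ?_⟩
      · show π (q * MulAut.conjNormal x q⁻¹) ∈ I
        rw [map_mul, ← hρ, map_inv, map_inv, ← hv, map_mul, map_zpow, hfixg, mul_inv_rev,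
          mul_comm (ρ x (δ w))⁻¹, ← mul_assoc, mul_right_comm (gV ^ i) (δ w), mul_inv_cancel, one_mul]
        refine mul_mem ⟨w, rfl⟩ (inv_mem ⟨ρ x w, ?_⟩)
        rw [hδ, hδ, map_mul, map_inv, ← MulAut.mul_apply, hcomm h x, MulAut.mul_apply]
      · show r * (x * r⁻¹ * x⁻¹) = ⁅r, x⁆
        rw [commutatorElement_def]; group
    intro hg
    have hgL : g ∈ L := (Subgroup.commutator_le.2 fun r hr x _ => hRL r hr x) hg
    obtain ⟨q, hq, hqg⟩ := hgL
    obtain rfl : q = ⟨g, hgQ⟩ := Subtype.ext hqg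
    exact hgI hq
  · -- `g ∉ O₇(M)`
    have hhN : zpowers h ≤ normalizer (Q : Set M) := by rw [normalizer_eq_top]; exact le_top
    have hgN : g ∈ normalizer (Q : Set M) := by rw [normalizer_eq_top]; exact mem_top g
    have hP7 : Nat.card (Q ⊓ P : Subgroup M) ≤ 7 := by
      have hdvd := card_dvd_of_le (inf_le_right : Q ⊓ P ≤ P)
      rw [H.card_P, show (49 : ℕ) = 7 ^ 2 by norm_num] at hdvd
      obtain ⟨j, hj2, hj⟩ := (Nat.dvd_prime_pow h7.out).1 hdvd
      rcases (show j = 2 ∨ j ≤ 1 by omega) with rfl | hj1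
      · exact absurd ((eq_of_le_of_card_ge inf_le_right (by rw [hj, H.card_P]; norm_num)).ge H.g_mem).1 hgQ
      · rw [hj]; exact (Nat.pow_le_pow_right (by norm_num) hj1).trans (by norm_num)
    set Φ := (frattini Q).map Q.subtype with hΦ
    set π := QuotientGroup.mk' (frattini Q)
    let Fx : Subgroup V := MonoidHom.eqLocus (ρ g).toMonoidHom (MonoidHom.id V)
    have hFx : Nat.card Fx ≤ 7 := by
      have h1 := card_moving_le H (K := Φ) hQR (mem_zpowers g) (g_ne_one H)
      have h2 : {q : M | q ∈ Q ∧ q * g * q⁻¹ * g⁻¹ ∈ Φ} = ((Fx.comap π).map Q.subtype : Subgroup M) := by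
        ext q
        constructor
        · rintro ⟨hq, φ, hφ, hφq⟩
          refine ⟨⟨q, hq⟩, ?_, rfl⟩
          show ρ g (π ⟨q, hq⟩) = π ⟨q, hq⟩
          rw [hρ]
          have e : (⟨q, hq⟩ : Q) = φ * MulAut.conjNormal g ⟨q, hq⟩ := Subtype.ext (by
            show q = (φ : M) * (g * q * g⁻¹)
            rw [show (φ : M) = q * g * q⁻¹ * g⁻¹ from hφq]; group)
          conv_rhs => rw [e, map_mul, show π φ = 1 from (QuotientGroup.eq_one_iff φ).2 hφ, one_mul]
        · rintro ⟨a, ha, rfl⟩
          refine ⟨a.2, ?_⟩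
          have ha' : π (a * (MulAut.conjNormal g a)⁻¹) = 1 := by
            rw [map_mul, map_inv, ← hρ]
            rw [show ρ g (π a) = π a from ha, mul_inv_cancel]
          refine ⟨a * (MulAut.conjNormal g a)⁻¹, (QuotientGroup.eq_one_iff _).1 ha', ?_⟩
          show (a : M) * (g * (a : M) * g⁻¹)⁻¹ = (a : M) * g * (a : M)⁻¹ * g⁻¹
          group
      rw [h2] at h1
      have hker' : π.ker ≤ Fx.comap π := fun q hq => by
        show π q ∈ Fx
        rw [MonoidHom.mem_ker.1 hq]; exact one_mem _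
      have h3 : Nat.card (((Fx.comap π).map Q.subtype : Subgroup M) : Set M) = Nat.card Fx * Nat.card Φ := by
        rw [SetLike.coe_sort_coe, card_map_of_injective Q.subtype_injective, hΦ,
          card_map_of_injective Q.subtype_injective]
        have h4 := (Fx.comap π).card_mul_index
        rw [index_comap_of_surjective Fx (QuotientGroup.mk'_surjective _),
          Subgroup.card_eq_card_quotient_mul_card_subgroup (frattini Q), ← Fx.card_mul_index] at h4
        exact Nat.eq_of_mul_eq_mul_right (Nat.pos_of_ne_zero index_ne_zero_of_finite)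
          (h4.trans (by ring))
      rw [h3] at h1
      exact Nat.le_of_mul_le_mul_right (h1.trans (Nat.mul_le_mul_right _ hP7)) Nat.card_pos
    have hgh : ∀ v, ρ g (ρ h v) = ρ h (ρ g v) := fun v => by
      rw [← MulAut.mul_apply, ← MulAut.mul_apply, ← map_mul, ← map_mul, H.h_g.eq]
    obtain ⟨a, ha⟩ : ∃ a : ℕ, ∀ v ∈ Fx, ρ h v = v ^ a := by
      obtain ⟨j, hj⟩ := (IsPGroup.to_quotient hQp (frattini Q) : IsPGroup 7 V).to_subgroup Fx |>.exists_card_eq
      haveI : IsCyclic Fx := by
        rcases j with - | - | j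
        · haveI : Subsingleton Fx := (Nat.card_eq_one_iff_unique.1 (by rw [hj]; norm_num)).1
          infer_instance
        · exact isCyclic_of_prime_card (p := 7) (by rw [hj]; norm_num)
        · rw [hj] at hFx
          have h49 : 7 ^ 2 ≤ 7 ^ (j + 1 + 1) := Nat.pow_le_pow_right (by norm_num) (by omega)
          norm_num at h49
          omega
      obtain ⟨c, hc⟩ := IsCyclic.exists_generator (α := Fx)
      have hcF : ρ h (c : V) ∈ Fx := by
        show ρ g (ρ h (c : V)) = ρ h (c : V)
        rw [hgh, show ρ g (c : V) = c from c.2]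
      obtain ⟨a, ha⟩ := (isOfFinOrder_of_finite c).mem_powers_iff_mem_zpowers.2 (hc ⟨_, hcF⟩)
      refine ⟨a, fun v hv => ?_⟩
      obtain ⟨i, hi⟩ := mem_zpowers_iff.1 (hc ⟨v, hv⟩)
      have hi' : (c : V) ^ i = v := congrArg Subtype.val hi
      have ha' : (c : V) ^ a = ρ h (c : V) := congrArg Subtype.val ha
      rw [← hi', map_zpow, ← ha', ← zpow_natCast, ← zpow_mul, ← zpow_natCast, ← zpow_mul, mul_comm]
    have hscalar : ∀ v, ρ h v = v ^ a := by
      by_cases htriv : ∀ v : V, v = 1
      · intro v; rw [htriv v, map_one, one_pow]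
      let ε : V →* V := MonoidHom.mk' (fun v => ρ h v * (v ^ a)⁻¹) fun x y => by
        rw [map_mul, mul_pow, mul_inv, mul_mul_mul_comm]
      have hε : ∀ v, ε v = ρ h v * (v ^ a)⁻¹ := fun _ => rfl
      have hεg : ∀ v, ρ g (ε v) = ε (ρ g v) := fun v => by
        rw [hε, hε, map_mul, map_inv, map_pow, hgh]
      have h3 : ∀ v : V, ρ h (ρ h (ρ h v)) = v := fun v => by
        rw [← MulAut.mul_apply, ← MulAut.mul_apply, ← map_mul, ← map_mul,
          show h * h * h = 1 by rw [← H.h_three, pow_succ, pow_two], map_one]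
        rfl
      by_contra hne
      push Not at hne
      obtain ⟨v₀, hv₀⟩ := hne
      -- a fixed coset outside the kernel
      letI : MulAction (zpowers g) (V ⧸ ε.ker) :=
        { smul := fun c v => Quotient.liftOn' v (fun x => ((ρ (c : M) x : V) : V ⧸ ε.ker)) fun x y hxy => by
            rw [QuotientGroup.leftRel_apply] at hxy
            refine QuotientGroup.eq.2 ?_
            obtain ⟨i, hi⟩ := (isOfFinOrder_of_finite g).mem_powers_iff_mem_zpowers.2 c.2
            rw [← map_inv, ← map_mul, ← hi]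
            generalize x⁻¹ * y = z at hxy
            clear hi
            induction i with
            | zero =>
              rw [show (fun n => g ^ n) 0 = 1 from pow_zero g, map_one]
              exact hxy
            | succ i ih =>
              rw [show (fun n => g ^ n) (i + 1) = g * g ^ i from pow_succ' g i, map_mul, MulAut.mul_apply,
                MonoidHom.mem_ker, ← hεg, MonoidHom.mem_ker.1 ih, map_one]
          one_smul := fun v => by
            refine QuotientGroup.induction_on v fun x => ?_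
            show ((ρ ((1 : zpowers g) : M) x : V) : V ⧸ ε.ker) = (x : V ⧸ ε.ker)
            rw [Subgroup.coe_one, map_one, MulAut.one_apply]
          mul_smul := fun c d v => by
            refine QuotientGroup.induction_on v fun x => ?_
            show ((ρ ((c * d : zpowers g) : M) x : V) : V ⧸ ε.ker) = ((ρ (c : M) (ρ (d : M) x) : V) : V ⧸ ε.ker)
            rw [Subgroup.coe_mul, map_mul, MulAut.mul_apply] }
      have hpg : IsPGroup 7 (zpowers g) := IsPGroup.of_card (n := 1) (by rw [Nat.card_zpowers, H.order_g, pow_one])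
      have hne1 : (v₀ : V ⧸ ε.ker) ≠ 1 := fun e => hv₀ (by
        have := MonoidHom.mem_ker.1 ((QuotientGroup.eq_one_iff v₀).1 e)
        rwa [hε, mul_inv_eq_one] at this)
      have h1fix : (1 : V ⧸ ε.ker) ∈ MulAction.fixedPoints (zpowers g) (V ⧸ ε.ker) := fun c => by
        show ((ρ (c : M) (1 : V) : V) : V ⧸ ε.ker) = _
        rw [map_one]; rfl
      haveI : Nontrivial (V ⧸ ε.ker) := ⟨⟨_, _, hne1⟩⟩
      obtain ⟨j, hj⟩ := ((IsPGroup.to_quotient hQp (frattini Q) : IsPGroup 7 V).to_quotient ε.ker).exists_card_eq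
      have hd : 7 ∣ Nat.card (V ⧸ ε.ker) := hj ▸ dvd_pow_self 7 (fun e => by
        have := Finite.one_lt_card (α := V ⧸ ε.ker)
        rw [hj, e, pow_zero] at this; exact lt_irrefl _ this)
      obtain ⟨b, hb, hb1⟩ := hpg.exists_fixed_point_of_prime_dvd_card_of_fixed_point _ hd h1fix
      obtain ⟨v, rfl⟩ := QuotientGroup.mk_surjective b
      have hvk : v ∉ ε.ker := fun e => hb1 ((QuotientGroup.eq_one_iff v).2 e).symm
      refine hvk (MonoidHom.mem_ker.2 ?_)
      have hgv : v⁻¹ * ρ g v ∈ ε.ker := QuotientGroup.eq.1 (hb ⟨g, mem_zpowers g⟩).symm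
      have hεv : ρ g (ε v) = ε v := by
        have h5 := MonoidHom.mem_ker.1 hgv
        rw [map_mul, map_inv, inv_mul_eq_one] at h5
        rw [hεg, ← h5]
      have hFv : ρ h (ε v) = ε v ^ a := ha _ hεv
      set e := ε v with he
      have e0 : ρ h v = e * v ^ a := by rw [he, hε, inv_mul_cancel_right]
      have hcube : v = e ^ (3 * a ^ 2) * v ^ a ^ 3 := by
        conv_lhs => rw [← h3 v]
        simp only [e0, map_mul, map_pow, hFv]
        simp only [mul_pow, ← pow_mul]
        rw [show 3 * a ^ 2 = a * a + (a * a + a * a) by ring, pow_add, pow_add, show a ^ 3 = a * (a * a) by ring,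
          mul_assoc (e ^ (a * a))]
        simp only [mul_assoc]
      have ha3 : ∀ u ∈ Fx, u ^ a ^ 3 = u := fun u hu => by
        have h4 := h3 u
        rw [ha u hu, map_pow, ha u hu, ← pow_mul, map_pow, ha u hu, ← pow_mul] at h4
        rw [show a ^ 3 = a * (a * a) by ring]
        exact h4
      by_cases hFbot : ∀ u ∈ Fx, u = 1
      · exact hFbot e hεv
      push Not at hFbot
      obtain ⟨u, hu, hu1⟩ := hFbot
      have h7mod : a ^ 3 ≡ 1 [MOD 7] := by
        have := pow_eq_pow_iff_modEq.1 ((ha3 u hu).trans (pow_one u).symm)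
        rwa [orderOf_eq_prime (hV7 u) hu1] at this
      have hva : v ^ a ^ 3 = v := by
        conv_rhs => rw [← pow_one v]
        exact pow_eq_pow_iff_modEq.2 (h7mod.of_dvd (orderOf_dvd_of_pow_eq_one (hV7 v)))
      rw [hva, eq_comm, mul_eq_right] at hcube
      refine orderOf_eq_one_iff.1 (Nat.eq_one_of_dvd_coprimes ?_ (orderOf_dvd_of_pow_eq_one hcube)
        (orderOf_dvd_of_pow_eq_one (hV7 e)))
      refine Nat.Coprime.mul_left (by norm_num) (((Nat.Prime.coprime_iff_not_dvd (by norm_num)).2 ?_).symm.pow_left 2)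
      intro hd
      have h6 : (a ^ 3) % 7 = 1 := h7mod
      rw [Nat.pow_mod, Nat.mod_eq_zero_of_dvd hd] at h6
      norm_num at h6
    have hcent : ∀ x : M, x * h * x⁻¹ * h⁻¹ ∈ Q := fun x => hnd _ inferInstance hker (MonoidHom.mem_ker.2 (by
      rw [map_mul, map_mul, map_mul, map_inv, map_inv]
      have hc : ρ x * ρ h = ρ h * ρ x := MulEquiv.ext fun v => by
        rw [MulAut.mul_apply, MulAut.mul_apply, hscalar, hscalar, map_pow]
      rw [hc]; group))
    set C := centralizer ({h} : Set M) with hCdef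
    obtain ⟨jQ, hjQ⟩ := hQp.exists_card_eq
    have hdec : ∀ x : M, ∃ c ∈ C, x⁻¹ * c ∈ Q := by
      intro x
      obtain ⟨n, hn, hxn⟩ := CfsgLib.Coprime.exists_fixed_in_coset (A := zpowers h) (N := Q) (k := x) hhN
        (by
          have hd : Nat.card (zpowers h) ∣ 3 := Nat.card_zpowers h ▸ orderOf_dvd_of_pow_eq_one H.h_three
          rw [hjQ]
          exact Nat.Coprime.pow_right jQ (Nat.Coprime.coprime_dvd_left hd (by norm_num)))
        (Or.inr inferInstance) (by rw [normalizer_eq_top]; exact mem_top x) (fun b hb => by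
          obtain ⟨i, hi⟩ := (isOfFinOrder_of_finite h).mem_powers_iff_mem_zpowers.2 hb
          subst hi
          have e : ∀ z : M, z * x * z⁻¹ * x⁻¹ = (x * z * x⁻¹ * z⁻¹)⁻¹ := fun z => by group
          show h ^ i * x * (h ^ i)⁻¹ * x⁻¹ ∈ Q
          rw [e]
          refine inv_mem ?_
          have h1 : ((x * h * x⁻¹ : M) : M ⧸ Q) = (h : M ⧸ Q) := by
            refine QuotientGroup.eq.2 ?_
            have h2 := hQn.conj_mem _ (inv_mem (hcent x)) h⁻¹
            rwa [inv_inv, show h⁻¹ * (x * h * x⁻¹ * h⁻¹)⁻¹ * h = (x * h * x⁻¹)⁻¹ * h by group] at h2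
          refine (QuotientGroup.eq_one_iff (N := Q) _).1 ?_
          rw [QuotientGroup.mk_mul, QuotientGroup.mk_inv, mul_inv_eq_one, ← conj_pow, QuotientGroup.mk_pow,
            QuotientGroup.mk_pow, h1])
      exact ⟨x * n, mem_centralizer_singleton_iff.2 (mem_centralizer_iff.1 hxn h (mem_zpowers h)).symm,
        by rwa [inv_mul_cancel_left]⟩
    -- the Sylow subgroup of `C`
    have hgC : g ∈ C := mem_centralizer_singleton_iff.2 H.h_g.symm.eq
    have hW : ∀ W : Subgroup M, IsPGroup 7 W → W ≤ C → g ∈ W → W = zpowers g := by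
      intro W hWp hWC hgW
      have hsmall : W ⊓ centralizer ({g} : Set M) = zpowers g := by
        refine (eq_of_le_of_card_ge (zpowers_le.2 (show g ∈ W ⊓ centralizer ({g} : Set M) from ⟨hgW, mem_centralizer_singleton_iff.2 rfl⟩)) ?_).symm
        by_contra hlt
        obtain ⟨j, hj⟩ := (hWp.to_le inf_le_left : IsPGroup 7 (W ⊓ centralizer ({g} : Set M) : Subgroup M)).exists_card_eq
        rw [hj, Nat.card_zpowers, H.order_g] at hlt
        have hd : 7 ^ j ∣ 7 ^ (Nat.card (centralizer ({g} : Set M))).factorization 7 :=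
          pow_dvd_pow 7 ((Nat.Prime.pow_dvd_iff_le_factorization (by norm_num) Nat.card_pos.ne').1
            (hj ▸ card_dvd_of_le inf_le_right))
        rw [← H.sylow.2, H.card_P] at hd
        have hj2 : j = 2 := by
          have h2 : j ≤ 2 := (Nat.pow_dvd_pow_iff_le_right (by norm_num : 1 < 7)).1 hd
          rcases (show j = 2 ∨ j ≤ 1 by omega) with h | h
          · exact h
          · exact absurd ((Nat.pow_le_pow_right (by norm_num) h).trans_eq (pow_one 7)) hlt
        have hsyl : CfsgLib.Coprime.IsSylowIn 7 (W ⊓ centralizer ({g} : Set M))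
            (centralizer ({g} : Set M)) := ⟨inf_le_right, by rw [hj, hj2, ← H.sylow.2, H.card_P]; norm_num⟩
        obtain ⟨c, -, hc⟩ := H.sylow.exists_conj hsyl
        have hh' : c⁻¹ * h * c ∈ P := H.cent_P _ fun x hx => by
          have h1 : c * x * c⁻¹ ∈ W ⊓ centralizer ({g} : Set M) := hc ▸ (mem_map_of_mem _ hx : _ ∈ P.map (MulAut.conj c).toMonoidHom)
          have h2 : Commute (c * x * c⁻¹) h := mem_centralizer_singleton_iff.1 (hWC h1.1)
          calc c⁻¹ * h * c * x = c⁻¹ * (h * (c * x * c⁻¹)) * c := by group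
            _ = x * (c⁻¹ * h * c) := by rw [← h2.eq]; group
        refine h_ne_one H (orderOf_eq_one_iff.1 (Nat.eq_one_of_dvd_coprimes (show Nat.Coprime 3 7 by norm_num)
          (orderOf_dvd_of_pow_eq_one H.h_three) ?_))
        refine orderOf_dvd_of_pow_eq_one ?_
        have h7' := H.exp _ hh'
        rw [show c⁻¹ * h * c = MulAut.conj c⁻¹ h by simp, ← map_pow] at h7'
        exact (EmbeddingLike.map_eq_one_iff (f := MulAut.conj c⁻¹)).1 h7'
      haveI : Nontrivial W := ⟨⟨g, hgW⟩, 1, fun e => g_ne_one H (congrArg Subtype.val e)⟩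
      haveI := hWp.center_nontrivial
      obtain ⟨⟨⟨z, hzW⟩, hz⟩, hz1⟩ := exists_ne (1 : Subgroup.center W)
      have hzg : Commute z g := (congrArg Subtype.val (mem_center_iff.1 hz ⟨g, hgW⟩) : g * z = z * g).symm
      have hzP : z ∈ zpowers g := hsmall.le ⟨hzW, mem_centralizer_singleton_iff.2 hzg.eq⟩
      refine le_antisymm (fun w hw => hsmall.le ⟨hw, mem_centralizer_singleton_iff.2 ?_⟩) (zpowers_le.2 hgW)
      exact (commute_of_pow H hzP (fun e => hz1 (Subtype.ext (Subtype.ext e)))
        (congrArg Subtype.val (mem_center_iff.1 hz ⟨w, hw⟩) : w * z = z * w)).eq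
    obtain ⟨T, hT⟩ := (IsPGroup.of_card (n := 1)
      (by rw [Nat.card_zpowers, ← Subgroup.orderOf_coe]; exact H.order_g.trans (pow_one 7).symm) :
      IsPGroup 7 (zpowers (⟨g, hgC⟩ : C))).exists_le_sylow
    have hTg : (T : Subgroup C).map C.subtype = zpowers g :=
      hW _ (T.2.map _) (map_subtype_le _) (mem_map_of_mem C.subtype (hT (mem_zpowers _)))
    have hTmem : ∀ x : C, x ∈ (T : Subgroup C) ↔ (x : M) ∈ zpowers g := fun x => by
      rw [← hTg]
      exact (mem_map_iff_mem C.subtype_injective).symm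
    have hle : normalizer ((T : Subgroup C) : Set C) ≤ centralizer ((T : Subgroup C) : Set C) := by
      intro x hx
      refine mem_centralizer_iff.2 fun w hw => Subtype.ext ?_
      have hxg : Commute (x : M) g :=
        H.norm_g _ ((hTmem _).1 ((mem_normalizer_iff.1 hx ⟨g, hgC⟩).1 ((hTmem _).2 (mem_zpowers g))))
      obtain ⟨i, hi⟩ := mem_zpowers_iff.1 ((hTmem w).1 hw)
      show (w : M) * x = x * w
      rw [← hi]
      exact ((hxg.zpow_right i).eq).symm
    set ψ := MonoidHom.transferSylow T hle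
    have hcpl := MonoidHom.ker_transferSylow_isComplement' T hle
    have hψg : (⟨g, hgC⟩ : C) ∉ ψ.ker := fun e => g_ne_one H (congrArg Subtype.val
      (mem_bot.1 (hcpl.disjoint.le_bot ⟨e, hT (mem_zpowers _)⟩)) :)
    have hQC : ∀ q ∈ Q, q ∈ C → q = 1 := by
      intro q hq hqC
      have hn : (Q.subgroupOf C).Normal := inferInstance
      have hp : IsPGroup 7 (Q.subgroupOf C) := hQp.comap_of_injective _ C.subtype_injective
      have hle' : Q.subgroupOf C ≤ (T : Subgroup C) :=
        le_sup_left.trans (T.is_maximal' (hp.to_sup_of_normal_left T.2) le_sup_right).le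
      have hqg := (hTmem ⟨q, hqC⟩).1 (hle' (mem_subgroupOf.2 hq))
      by_contra hq1
      have h1 : zpowers q = zpowers g := by
        refine eq_of_le_of_card_ge (zpowers_le.2 hqg) ?_
        have h2 : orderOf q ∣ 7 := H.order_g ▸ orderOf_dvd_of_mem_zpowers hqg
        rw [Nat.card_zpowers, Nat.card_zpowers, H.order_g]
        rcases (Nat.dvd_prime h7.out).1 h2 with h' | h'
        · exact absurd (orderOf_eq_one_iff.1 h') hq1
        · exact h'.ge
      exact hgQ (zpowers_le.2 hq (h1.ge (mem_zpowers g)))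
    choose cf hcC hcQ using hdec
    let cs : M → C := fun x => ⟨cf x, hcC x⟩
    have huniq : ∀ (x : M) (c : C), x⁻¹ * (c : M) ∈ Q → cs x = c := fun x c hc => by
      refine Subtype.ext (mul_inv_eq_one.1 ?_).symm
      refine hQC _ ?_ (C.mul_mem c.2 (C.inv_mem (hcC x)))
      have h := hQn.conj_mem _ (mul_mem hc (inv_mem (hcQ x))) x
      rwa [show x * ((x⁻¹ * (c : M)) * (x⁻¹ * cf x)⁻¹) * x⁻¹ = (c : M) * (cf x)⁻¹ by group] at h
    let f : M →* (T : Subgroup C) := MonoidHom.mk' (fun x => ψ (cs x)) fun x y => by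
      rw [← map_mul]
      refine congrArg ψ (huniq _ _ ?_)
      have h1 := mul_mem (hQn.conj_mem _ (hcQ x) y⁻¹) (hcQ y)
      rwa [inv_inv, show y⁻¹ * (x⁻¹ * cf x) * y * (y⁻¹ * cf y) = (x * y)⁻¹ * (cf x * cf y) by group] at h1
    intro hg
    haveI hTc : IsMulCommutative (T : Subgroup C) := ⟨⟨fun a b => Subtype.ext (Subtype.ext (by
      obtain ⟨i, hi⟩ := mem_zpowers_iff.1 ((hTmem _).1 a.2)
      obtain ⟨k, hk⟩ := mem_zpowers_iff.1 ((hTmem _).1 b.2)
      show ((a : C) : M) * ((b : C) : M) = ((b : C) : M) * ((a : C) : M)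
      rw [← hi, ← hk]
      exact (Commute.zpow_zpow (Commute.refl g) i k).eq))⟩⟩
    have h1 : f g = 1 := by
      letI : CommGroup (T : Subgroup C) :=
        { (inferInstance : Group (T : Subgroup C)) with mul_comm := fun x y => mul_comm' x y }
      exact Abelianization.commutator_subset_ker f (commutator_mono le_top le_rfl hg)
    refine hψg (MonoidHom.mem_ker.2 ?_)
    rw [← huniq g ⟨g, hgC⟩ (by rw [inv_mul_cancel]; exact one_mem _)]
    exact h1

end CfsgLib.Walter.Outer.Seven
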