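import Cfsg.Agent.Lib.BGroup.FieldKill.Quot

/-!
# The two shapes of `C(g)/⟨g⟩` for a fixed field with three elements

The order is `168`, with a normal Sylow `2`-subgroup, or `1512`, with an inverted torus of order seven.
-/

set_option autoImplicit false

namespace CfsgLib.Walter.Outer

open Subgroup
open CfsgLib.BGroup.FieldKill (Quot)

universe u

variable {Y : Type u} [Group Y] [Finite Y]

/-- The shape `8 : 21`. -/
structure Small168 (Q : Quot Y) : Prop where
  card : Nat.card Y = 168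
  normal : (Q.T : Subgroup Y).Normal
  cent : ∀ x : Y, orderOf x = 7 → centralizer ({x} : Set Y) = zpowers x
  scalar : ∃ (x b : Y) (w : ℕ), orderOf x = 7 ∧ b ^ 3 = 1 ∧ b * x * b⁻¹ = x ^ w ∧ ¬ (w ^ 2) % 7 = 1

/-- The shape `SL(2, 8) : 3`. -/
structure Big1512 (Y : Type u) [Group Y] : Prop where
  card : Nat.card Y = 1512
  scalar : ∃ (x s b : Y) (w : ℕ), orderOf x = 7 ∧ orderOf s = 2 ∧ s * x * s⁻¹ = x⁻¹ ∧ Commute b s ∧
    b ^ 3 = 1 ∧ b * x * b⁻¹ = x ^ w ∧ ¬ (w ^ 2) % 7 = 1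

/-- The statement proved in `Outer/ThreeQuot`. -/
def ThreeQuotStmt : Prop :=
  ∀ (Y : Type u) [Group Y] [Finite Y] (Q : Quot Y), Fintype.card Q.F = 3 → Small168 Q ∨ Big1512 Y

end CfsgLib.Walter.Outer
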