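import Cfsg.Agent.Lib.Walter.Outer.Big
import Cfsg.Agent.Lib.Walter.Outer.Small
import Cfsg.Agent.Lib.Walter.Outer.ThreeDef

/-!
# A fixed field with three elements

`C(g)/⟨g⟩` has order `168` or `1512` and `l = 7`. The second shape has an inverted torus. In the first one
`g` has order seven, as a bigger `g` would give an inverted element of order seven, and the configuration
`Nonreal` appears.
-/

set_option autoImplicit false
set_option linter.unusedSectionVars false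
set_option linter.style.haveILetI false

namespace CfsgLib.Walter.Outer

open Subgroup
open CfsgLib.BGroup.FieldKill (Frame Quot)

universe u

variable {G : Type u} [Group G] [Finite G] {Φ : Frame G}

/-- The quotient by the simple subgroup is commutative. -/
theorem BigData.commutator_mem {x : G} (B : BigData Φ x) (a b : Lx x) : a * b * a⁻¹ * b⁻¹ ∈ B.N := by
  haveI := B.normal
  obtain ⟨n₁, hn₁, d₁, hd₁, rfl⟩ := B.decomp a
  obtain ⟨n₂, hn₂, d₂, hd₂, rfl⟩ := B.decomp b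
  refine (QuotientGroup.eq_one_iff _).1 ?_
  have hc : Commute (QuotientGroup.mk' B.N (px x d₁)) (QuotientGroup.mk' B.N (px x d₂)) :=
    ((show Commute d₁ d₂ from Subtype.ext (Φ.D_comm hd₁ hd₂).eq).map (px x)).map _
  show QuotientGroup.mk' B.N _ = 1
  simp only [map_mul, map_inv]
  rw [show QuotientGroup.mk' B.N n₁ = 1 from (QuotientGroup.eq_one_iff _).2 hn₁,
    show QuotientGroup.mk' B.N n₂ = 1 from (QuotientGroup.eq_one_iff _).2 hn₂, one_mul, one_mul, hc.eq,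
    mul_inv_cancel_right, mul_inv_cancel]

/-- With a normal elementary Sylow `2`-subgroup no `7`-element is inverted by an involution. -/
theorem Small168.eq_one_of_inverted {Y : Type u} [Group Y] [Finite Y] {Q : Quot Y} (H : Small168 Q)
    {u v : Y} (hu : orderOf u = 2) {n : ℕ} (hv : v ^ 7 ^ n = 1) (hinv : u * v * u⁻¹ = v⁻¹) : v = 1 := by
  haveI : Fact (Nat.Prime 2) := ⟨Nat.prime_two⟩
  haveI := H.normal
  obtain ⟨g, hg⟩ := Invol.exists_conj_le_sylow
    (IsPGroup.of_card (n := 1) (by rw [Nat.card_zpowers, hu, pow_one]) : IsPGroup 2 (zpowers u)) Q.T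
  have huT : u ∈ (Q.T : Subgroup Y) := by
    have h1 := H.normal.conj_mem _ (hg u (mem_zpowers u)) g⁻¹
    rwa [show g⁻¹ * (g * u * g⁻¹) * g⁻¹⁻¹ = u by group] at h1
  have hvT : v⁻¹ * v⁻¹ ∈ (Q.T : Subgroup Y) := by
    have h1 : u * (v * u⁻¹ * v⁻¹) ∈ (Q.T : Subgroup Y) := mul_mem huT (H.normal.conj_mem _ (inv_mem huT) v)
    rwa [show u * (v * u⁻¹ * v⁻¹) = (u * v * u⁻¹) * v⁻¹ by group, hinv] at h1
  have h4 : (v⁻¹ * v⁻¹) * (v⁻¹ * v⁻¹) = 1 := Q.sq_one hvT
  have hodd : Odd (orderOf v) :=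
    ((show Odd 7 by decide).pow (n := n)).of_dvd_nat (orderOf_dvd_of_pow_eq_one hv)
  have h2 : v * v = 1 := by
    have ho : Odd (orderOf (v * v)) := by
      rw [← pow_two]; exact hodd.of_dvd_nat (orderOf_pow_dvd 2)
    refine Invol.eq_one_of_odd_of_mul_self ho ?_
    rw [← inv_eq_one, ← h4]; group
  exact Invol.eq_one_of_odd_of_mul_self hodd h2

namespace Part

variable (P : Part Φ)

/-- The Sylow `l`-subgroup of `D` is everything when three elements are fixed. -/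
theorem D_eq {F₁ : Type} [Field F₁] [Fintype F₁] (h3 : Fintype.card F₁ = 3)
    (hpow : Fintype.card F₁ ^ orderOf P.g = Fintype.card Φ.F) : Φ.D = zpowers P.g := by
  haveI := Φ.D_cyc
  obtain ⟨δ, hδ⟩ := IsCyclic.exists_ofOrder_eq_natCard (α := Φ.D)
  obtain ⟨F₀, _, _, hF₀, -⟩ := Φ.cent δ δ.2
  rw [Subgroup.orderOf_coe, hδ] at hF₀
  have hle : zpowers P.g ≤ Φ.D := zpowers_le.2 P.mem
  refine (eq_of_le_of_card_ge hle ?_).symm
  rw [Nat.card_zpowers]
  have h0 : 3 ≤ Fintype.card F₀ := by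
    have h1 := Fintype.one_lt_card (α := F₀)
    have h2 : Odd (Fintype.card F₀) := (Φ.two_ne).of_dvd_nat (hF₀ ▸ dvd_pow_self _ Nat.card_pos.ne')
    obtain ⟨j, hj⟩ := h2
    omega
  by_contra hlt
  push Not at hlt
  rw [h3, ← hF₀] at hpow
  have h1 : (3 : ℕ) ^ orderOf P.g < 3 ^ Nat.card Φ.D := Nat.pow_lt_pow_right (by norm_num) hlt
  have h2 : (3 : ℕ) ^ Nat.card Φ.D ≤ Fintype.card F₀ ^ Nat.card Φ.D := Nat.pow_le_pow_left h0 _
  omega

/-- Shape `168`: the generator has order seven. -/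
theorem false_of_k_pos (h : Eight G) (hsec : SectionsOK G) (hl : P.l = 7) (hk : 0 < P.k)
    (hK : ¬ P.l ∣ Nat.card Φ.K) (hq : 3 ^ orderOf P.g = Fintype.card Φ.F) {Q : Quot (Lx P.g)}
    (H : Small168 Q) : False := by
  classical
  haveI := P.fact_l
  obtain ⟨xb, bb, w, hxb, -, hact, hw⟩ := H.scalar
  obtain ⟨y, rfl⟩ := QuotientGroup.mk'_surjective _ xb
  obtain ⟨b, rfl⟩ := QuotientGroup.mk'_surjective _ bb
  have hgo : orderOf P.g = 7 ^ (P.k + 1) := hl ▸ P.order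
  set d := P.g ^ 7 ^ P.k with hd
  have hdD : d ∈ Φ.D := pow_mem P.mem _
  have hdg : d ∈ zpowers P.g := pow_mem (mem_zpowers _) _
  have hdo : orderOf d = 7 := by
    rw [hd, orderOf_pow_of_dvd (pow_ne_zero _ (by norm_num)) (by rw [hgo, pow_succ]; exact dvd_mul_right _ _),
      hgo, pow_succ, Nat.mul_div_cancel_left _ (pow_pos (by norm_num) _)]
  obtain ⟨F₁, iF₁, iF₁', hF₁, ⟨e₁⟩⟩ := Φ.cent d hdD
  have hq1 : Fintype.card F₁ = 3 ^ 7 ^ P.k := by
    rw [hdo] at hF₁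
    refine Nat.pow_left_injective (show 7 ≠ 0 by norm_num) ?_
    show Fintype.card F₁ ^ 7 = (3 ^ 7 ^ P.k) ^ 7
    rw [hF₁, ← hq, hgo, ← pow_mul, ← pow_succ]
  have h5 : 5 ≤ Fintype.card F₁ := by
    rw [hq1]
    exact le_trans (by norm_num : 5 ≤ 3 ^ 2)
      (Nat.pow_le_pow_right (by norm_num) (le_trans (by norm_num) (Nat.le_self_pow hk.ne' 7)))
  obtain ⟨B⟩ := exists_bigData h Φ hsec hdD rfl h5 hF₁ e₁ (fun e => by rw [e, orderOf_one] at hdo; omega)
  haveI := B.normal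
  have hBq : B.q = 3 ^ 7 ^ P.k := by
    refine Nat.pow_left_injective (show orderOf d ≠ 0 by rw [hdo]; norm_num) ?_
    show B.q ^ orderOf d = _
    rw [B.q_pow, ← hF₁, hq1]
  rcases B.cases with ⟨hq5, -⟩ | ⟨m, hm, -, -, ⟨T⟩⟩
  · rw [hBq] at hq5
    have : 3 ∣ 5 := hq5 ▸ dvd_pow_self 3 (pow_ne_zero _ (by norm_num))
    norm_num at this
  haveI : Fact (Nat.Prime 7) := ⟨by norm_num⟩
  have hsev : 7 ∣ B.q ^ 2 - B.q + 1 := by
    have hle : B.q ≤ B.q ^ 2 := Nat.le_self_pow two_ne_zero _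
    refine (ZMod.natCast_eq_zero_iff _ _).1 ?_
    have h3 : (B.q : ZMod 7) = 3 := by
      rw [hBq, Nat.cast_pow, ZMod.pow_card_pow]; norm_num
    rw [Nat.cast_add, Nat.cast_sub hle, Nat.cast_pow, h3, Nat.cast_one]
    rfl
  set π := px d with hπ
  set πg := px P.g with hπg
  have hCC : Cx P.g ≤ Cx d := fun c hc =>
    mem_centralizer_singleton_iff.2 ((show Commute c P.g from mem_centralizer_singleton_iff.1 hc).pow_right _).eq
  set ι := inclusion hCC with hι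
  set gg : Cx P.g := ⟨P.g, mem_centralizer_singleton_iff.2 rfl⟩ with hgg
  set γ := π (ι gg) with hγ
  set cm : Cx P.g := b * y * b⁻¹ * y⁻¹ with hcm
  clear_value cm
  set z := π (ι cm) with hz
  have hzN : z ∈ B.N := by
    rw [hz, hcm]
    simp only [map_mul, map_inv]
    exact B.commutator_mem _ _
  have hπy : πg cm = πg y ^ w * (πg y)⁻¹ := by
    rw [hcm, map_mul, map_mul, map_mul, map_inv, map_inv, ← hact]
  have hz1 : z ≠ 1 := fun e => by
    have h1 : πg cm = 1 := px_eq_one_iff.2 (zpowers_le.2 hdg (px_eq_one_iff.1 e : ((ι cm : Cx d) : G) ∈ zpowers d))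
    rw [hπy, mul_inv_eq_one] at h1
    nth_rewrite 2 [← pow_one (πg y)] at h1
    rw [pow_eq_pow_iff_modEq, hxb] at h1
    refine hw ?_
    have := h1.pow 2
    rwa [one_pow] at this
  have hcm7 : cm ^ (7 * 7 ^ (P.k + 1)) = 1 := by
    have h1 : πg cm ^ 7 = 1 := by
      have hc : Commute (πg y ^ w) (πg y)⁻¹ := ((Commute.refl (πg y)).pow_left w).inv_right
      rw [hπy, hc.mul_pow, ← pow_mul, mul_comm, pow_mul, inv_pow, show πg y ^ 7 = 1 from hxb ▸ pow_orderOf_eq_one _,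
        one_pow, inv_one, mul_one]
    rw [← map_pow] at h1
    rw [pow_mul, ← hgo]
    refine Subtype.ext ?_
    rw [Subgroup.coe_pow, Subgroup.coe_one]
    exact orderOf_dvd_iff_pow_eq_one.1 (orderOf_dvd_of_mem_zpowers (px_eq_one_iff.1 h1))
  have hz7 : z ^ 7 ^ (P.k + 2) = 1 := by
    rw [hz, ← map_pow, ← map_pow, pow_succ 7 (P.k + 1), mul_comm, hcm7, map_one, map_one]
  have hγz : Commute γ z :=
    ((show Commute gg cm from Subtype.ext (mem_centralizer_singleton_iff.1 cm.2).symm).map ι).map π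
  -- the torus of the simple subgroup
  obtain ⟨S, hS⟩ := (show IsPGroup 7 (zpowers (⟨z, hzN⟩ : B.N)) from fun a => ⟨P.k + 2, by
    obtain ⟨j, hj⟩ := mem_zpowers_iff.1 a.2
    refine Subtype.ext ?_
    rw [Subgroup.coe_pow, Subgroup.coe_one, ← hj, ← zpow_natCast, ← zpow_mul, mul_comm, zpow_mul, zpow_natCast,
      show (⟨z, hzN⟩ : B.N) ^ 7 ^ (P.k + 2) = 1 from Subtype.ext (by rw [Subgroup.coe_pow]; exact hz7),
      one_zpow]⟩).exists_le_sylow
  obtain ⟨hc, -, hcent, -, hodd, s, -, hs, -, -, hinv, -⟩ :=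
    ReeType.scalarStmt B.N B.q _ _ T 7 (by norm_num) (by norm_num) hsev S
  have hzS : (⟨z, hzN⟩ : B.N) ∈ (S : Subgroup B.N) := hS (mem_zpowers _)
  have hzC := hcent _ hzS (fun e => hz1 (congrArg Subtype.val e))
  have hzinv : (s : Lx d) * z * (s : Lx d)⁻¹ = z⁻¹ := congrArg (fun a : B.N => (a : Lx d))
    (hinv _ (mem_centralizer_iff.2 fun a ha => (hc a ha _ hzS).eq))
  set sL : Lx d := (s : Lx d) with hsL
  have hsL2 : orderOf sL = 2 := (Subgroup.orderOf_coe s).trans hs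
  have hss : sL * sL = 1 := Invol.invol_mul_self hsL2
  have hsi : sL⁻¹ = sL := inv_eq_of_mul_eq_one_right hss
  set ee := sL * γ * sL * γ⁻¹ with hee
  have heN : ee ∈ B.N := by
    rw [show ee = sL * (γ * sL * γ⁻¹) by rw [hee]; group]
    exact B.N.mul_mem s.2 (B.normal.conj_mem _ s.2 γ)
  have hez : Commute ee z := by
    have h1 : γ * sL * γ⁻¹ * z * (γ * sL * γ⁻¹)⁻¹ = z⁻¹ := by
      rw [show γ * sL * γ⁻¹ * z * (γ * sL * γ⁻¹)⁻¹ = γ * (sL * (γ⁻¹ * z * γ) * sL⁻¹) * γ⁻¹ by group,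
        mul_assoc γ⁻¹, ← hγz.eq, inv_mul_cancel_left, hzinv, hγz.inv_right.eq, mul_inv_cancel_right]
    have h2 : ee * z * ee⁻¹ = z := by
      rw [show ee * z * ee⁻¹ = sL * (γ * sL * γ⁻¹ * z * (γ * sL * γ⁻¹)⁻¹) * sL⁻¹ by rw [hee]; group, h1,
        ← inv_inv (sL * z⁻¹ * sL⁻¹), show (sL * z⁻¹ * sL⁻¹)⁻¹ = sL * z * sL⁻¹ by group, hzinv, inv_inv]
    exact mul_inv_eq_iff_eq_mul.1 h2
  have heC : (⟨ee, heN⟩ : B.N) ∈ centralizer ((S : Subgroup B.N) : Set B.N) := by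
    rw [← hzC]; exact mem_centralizer_singleton_iff.2 (Subtype.ext hez.eq)
  obtain ⟨j₀, hj₀⟩ := hodd.of_dvd_nat (Subgroup.orderOf_dvd_natCard _ heC)
  set rN : B.N := (⟨ee, heN⟩ : B.N) ^ (j₀ + 1) with hrN
  set r : Lx d := (rN : Lx d) with hr
  have hrr : r * r = ee := by
    have h1 : rN * rN = ⟨ee, heN⟩ := by
      rw [hrN, ← pow_add, show j₀ + 1 + (j₀ + 1) = (2 * j₀ + 1) + 1 by omega, pow_succ, ← hj₀,
        pow_orderOf_eq_one, one_mul]
    exact congrArg (fun a : B.N => (a : Lx d)) h1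
  have hrs : sL * r * sL⁻¹ = r⁻¹ := congrArg (fun a : B.N => (a : Lx d)) (hinv _ (pow_mem heC _))
  have hrz : Commute r z := by
    rw [hr, hrN, Subgroup.coe_pow]; exact hez.pow_left _
  set γ' := r * γ with hγ'
  have hγ's : Commute γ' sL := by
    have h1 : sL * γ' * sL⁻¹ = γ' := by
      rw [hγ', show sL * (r * γ) * sL⁻¹ = (sL * r * sL⁻¹) * (sL * γ * sL⁻¹) by group, hrs,
        show sL * γ * sL⁻¹ = ee * γ by rw [hee, inv_mul_cancel_right, hsi], ← hrr]
      group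
    exact (mul_inv_eq_iff_eq_mul.1 h1).symm
  have hγ'z : Commute γ' z := hrz.mul_left hγz
  have hdodd : Odd (orderOf d) := odd_of_mem Φ hdD
  obtain ⟨uu, hu2, huπ⟩ := lift_invol hdodd hsL2
  obtain ⟨δ, hδ⟩ := QuotientGroup.mk'_surjective (Kx d) γ'
  have hδu : Commute (δ : G) uu :=
    lift_commute hdodd (c := δ) hu2 (by rw [show px d δ = γ' from hδ, huπ]; exact hγ's)
  -- its `7`-part
  obtain ⟨a, m, hm, hcard⟩ := Nat.exists_eq_pow_mul_and_not_dvd (orderOf_pos (δ : G)).ne' 7 (by norm_num)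
  obtain ⟨e', -, he'⟩ := Nat.exists_mul_mod_eq_one_of_coprime (n := m) (k := 7 ^ (P.k + 1))
    (((Nat.Prime.coprime_iff_not_dvd (by norm_num)).2 hm).symm.pow_right _)
    (one_lt_pow₀ (by norm_num) P.k.succ_ne_zero)
  set E := m * e' with hE
  set δ' : Cx d := δ ^ E with hδ'
  have hδ7 : (δ' : G) ^ 7 ^ a = 1 := by
    rw [hδ', Subgroup.coe_pow, hE, ← pow_mul, show m * e' * 7 ^ a = 7 ^ a * m * e' by ring, ← hcard, pow_mul,
      pow_orderOf_eq_one, one_pow]
  have hδ'u : Commute (δ' : G) uu := by rw [hδ', Subgroup.coe_pow]; exact hδu.pow_left _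
  have hδ'z : Commute (π δ') z := by
    rw [hδ', map_pow, show π δ = γ' from hδ]; exact hγ'z.pow_left _
  set ν := QuotientGroup.mk' B.N with hν
  have hνδ : ν (π δ') = ν γ := by
    have h1 : ν γ' = ν γ := by
      rw [hγ', map_mul, show ν r = 1 from (QuotientGroup.eq_one_iff _).2 rN.2, one_mul]
    have h2 : γ ^ 7 ^ (P.k + 1) = 1 := by
      rw [hγ, ← map_pow, ← map_pow, show gg ^ 7 ^ (P.k + 1) = 1 from Subtype.ext (by
        rw [Subgroup.coe_pow, ← hgo]; exact pow_orderOf_eq_one P.g), map_one, map_one]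
    rw [hδ', map_pow, map_pow, show π δ = γ' from hδ, h1, ← map_pow,
      ← Nat.mod_add_div E (7 ^ (P.k + 1)), show E % 7 ^ (P.k + 1) = 1 from he', pow_add, pow_one, pow_mul, h2,
      one_pow, mul_one]
  obtain ⟨c₀, hc₀d, hc₀t⟩ := fuse h Φ hdD hu2 (mem_centralizer_singleton_iff.1 uu.2)
  set x₁ := c₀⁻¹ * (δ' : G) * c₀ with hx₁
  have hx₁t : Commute x₁ Φ.t := by
    have := hδ'u.map (MulAut.conj c₀⁻¹)
    rwa [show MulAut.conj c₀⁻¹ (uu : G) = Φ.t by rw [← hc₀t, MulAut.conj_apply]; group,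
      show MulAut.conj c₀⁻¹ (δ' : G) = x₁ by rw [MulAut.conj_apply, inv_inv]] at this
  have hx₁d : Commute x₁ d :=
    (hc₀d.inv_left.mul_left (mem_centralizer_singleton_iff.1 δ'.2)).mul_left hc₀d
  have hx₁i : ∀ n : ℕ, x₁ ^ n = c₀⁻¹ * (δ' : G) ^ n * c₀ := fun n => by
    rw [hx₁]; nth_rewrite 2 [← inv_inv c₀]; rw [conj_pow, inv_inv]
  -- its order
  have hbig : x₁ ^ 7 ^ P.k ≠ 1 := by
    intro e
    set x₂ := x₁ ^ 7 ^ (P.k - 1) with hx₂
    have hx₂7 : x₂ ^ 7 = 1 := by rw [hx₂, ← pow_mul, ← pow_succ, Nat.sub_add_cancel hk, e]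
    have hx₂C : x₂ ∈ centralizer ({Φ.t} : Set G) := mem_centralizer_singleton_iff.2 (hx₁t.pow_left _).eq
    obtain ⟨j, hj⟩ := P.gen ⟨x₂, hx₂C⟩
    have hj' := hj P.mem_C
    have h1 : (P.θ ⟨P.g, P.mem_C⟩) ^ (j * 7) = 1 := by
      rw [pow_mul, ← hj', ← map_pow, show (⟨x₂, hx₂C⟩ : centralizer ({Φ.t} : Set G)) ^ 7 = 1 from
        Subtype.ext hx₂7, map_one]
    have h2 := orderOf_dvd_of_pow_eq_one h1
    rw [P.order_θ, hl, pow_succ] at h2
    obtain ⟨i, rfl⟩ := Nat.dvd_of_mul_dvd_mul_right (by norm_num) h2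
    have hdC : d ∈ centralizer ({Φ.t} : Set G) := mem_centralizer_singleton_iff.2 (Φ.D_comm_t hdD).eq
    have h3 := P.inj hK (⟨x₂, hx₂C⟩ * (⟨d, hdC⟩ ^ i)⁻¹) 1 (Subtype.ext (by
      rw [Subgroup.coe_pow, Subgroup.coe_mul, Subgroup.coe_inv, Subgroup.coe_pow, Subgroup.coe_one, pow_one, hl,
        ((hx₁d.pow_left _).pow_right i).inv_right.mul_pow, hx₂7, inv_pow, ← pow_mul, mul_comm, pow_mul,
        show d ^ 7 = 1 from hdo ▸ pow_orderOf_eq_one d, one_pow, inv_one, mul_one])) (by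
      rw [map_mul, map_inv, map_pow, hj', show (⟨d, hdC⟩ : centralizer ({Φ.t} : Set G)) = ⟨P.g, P.mem_C⟩ ^ 7 ^ P.k from
        Subtype.ext rfl, map_pow, ← pow_mul, mul_inv_cancel])
    have h4 : x₂ = d ^ i := mul_inv_eq_one.1 (congrArg Subtype.val h3)
    have h5 : (δ' : G) ^ 7 ^ (P.k - 1) = d ^ i := by
      have : c₀ * x₂ * c₀⁻¹ = d ^ i := by rw [h4, (hc₀d.pow_right i).eq, mul_inv_cancel_right]
      rw [hx₂, hx₁i] at this
      rw [← this]; group
    have h6 : π δ' ^ 7 ^ (P.k - 1) = 1 := by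
      rw [← map_pow, px_eq_one_iff, Subgroup.coe_pow, h5]
      exact pow_mem (mem_zpowers _) _
    have h7 : ν (γ ^ 7 ^ (P.k - 1)) = 1 := by rw [map_pow, ← hνδ, ← map_pow, h6, map_one]
    have h8 : γ ^ 7 ^ (P.k - 1) ∈ B.N := (QuotientGroup.eq_one_iff _).1 h7
    rw [hγ, ← map_pow] at h8
    have h9 := B.D_trivial _ (show ((ι gg ^ 7 ^ (P.k - 1) : Cx d) : G) ∈ Φ.D by
      rw [Subgroup.coe_pow]; exact pow_mem P.mem _) h8
    have h10 := orderOf_dvd_of_mem_zpowers (px_eq_one_iff.1 h9)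
    rw [Subgroup.coe_pow, show ((ι gg : Cx d) : G) = P.g from rfl, hdo,
      orderOf_pow_of_dvd (pow_ne_zero _ (by norm_num)) (by rw [hgo]; exact pow_dvd_pow _ (by omega)), hgo,
      Nat.pow_div (by omega) (by norm_num), show P.k + 1 - (P.k - 1) = 2 by omega] at h10
    norm_num at h10
  obtain ⟨c₁, hc₁t, hc₁⟩ := P.exists_conj_mem hK hx₁t (i := a) (by
    rw [hl, hx₁i, hδ7]; group)
  set c := c₀ * c₁⁻¹ with hc'
  set g' := c₁ * x₁ * c₁⁻¹ with hg'
  have hgen : zpowers g' = zpowers P.g := by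
    refine eq_of_le_of_card_ge (zpowers_le.2 hc₁) ?_
    rw [Nat.card_zpowers, Nat.card_zpowers, hgo]
    obtain ⟨i, hi, ho⟩ := (Nat.dvd_prime_pow (show Nat.Prime 7 by norm_num)).1
      (hgo ▸ orderOf_dvd_of_mem_zpowers hc₁)
    rw [ho]
    refine Nat.pow_le_pow_right (by norm_num) ?_
    by_contra hlt
    refine hbig ?_
    have h1 : g' ^ 7 ^ P.k = 1 := orderOf_dvd_iff_pow_eq_one.1 (ho ▸ pow_dvd_pow 7 (by omega))
    rw [hg', conj_pow] at h1
    exact conj_eq_one_iff.1 h1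
  -- the inverted element
  set v : Cx d := (ι cm)⁻¹ * (uu * ι cm * uu⁻¹) with hv
  have hvG : (v : G) = ((ι cm : Cx d) : G)⁻¹ * ((uu : G) * (ι cm : Cx d) * (uu : G)⁻¹) := rfl
  have hvinv : (uu : G) * v * (uu : G)⁻¹ = (v : G)⁻¹ := by rw [hvG]; exact conj_inverted hu2 _
  have hπv : π v = z⁻¹ * z⁻¹ := by
    rw [hv, map_mul, map_inv, map_mul, map_mul, map_inv, show π uu = sL from huπ, ← hz, hzinv]
  have hδv : Commute (δ' : G) v := by
    set ζ := (δ' : G) * v * (δ' : G)⁻¹ * (v : G)⁻¹ with hζ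
    have hζd : ζ ∈ zpowers d := px_eq_one_iff.1 (show π (δ' * v * δ'⁻¹ * v⁻¹) = 1 by
      rw [map_mul, map_mul, map_mul, map_inv, map_inv, hπv,
        ((hδ'z.inv_right).mul_right hδ'z.inv_right).eq]
      group)
    obtain ⟨i, hi⟩ := mem_zpowers_iff.1 hζd
    have hcen : ∀ c : Cx d, Commute ζ (c : G) := fun c =>
      hi ▸ (show Commute d (c : G) from (mem_centralizer_singleton_iff.1 c.2).symm).zpow_left i
    have h1 : (uu : G) * ζ * (uu : G)⁻¹ = ζ⁻¹ := by
      have h2 : (uu : G) * ζ * (uu : G)⁻¹ = (δ' : G) * (v : G)⁻¹ * (δ' : G)⁻¹ * v := by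
        rw [show (uu : G) * ζ * (uu : G)⁻¹ = ((uu : G) * δ' * (uu : G)⁻¹) * ((uu : G) * v * (uu : G)⁻¹) *
          ((uu : G) * δ' * (uu : G)⁻¹)⁻¹ * ((uu : G) * v * (uu : G)⁻¹)⁻¹ by rw [hζ]; group,
          hδ'u.symm.eq, mul_inv_cancel_right, hvinv, inv_inv]
      rw [h2, show (δ' : G) * (v : G)⁻¹ * (δ' : G)⁻¹ * v = (v : G)⁻¹ * ζ⁻¹ * v by rw [hζ]; group,
        ← (hcen v).inv_left.inv_right.eq, inv_mul_cancel_right]
    rw [(hcen uu).symm.eq, mul_inv_cancel_right] at h1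
    have h2 : ζ = 1 := Invol.eq_one_of_odd_of_mul_self (hdodd.of_dvd_nat (orderOf_dvd_of_mem_zpowers hζd))
      (eq_inv_iff_mul_eq_one.1 h1)
    exact mul_inv_eq_iff_eq_mul.1 (mul_inv_eq_one.1 (hζ ▸ h2))
  set v' := c⁻¹ * (v : G) * c with hv'
  have hv'g : Commute v' P.g := by
    have h1 : Commute v' g' := by
      have := (hδv.symm).map (MulAut.conj c⁻¹)
      rwa [show MulAut.conj c⁻¹ (v : G) = v' by rw [MulAut.conj_apply, inv_inv],
        show MulAut.conj c⁻¹ (δ' : G) = g' by rw [MulAut.conj_apply, hg', hx₁, hc']; group] at this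
    obtain ⟨i, hi⟩ := mem_zpowers_iff.1 (hgen.ge (mem_zpowers P.g))
    exact hi ▸ h1.zpow_right i
  have hv't : Φ.t * v' * Φ.t⁻¹ = v'⁻¹ := by
    have hct : c * Φ.t * c⁻¹ = uu := by
      rw [hc', show c₀ * c₁⁻¹ * Φ.t * (c₀ * c₁⁻¹)⁻¹ = c₀ * (c₁⁻¹ * Φ.t * c₁) * c₀⁻¹ by group,
        mul_assoc c₁⁻¹, ← hc₁t.eq, inv_mul_cancel_left, hc₀t]
    rw [show Φ.t * v' * Φ.t⁻¹ = c⁻¹ * ((c * Φ.t * c⁻¹) * (v : G) * (c * Φ.t * c⁻¹)⁻¹) * c by rw [hv']; group,
      hct, hvinv, hv']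
    group
  have hv7 : (v : G) ^ (7 ^ (P.k + 2) * 7) = 1 := by
    have h1 : π v ^ 7 ^ (P.k + 2) = 1 := by
      rw [hπv, (Commute.refl z⁻¹).mul_pow, inv_pow, hz7, inv_one, one_mul]
    rw [← map_pow] at h1
    have h2 := orderOf_dvd_of_mem_zpowers (px_eq_one_iff.1 h1)
    rw [hdo, Subgroup.coe_pow] at h2
    rw [pow_mul]
    exact orderOf_dvd_iff_pow_eq_one.1 h2
  have hv'7 : v' ^ (7 ^ (P.k + 2) * 7) = 1 := by
    rw [hv']; nth_rewrite 2 [← inv_inv c]; rw [conj_pow, hv7]; group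
  set vb : Cx P.g := ⟨v', mem_centralizer_singleton_iff.2 hv'g.eq⟩
  have hvb : πg vb = 1 := by
    refine H.eq_one_of_inverted (u := πg ⟨Φ.t, t_mem_Cx Φ P.mem⟩) (orderOf_px P.odd Φ.ht) (n := P.k + 3) ?_ ?_
    · rw [← map_pow, show vb ^ 7 ^ (P.k + 3) = 1 from Subtype.ext (by
        rw [Subgroup.coe_pow, pow_succ 7 (P.k + 2)]; exact hv'7), map_one]
    · rw [← map_inv, ← map_inv, ← map_mul, ← map_mul]
      exact congrArg πg (Subtype.ext hv't)
  have hv'1 : v' = 1 := by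
    have hmem : v' ∈ zpowers P.g := px_eq_one_iff.1 hvb
    obtain ⟨i, hi⟩ := mem_zpowers_iff.1 hmem
    have h1 : Φ.t * v' * Φ.t⁻¹ = v' := by
      rw [← hi, ((Φ.D_comm_t P.mem).zpow_left i).symm.eq, mul_inv_cancel_right]
    rw [hv't] at h1
    exact Invol.eq_one_of_odd_of_mul_self (P.odd.of_dvd_nat (orderOf_dvd_of_mem_zpowers hmem))
      (mul_eq_one_iff_inv_eq.2 h1)
  have hv1 : v = 1 := Subtype.ext (by
    rw [show (v : G) = c * v' * c⁻¹ by rw [hv']; group, hv'1, mul_one, mul_inv_cancel, Subgroup.coe_one])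
  rw [hv1, map_one] at hπv
  have hzodd : Odd (orderOf z⁻¹) := by
    rw [orderOf_inv]
    exact ((show Odd 7 by decide).pow).of_dvd_nat (orderOf_dvd_of_pow_eq_one hz7)
  exact hz1 (inv_eq_one.1 (Invol.eq_one_of_odd_of_mul_self hzodd hπv.symm))

/-- Shape `168` with `g` of order seven. -/
theorem false_of_small (h : Eight G) (hl : P.l = 7) (hk : P.k = 0)
    (hK : ¬ P.l ∣ Nat.card Φ.K) {Q : Quot (Lx P.g)} (H : Small168 Q) : False := by
  classical
  haveI := P.fact_l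
  haveI h7 : Fact (Nat.Prime 7) := ⟨by norm_num⟩
  obtain ⟨xb, bb, w, hxb, hbb, hact, hw⟩ := H.scalar
  set π := px P.g with hπ
  obtain ⟨c, rfl⟩ := QuotientGroup.mk'_surjective _ bb
  have hgo : orderOf P.g = 7 := by rw [P.order, hl, hk, zero_add, pow_one]
  have hw1 : xb ^ w ≠ xb := fun e => hw (by
    nth_rewrite 2 [← pow_one xb] at e
    rw [pow_eq_pow_iff_modEq, hxb] at e
    have := e.pow 2
    rwa [one_pow] at this)
  set hel : Cx P.g := c ^ 7 with hhel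
  have hπh : π hel = π c := by
    rw [hhel, map_pow, show π c ^ 7 = (π c ^ 3) ^ 2 * π c by rw [← pow_mul, ← pow_succ],
      show π c ^ 3 = 1 from hbb, one_pow, one_mul]
  have hh3 : (hel : G) ^ 3 = 1 := by
    have h1 : ((c ^ 3 : Cx P.g) : G) ∈ zpowers P.g := px_eq_one_iff.1 (by rw [map_pow]; exact hbb)
    have h2 := orderOf_dvd_iff_pow_eq_one.1 (orderOf_dvd_of_mem_zpowers h1)
    rw [hgo, Subgroup.coe_pow, ← pow_mul, mul_comm, pow_mul] at h2
    rw [hhel, Subgroup.coe_pow]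
    exact h2
  have hh1 : (hel : G) ≠ 1 := fun e => by
    have : π c = 1 := by rw [← hπh, show hel = 1 from Subtype.ext e, map_one]
    rw [show QuotientGroup.mk' (Kx P.g) c = 1 from this, one_mul, inv_one, mul_one] at hact
    exact hw1 hact.symm
  set R := (zpowers xb).comap π with hR
  set P₀ := R.map (Cx P.g).subtype with hP₀
  have hRx : ∀ y : Cx P.g, (y : G) ∈ P₀ → π y ∈ zpowers xb := fun y hy => by
    obtain ⟨y', hy', e⟩ := hy
    exact (Subtype.ext e : y' = y) ▸ hy'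
  have hRi : R.index = 24 := by
    rw [hR, index_comap_of_surjective _ (QuotientGroup.mk'_surjective _)]
    have h1 := (zpowers xb).card_mul_index
    rw [Nat.card_zpowers, hxb, H.card] at h1
    omega
  have hcardC : Nat.card (Cx P.g) = 7 * 168 := by
    rw [← (Kx P.g).card_mul_index, index_eq_card, show Nat.card (Lx P.g) = 168 from H.card,
      Nat.card_congr (subgroupOfEquivOfLe (show zpowers P.g ≤ Cx P.g from
        zpowers_le.2 (mem_centralizer_singleton_iff.2 rfl))).toEquiv, Nat.card_zpowers, hgo]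
  have hR49 : Nat.card R = 7 ^ 2 := by
    have h1 := R.card_mul_index
    rw [hRi, hcardC] at h1
    omega
  have hcentx : ∀ y : Lx P.g, y ∈ zpowers xb → y ≠ 1 → zpowers y = zpowers xb ∧ orderOf y = 7 := by
    intro y hy hy1
    have ho : orderOf y = 7 :=
      ((Nat.dvd_prime h7.out).1 (hxb ▸ orderOf_dvd_of_mem_zpowers hy)).resolve_left
        fun e => hy1 (orderOf_eq_one_iff.1 e)
    exact ⟨eq_of_le_of_card_ge (zpowers_le.2 hy) (by rw [Nat.card_zpowers, Nat.card_zpowers, ho, hxb]), ho⟩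
  have hgmem : P.g ∈ P₀ := ⟨⟨P.g, mem_centralizer_singleton_iff.2 rfl⟩, by
    show π _ ∈ zpowers xb
    rw [px_eq_one_iff.2 (mem_zpowers P.g)]; exact one_mem _, rfl⟩
  have hno : ∀ (u : Lx P.g), orderOf u = 2 → ∀ v : Lx P.g, orderOf v = 7 → ¬ Commute u v := by
    intro u hu v hv hc
    have h1 : u ∈ centralizer ({v} : Set (Lx P.g)) := mem_centralizer_singleton_iff.2 hc.eq
    rw [H.cent v hv] at h1
    have h2 := orderOf_dvd_of_mem_zpowers h1
    rw [hu, hv] at h2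
    omega
  refine Nonreal.false
    { g := P.g, h := (hel : G), P := P₀
      simple := h.simple, noncomm := h.noncomm
      abTwo := fun S a b => Subtype.ext (h.comm S a.2 b.2)
      order_g := hgo
      order_h := orderOf_eq_prime hh3 hh1
      h_g := mem_centralizer_singleton_iff.1 hel.2
      sylow := ?_
      card_P := by rw [hP₀, card_map_of_injective (Cx P.g).subtype_injective, hR49]; norm_num
      h_P := ?_
      h_fix := ?_
      cent_P := ?_
      norm_g := ?_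
      invol := ?_
      even_cent := ?_ }
  · have hp : IsPGroup 7 R := IsPGroup.of_card hR49
    rw [hP₀, show R = ((hp.toSylow (by rw [hRi]; norm_num) : Sylow 7 (Cx P.g)) : Subgroup (Cx P.g)) from
      (IsPGroup.toSylow_coe _ _).symm]
    exact CfsgLib.Coprime.isSylowIn_map _
  · rintro _ ⟨y, hy, rfl⟩
    refine ⟨hel * y * hel⁻¹, ?_, by simp⟩
    show π (hel * y * hel⁻¹) ∈ zpowers xb
    obtain ⟨i, hi⟩ := mem_zpowers_iff.1 (show π y ∈ zpowers xb from hy)
    rw [map_mul, map_mul, map_inv, hπh, ← hi, ← conj_zpow, show π c * xb * (π c)⁻¹ = xb ^ w from hact]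
    exact zpow_mem (pow_mem (mem_zpowers _) _) _
  · rintro _ ⟨y, hy, rfl⟩ hc
    refine px_eq_one_iff.1 ?_
    by_contra hne
    obtain ⟨hgen, -⟩ := hcentx _ hy hne
    have hcy : Commute (π c) (π y) := by
      rw [← hπh]; exact (show Commute hel y from Subtype.ext hc.eq).map π
    obtain ⟨i, hi⟩ := mem_zpowers_iff.1 (hgen.ge (mem_zpowers xb))
    refine hw1 ?_
    rw [← show π c * xb * (π c)⁻¹ = xb ^ w from hact, (hi ▸ hcy.zpow_right i : Commute (π c) xb).eq,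
      mul_inv_cancel_right]
  · intro m hm
    have hmC : m ∈ Cx P.g := mem_centralizer_singleton_iff.2 (hm _ hgmem).eq
    refine ⟨⟨m, hmC⟩, ?_, rfl⟩
    show π ⟨m, hmC⟩ ∈ zpowers xb
    obtain ⟨y, hy⟩ := QuotientGroup.mk'_surjective (Kx P.g) xb
    have hy' : π y = xb := hy
    have hc : Commute (π ⟨m, hmC⟩) xb := by
      rw [← hy']
      exact (show Commute (⟨m, hmC⟩ : Cx P.g) y from Subtype.ext (hm _ ⟨y, by
        show π y ∈ zpowers xb
        rw [hy']; exact mem_zpowers xb, rfl⟩).eq).map π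
    rw [← H.cent xb hxb]
    exact mem_centralizer_singleton_iff.2 hc.eq
  · intro m hm
    obtain ⟨i, hi⟩ := mem_zpowers_iff.1 hm
    set t' := m * Φ.t * m⁻¹ with ht'
    have ht'g : Commute t' P.g := by
      have h1 : Commute t' (P.g ^ i) := hi ▸ ((Φ.D_comm_t P.mem).symm.map (MulAut.conj m))
      have h2 : zpowers (P.g ^ i) = zpowers P.g := eq_of_le_of_card_ge
        (zpowers_le.2 (zpow_mem (mem_zpowers _) _))
        (by rw [Nat.card_zpowers, Nat.card_zpowers, hi, show m * P.g * m⁻¹ = MulAut.conj m P.g from rfl,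
          MulEquiv.orderOf_eq])
      obtain ⟨j, hj⟩ := mem_zpowers_iff.1 (h2.ge (mem_zpowers P.g))
      exact hj ▸ h1.zpow_right j
    obtain ⟨e, heg, het⟩ := fuse h Φ P.mem (Invol.invol_conj Φ.ht m : orderOf t' = 2) ht'g
    set m' := e⁻¹ * m with hm'
    have hm'C : m' ∈ centralizer ({Φ.t} : Set G) := mem_centralizer_singleton_iff.2 (by
      calc m' * Φ.t = e⁻¹ * t' * m := by rw [hm', ht']; group
        _ = e⁻¹ * (e * Φ.t * e⁻¹) * m := by rw [het]
        _ = Φ.t * m' := by rw [hm']; group)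
    have hgC := P.mem_C
    have h1 : (⟨m', hm'C⟩ : centralizer ({Φ.t} : Set G)) * ⟨P.g, hgC⟩ * ⟨m', hm'C⟩⁻¹ = ⟨P.g, hgC⟩ ^ i := by
      refine Subtype.ext ?_
      rw [Subgroup.coe_mul, Subgroup.coe_mul, Subgroup.coe_inv, Subgroup.coe_zpow]
      show m' * P.g * m'⁻¹ = P.g ^ i
      rw [hm', show e⁻¹ * m * P.g * (e⁻¹ * m)⁻¹ = e⁻¹ * (m * P.g * m⁻¹) * e by group, ← hi, mul_assoc,
        ← (heg.zpow_right i).eq, inv_mul_cancel_left]
    have h2 := congrArg P.θ h1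
    rw [map_mul, map_mul, map_inv, map_zpow, mul_comm' (P.θ ⟨m', hm'C⟩), mul_inv_cancel_right] at h2
    nth_rewrite 1 [← zpow_one (P.θ ⟨P.g, hgC⟩)] at h2
    rw [zpow_eq_zpow_iff_modEq, P.order_θ hgC, ← P.order, ← zpow_eq_zpow_iff_modEq, zpow_one] at h2
    rw [← h2] at hi
    exact mul_inv_eq_iff_eq_mul.1 hi.symm
  · intro u hu hug x hxg hx hux
    set ub : Cx P.g := ⟨u, mem_centralizer_singleton_iff.2 hug.eq⟩
    set xc : Cx P.g := ⟨x, mem_centralizer_singleton_iff.2 hxg.eq⟩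
    refine (px_eq_one_iff (c := xc)).1 ?_
    by_contra hne
    have hxo : orderOf (π xc) = 7 := orderOf_eq_prime
      (by rw [← map_pow, show xc ^ 7 = 1 from Subtype.ext (by rw [Subgroup.coe_pow]; exact hx), map_one]) hne
    have huo : orderOf (π ub) = 2 := orderOf_px P.odd (u := ub) hu
    rcases hux with hf | hi
    · exact hno _ huo _ hxo ((show Commute ub xc from Subtype.ext (mul_inv_eq_iff_eq_mul.1 hf)).map π)
    · refine hne (H.eq_one_of_inverted huo (n := 1) (by rw [pow_one, ← hxo, pow_orderOf_eq_one]) ?_)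
      rw [← map_inv, ← map_inv, ← map_mul, ← map_mul]
      exact congrArg π (Subtype.ext hi)
  · intro x u hx hx1 hu hux
    obtain ⟨e, he⟩ := invol_conj h Φ hu
    have h1 : Commute (e⁻¹ * x * e) Φ.t := by
      have := hux.symm.map (MulAut.conj e⁻¹)
      rwa [show MulAut.conj e⁻¹ u = Φ.t by rw [← he, MulAut.conj_apply]; group,
        show MulAut.conj e⁻¹ x = e⁻¹ * x * e by rw [MulAut.conj_apply, inv_inv]] at this
    obtain ⟨c', -, hc'⟩ := P.exists_conj_mem hK h1 (i := 1) (by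
      rw [hl, pow_one]
      nth_rewrite 2 [← inv_inv e]
      rw [conj_pow, hx]; group)
    exact ⟨c' * e⁻¹, by rwa [show c' * e⁻¹ * x * (c' * e⁻¹)⁻¹ = c' * (e⁻¹ * x * e) * c'⁻¹ by group]⟩

/-- The whole case. -/
theorem three_of_small (h : Eight G) (hsec : SectionsOK G) (hTQ : ThreeQuotStmt.{u}) {F₁ : Type} [Field F₁]
    [Fintype F₁] (h3 : Fintype.card F₁ = 3) (hpow : Fintype.card F₁ ^ orderOf P.g = Fintype.card Φ.F) :
    P.l = 3 ∧ 3 ∣ Fintype.card Φ.F := by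
  classical
  haveI := P.fact_l
  have hD := P.D_eq h3 hpow
  rw [h3] at hpow
  have h3q : 3 ∣ Fintype.card Φ.F := hpow ▸ dvd_pow_self 3 (orderOf_pos P.g).ne'
  by_contra hne
  have hl3 : P.l ≠ 3 := fun e => hne ⟨e, h3q⟩
  have hl2 := P.hl2
  have hK : ¬ P.l ∣ Nat.card Φ.K := by
    refine P.not_dvd_K (q₁ := 3) (n := P.k + 1) (by rw [← P.order]; exact hpow)
      (fun hd => hl3 ((Nat.prime_dvd_prime_iff_eq P.hl Nat.prime_three).1 hd))
      (fun hd => hl2 ((Nat.prime_dvd_prime_iff_eq P.hl Nat.prime_two).1 hd))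
      (fun hd => hl2 ((Nat.prime_dvd_prime_iff_eq P.hl Nat.prime_two).1
        (P.hl.dvd_of_dvd_pow (show P.l ∣ 2 ^ 2 from hd))))
  have hcz : Cx P.g ≤ centralizer ((zpowers P.g : Subgroup G) : Set G) := fun c hc => by
    refine mem_centralizer_iff.2 fun e he => ?_
    obtain ⟨j, rfl⟩ := mem_zpowers_iff.1 he
    exact (((show Commute c P.g from mem_centralizer_singleton_iff.1 hc).zpow_right j).eq).symm
  have hzc : centralizer ((zpowers P.g : Subgroup G) : Set G) ≤ Cx P.g := fun c hc =>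
    mem_centralizer_singleton_iff.2 (mem_centralizer_iff.1 hc _ (mem_zpowers _)).symm
  have hsect : Frame.Sect Φ (zpowers P.g) (Cx P.g) :=
    { D₁_le := zpowers_le.2 P.mem
      S_le := S_le_Cx Φ P.mem
      D₁_mem := zpowers_le.2 (mem_centralizer_singleton_iff.2 rfl)
      N_le := hcz
      K_le := inf_le_right.trans hzc
      cent := fun x hx hxt => by
        obtain ⟨a, ha, k, hk, -, d, hd, he⟩ := cent_decomp Φ P.mem (mem_centralizer_singleton_iff.1 hx) hxt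
        exact ⟨a, ha, k, hk, d, hD ▸ hd, he⟩
      fus := fun a ha ha1 => by
        obtain ⟨n, hn, hna⟩ := fus h Φ ha ha1
        exact ⟨n, mem_centralizer_singleton_iff.2 (mem_centralizer_iff.1 (normalizer_cent h Φ hn) P.g P.mem).symm,
          hn, hna⟩
      invol := fun x _ hx => hzc hx }
  obtain ⟨Q, -, hQF, -⟩ := hsect.exists_quot
  have hQ3 : Fintype.card Q.F = 3 := by
    rw [Nat.card_zpowers] at hQF
    exact Nat.pow_left_injective (orderOf_pos P.g).ne' (hQF.trans hpow.symm)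
  have hdI := P.dvd_card_invol h
  have hIY : Nat.card {u : Lx P.g | orderOf u = 2} * Nat.card (centralizer ({Q.t} : Set (Lx P.g))) =
      Nat.card (Lx P.g) :=
    CfsgLib.LargePrimeMix.card_conjugates (G := Lx P.g) (t := Q.t) rfl {u | orderOf u = 2}
      (fun u => ⟨fun hu => Q.all_conj hu, fun ⟨g, hg⟩ => hg ▸ Invol.invol_conj Q.ht g⟩)
  have hlY : P.l ∣ Nat.card (Lx P.g) := hIY ▸ hdI.mul_right _
  have hl7 : ∀ n : ℕ, P.l ∣ 2 ^ 3 * (3 ^ n * 7) → P.l = 7 := fun n hd => by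
    rcases P.hl.dvd_mul.1 hd with h' | h'
    · exact absurd ((Nat.prime_dvd_prime_iff_eq P.hl Nat.prime_two).1 (P.hl.dvd_of_dvd_pow h')) hl2
    rcases P.hl.dvd_mul.1 h' with h' | h'
    · exact absurd ((Nat.prime_dvd_prime_iff_eq P.hl Nat.prime_three).1 (P.hl.dvd_of_dvd_pow h')) hl3
    · exact (Nat.prime_dvd_prime_iff_eq P.hl (by norm_num)).1 h'
  rcases hTQ (Lx P.g) Q hQ3 with H | H
  · rw [H.card] at hlY
    have hl := hl7 1 hlY
    rcases Nat.eq_zero_or_pos P.k with hk | hk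
    · exact P.false_of_small h hl hk hK H
    · exact P.false_of_k_pos h hsec hl hk hK hpow H
  · rw [H.card] at hlY
    have hl := hl7 3 hlY
    obtain ⟨x, s, b, w, hx, hs, hinv, hbs, hb, hact, hw⟩ := H.scalar
    have hmem : ∀ y ∈ zpowers x, ∃ j : ℤ, x ^ j = y := fun y hy => mem_zpowers_iff.1 hy
    refine P.false_of_scalar h hsec hK (S := zpowers x) (s := s) (b := b) (p := 3) (w := w)
      (IsPGroup.of_card (n := 1) (by rw [Nat.card_zpowers, hx, hl, pow_one])) ?_ ?_ ?_ hs ?_ hbs Nat.prime_three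
      (by omega) hb ?_ (by rw [hl]; exact hw)
    · have h1 := (zpowers x).card_mul_index
      rw [Nat.card_zpowers, hx, H.card] at h1
      rw [hl, show (zpowers x).index = 216 by omega]
      norm_num
    · intro e
      rw [zpowers_eq_bot.1 e, orderOf_one] at hx
      omega
    · intro a ha a' ha'
      obtain ⟨i, rfl⟩ := hmem a ha
      obtain ⟨j, rfl⟩ := hmem a' ha'
      exact (Commute.refl _).zpow_zpow i j
    · intro y hy
      obtain ⟨j, rfl⟩ := hmem y hy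
      rw [← conj_zpow, hinv, inv_zpow]
    · intro y hy
      obtain ⟨j, rfl⟩ := hmem y hy
      rw [← conj_zpow, hact, ← zpow_natCast, ← zpow_mul, mul_comm, zpow_mul, zpow_natCast]

end Part

end CfsgLib.Walter.Outer
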