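import Cfsg.Agent.Lib.Walter.Outer.ThreeDef

/-!
# A fixed field with three elements: the normalizer of the Sylow `2`-subgroup

Its order is `168`; an element of order seven has an element of order three acting as a nontrivial cube
root of unity.
-/

set_option autoImplicit false
set_option linter.unusedSectionVars false
set_option linter.style.haveILetI false

namespace CfsgLib.Walter.Outer.ThreeQ

open Subgroup
open CfsgLib.BGroup.FieldKill (Quot)

universe u

variable {Y : Type u} [Group Y] [Finite Y] (Q : Quot Y) (h3 : Fintype.card Q.F = 3)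
include Q h3

theorem card_cent {u : Y} (hu : orderOf u = 2) : Nat.card (centralizer ({u} : Set Y)) = 24 := by
  obtain ⟨g, rfl⟩ := Q.all_conj hu
  rw [← MulAut.conj_apply, ← CfsgLib.BGroup.map_centralizer (MulAut.conj g) Q.t,
    card_map_of_injective (MulAut.conj g).injective, Q.card_cent, CfsgLib.BGroup.FieldKill.card_psl_three h3]

omit Q h3 in
theorem order_eq_seven {z : Y} (h7 : z ^ 7 = 1) (h1 : z ≠ 1) : orderOf z = 7 := by
  haveI : Fact (Nat.Prime 7) := ⟨by norm_num⟩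
  exact orderOf_eq_prime h7 h1

/-- No element of order seven commutes with an involution. -/
theorem eq_one_of_comm_invol {z u : Y} (h7 : z ^ 7 = 1) (hu : orderOf u = 2) (hc : Commute z u) : z = 1 := by
  by_contra h1
  have h := Subgroup.orderOf_dvd_natCard (centralizer ({u} : Set Y)) (mem_centralizer_singleton_iff.2 hc.eq)
  rw [order_eq_seven h7 h1, card_cent Q h3 hu] at h
  omega

theorem T_le_cent : (Q.T : Subgroup Y) ≤ centralizer ({Q.t} : Set Y) := fun _ hs =>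
  mem_centralizer_singleton_iff.2 (Q.comm hs Q.htT)

/-- Only the identity is an element of order dividing three centralizing `T`. -/
theorem eq_one_of_cent_T {b : Y} (hb : b ^ 3 = 1) (hc : ∀ a ∈ (Q.T : Subgroup Y), Commute b a) : b = 1 := by
  by_contra h1
  haveI : Fact (Nat.Prime 3) := ⟨Nat.prime_three⟩
  set H := centralizer ((Q.T : Subgroup Y) : Set Y) with hH
  have hbH : b ∈ H := mem_centralizer_iff.2 fun a ha => (hc a ha).eq.symm
  have hTH : (Q.T : Subgroup Y) ≤ H := fun a ha => mem_centralizer_iff.2 fun s hs => Q.comm hs ha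
  have hHC : H ≤ centralizer ({Q.t} : Set Y) := fun x hx =>
    mem_centralizer_singleton_iff.2 (mem_centralizer_iff.1 hx _ Q.htT).symm
  have h8 : 8 ∣ Nat.card H := Q.h8 ▸ card_dvd_of_le hTH
  have h3' : 3 ∣ Nat.card H := (orderOf_eq_prime hb h1) ▸ Subgroup.orderOf_dvd_natCard H hbH
  have h24 : Nat.card H ∣ 24 := card_cent Q h3 Q.ht ▸ card_dvd_of_le hHC
  have hcard : Nat.card H = 24 := Nat.dvd_antisymm h24
    (Nat.Coprime.mul_dvd_of_dvd_of_dvd (by norm_num : Nat.Coprime 8 3) h8 h3')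
  have heq : H = centralizer ({Q.t} : Set Y) :=
    eq_of_le_of_card_ge hHC (by rw [hcard, card_cent Q h3 Q.ht])
  obtain ⟨c, hc', -, a, ha, hne⟩ := Q.exists_moving_cent
  rw [← heq] at hc'
  exact hne (mul_inv_eq_iff_eq_mul.2 (mem_centralizer_iff.1 hc' a ha).symm)

/-- An element of order seven normalizing `T` is transitive on its involutions. -/
theorem exists_pow_conj {x : Y} (hx : orderOf x = 7) (hxT : x ∈ normalizer ((Q.T : Subgroup Y) : Set Y))
    {a a' : Y} (ha : a ∈ (Q.T : Subgroup Y)) (ha1 : a ≠ 1) (ha' : a' ∈ (Q.T : Subgroup Y)) (ha1' : a' ≠ 1) :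
    ∃ i : ℕ, x ^ i * a * (x ^ i)⁻¹ = a' := by
  classical
  haveI := Fintype.ofFinite (Q.T : Subgroup Y)
  let f : Fin 7 → {s : (Q.T : Subgroup Y) // s ≠ 1} := fun i =>
    ⟨⟨x ^ (i : ℕ) * a * (x ^ (i : ℕ))⁻¹, (mem_normalizer_iff.1 (pow_mem hxT _) a).1 ha⟩,
      fun e => ha1 (conj_eq_one_iff.1 (congrArg Subtype.val e :))⟩
  have hinj : Function.Injective f := fun i j hij => by
    have e : x ^ (i : ℕ) * a * (x ^ (i : ℕ))⁻¹ = x ^ (j : ℕ) * a * (x ^ (j : ℕ))⁻¹ :=
      congrArg (fun s => ((s.1 : (Q.T : Subgroup Y)) : Y)) hij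
    have hcm : Commute ((x ^ (j : ℕ))⁻¹ * x ^ (i : ℕ)) a := by
      show _ = _
      calc (x ^ (j : ℕ))⁻¹ * x ^ (i : ℕ) * a
          = (x ^ (j : ℕ))⁻¹ * (x ^ (i : ℕ) * a * (x ^ (i : ℕ))⁻¹) * x ^ (i : ℕ) := by group
        _ = (x ^ (j : ℕ))⁻¹ * (x ^ (j : ℕ) * a * (x ^ (j : ℕ))⁻¹) * x ^ (i : ℕ) := by rw [e]
        _ = a * ((x ^ (j : ℕ))⁻¹ * x ^ (i : ℕ)) := by group
    have hz : ((x ^ (j : ℕ))⁻¹ * x ^ (i : ℕ)) ^ 7 = 1 := by
      rw [((Commute.pow_pow_self x _ _).inv_left).mul_pow, inv_pow, ← pow_mul, ← pow_mul, mul_comm (j : ℕ),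
        mul_comm (i : ℕ), pow_mul, pow_mul, show x ^ 7 = 1 from hx ▸ pow_orderOf_eq_one x, one_pow, one_pow,
        inv_one, one_mul]
    have h := eq_one_of_comm_invol Q h3 hz (Q.invol ha ha1) hcm
    rw [inv_mul_eq_one] at h
    exact Fin.ext (pow_injOn_Iio_orderOf (show (i : ℕ) ∈ Set.Iio (orderOf x) by rw [Set.mem_Iio, hx]; exact i.2)
      (show (j : ℕ) ∈ Set.Iio (orderOf x) by rw [Set.mem_Iio, hx]; exact j.2) h.symm)
  have hcard : Fintype.card {s : (Q.T : Subgroup Y) // s ≠ 1} = Fintype.card (Fin 7) := by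
    rw [Fintype.card_subtype_compl, Fintype.card_subtype_eq, ← Nat.card_eq_fintype_card, Q.h8, Fintype.card_fin]
  obtain ⟨i, hi⟩ := ((Fintype.bijective_iff_injective_and_card f).2 ⟨hinj, hcard.symm⟩).2
    ⟨⟨a', ha'⟩, fun e => ha1' (congrArg Subtype.val e :)⟩
  exact ⟨i, congrArg (fun s => ((s.1 : (Q.T : Subgroup Y)) : Y)) hi⟩

/-- In the normalizer of `T` an element of order three centralizes no element of order seven. -/
theorem eq_one_of_comm_seven {x b : Y} (hx : orderOf x = 7)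
    (hxT : x ∈ normalizer ((Q.T : Subgroup Y) : Set Y)) (hb : b ^ 3 = 1)
    (hbT : b ∈ normalizer ((Q.T : Subgroup Y) : Set Y)) (hc : Commute b x) : b = 1 := by
  refine eq_one_of_cent_T Q h3 hb fun a ha => ?_
  by_cases ha1 : a = 1
  · rw [ha1]; exact Commute.one_right b
  obtain ⟨j, hj⟩ := exists_pow_conj Q h3 hx hxT ha ha1 ((mem_normalizer_iff.1 hbT a).1 ha)
    (fun e => ha1 (conj_eq_one_iff.1 e))
  set z := x ^ j
  have hzb : Commute z⁻¹ b := (hc.pow_right j).symm.inv_left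
  have hcm : Commute (z⁻¹ * b) a := by
    show _ = _
    calc z⁻¹ * b * a = z⁻¹ * (b * a * b⁻¹) * b := by group
      _ = z⁻¹ * (z * a * z⁻¹) * b := by rw [hj]
      _ = a * (z⁻¹ * b) := by group
  have h7 : z ^ 7 = 1 := by
    rw [← pow_mul, mul_comm, pow_mul, show x ^ 7 = 1 from hx ▸ pow_orderOf_eq_one x, one_pow]
  have h := hcm.pow_left 3
  rw [hzb.mul_pow, hb, mul_one, inv_pow] at h
  have hz3 : z ^ 3 = 1 := eq_one_of_comm_invol Q h3 (by rw [← pow_mul, mul_comm, pow_mul, h7, one_pow])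
    (Q.invol ha ha1) (Commute.inv_left_iff.1 h)
  have hz : z = 1 := by
    rw [show z = z ^ 7 * ((z ^ 3) ^ 2)⁻¹ by group, h7, hz3, one_pow, inv_one, one_mul]
  rw [hz, inv_one, one_mul] at hcm
  exact hcm

/-- `|N(T)| = 168`. -/
theorem card_normalizer : Nat.card (normalizer ((Q.T : Subgroup Y) : Set Y)) = 168 := by
  classical
  set K := normalizer ((Q.T : Subgroup Y) : Set Y) with hK
  set C := centralizer ({Q.t} : Set Y) with hC
  have hTK : (Q.T : Subgroup Y) ≤ K := le_normalizer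
  obtain ⟨c, hc, hcK, a, ha, hne⟩ := Q.exists_moving_cent
  have hCK : Nat.card (C ⊓ K : Subgroup Y) = 24 := by
    have h24 : Nat.card (C ⊓ K : Subgroup Y) ∣ 24 := card_cent Q h3 Q.ht ▸ card_dvd_of_le inf_le_left
    have hle : (Q.T : Subgroup Y) ≤ C ⊓ K := le_inf (T_le_cent Q h3) hTK
    have h8 : 8 ∣ Nat.card (C ⊓ K : Subgroup Y) := Q.h8 ▸ card_dvd_of_le hle
    have hne8 : Nat.card (C ⊓ K : Subgroup Y) ≠ 8 := fun e => by
      have heq := eq_of_le_of_card_ge hle (by rw [e, Q.h8])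
      exact hne (mul_inv_eq_iff_eq_mul.2 (Q.comm (heq ▸ mem_inf.2 ⟨hc, hcK⟩) ha))
    obtain ⟨m, hm⟩ := h8
    rw [hm] at h24 hne8 ⊢
    have : m ∣ 3 := Nat.dvd_of_mul_dvd_mul_left (by norm_num : 0 < 8) h24
    rcases (Nat.dvd_prime Nat.prime_three).1 this with rfl | rfl <;> omega
  have hcent : Nat.card (centralizer ({(⟨Q.t, hTK Q.htT⟩ : K)} : Set K)) = 24 := by
    rw [← hCK, ← card_map_of_injective (f := K.subtype) K.subtype_injective]
    congr 2
    ext y
    constructor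
    · rintro ⟨z, hz, rfl⟩
      exact mem_inf.2 ⟨mem_centralizer_singleton_iff.2
        (congrArg Subtype.val (mem_centralizer_singleton_iff.1 hz) :), z.2⟩
    · intro hy
      exact ⟨⟨y, (mem_inf.1 hy).2⟩, mem_centralizer_singleton_iff.2
        (Subtype.ext (mem_centralizer_singleton_iff.1 (mem_inf.1 hy).1)), rfl⟩
  have h := CfsgLib.LargePrimeMix.card_conjugates (G := K) (t := ⟨Q.t, hTK Q.htT⟩) rfl
    {k : K | (k : Y) ∈ (Q.T : Subgroup Y) ∧ (k : Y) ≠ 1} fun u => by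
      constructor
      · rintro ⟨hu, hu1⟩
        obtain ⟨n, hn, hnu⟩ := Q.fus _ hu hu1
        exact ⟨⟨n, hn⟩, Subtype.ext hnu⟩
      · rintro ⟨g, rfl⟩
        exact ⟨(mem_normalizer_iff.1 g.2 Q.t).1 Q.htT, fun e => Invol.invol_ne_one Q.ht (conj_eq_one_iff.1 e)⟩
  have h7 : Nat.card ({k : K | (k : Y) ∈ (Q.T : Subgroup Y) ∧ (k : Y) ≠ 1} : Set K) = 7 := by
    haveI := Fintype.ofFinite (Q.T : Subgroup Y)
    let e : ({k : K | (k : Y) ∈ (Q.T : Subgroup Y) ∧ (k : Y) ≠ 1} : Set K) ≃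
        {s : (Q.T : Subgroup Y) // s ≠ 1} :=
      { toFun := fun k => ⟨⟨k.1, k.2.1⟩, fun e => k.2.2 (congrArg Subtype.val e :)⟩
        invFun := fun s => ⟨⟨s.1, hTK s.1.2⟩, s.1.2, fun e => s.2 (Subtype.ext e)⟩
        left_inv := fun _ => rfl
        right_inv := fun _ => rfl }
    rw [Nat.card_congr e, Nat.card_eq_fintype_card, Fintype.card_subtype_compl, Fintype.card_subtype_eq,
      ← Nat.card_eq_fintype_card, Q.h8]
  rw [h7, hcent] at h
  omega

omit Q h3 in
/-- The exponent of a cube root of unity. -/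
theorem scalar_of_cube {x b : Y} (hx : orderOf x = 7) (hb : b ^ 3 = 1) {w : ℕ}
    (hw : b * x * b⁻¹ = x ^ w) (hne : ¬ Commute b x) : ¬ (w ^ 2) % 7 = 1 := by
  intro h2
  refine hne (mul_inv_eq_iff_eq_mul.1 ?_)
  have hit : ∀ n : ℕ, b ^ n * x * (b ^ n)⁻¹ = x ^ (w ^ n) := by
    intro n
    induction n with
    | zero => simp
    | succ n ih =>
      rw [show b ^ (n + 1) * x * (b ^ (n + 1))⁻¹ = b * (b ^ n * x * (b ^ n)⁻¹) * b⁻¹ by rw [pow_succ']; group,
        ih, ← conj_pow, hw, ← pow_mul, pow_succ']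
  have h3' := hit 3
  rw [hb, one_mul, inv_one, mul_one] at h3'
  have h1 : x ^ 1 = x ^ (w ^ 3) := by rw [pow_one]; exact h3'
  rw [pow_inj_mod, hx, pow_succ w 2, Nat.mul_mod, h2, one_mul, Nat.mod_mod] at h1
  rw [hw, ← Nat.mod_add_div w 7, ← h1, pow_add, pow_mul, show x ^ 7 = 1 from hx ▸ pow_orderOf_eq_one x, one_pow,
    mul_one]
  norm_num

/-- A cube root of unity on an element of order seven of `N(T)`. -/
theorem exists_scalar : ∃ (x b : Y) (w : ℕ), x ∈ normalizer ((Q.T : Subgroup Y) : Set Y) ∧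
    b ∈ normalizer ((Q.T : Subgroup Y) : Set Y) ∧ orderOf x = 7 ∧ b ^ 3 = 1 ∧
    b * x * b⁻¹ = x ^ w ∧ ¬ (w ^ 2) % 7 = 1 := by
  haveI : Fact (Nat.Prime 7) := ⟨by norm_num⟩
  haveI : Fact (Nat.Prime 3) := ⟨Nat.prime_three⟩
  set K := normalizer ((Q.T : Subgroup Y) : Set Y) with hK
  have hKc := card_normalizer Q h3
  obtain ⟨x, hx⟩ := exists_prime_orderOf_dvd_card' (G := K) 7 (hKc ▸ by norm_num)
  obtain ⟨P, hP⟩ := (IsPGroup.of_card (n := 1) (by rw [Nat.card_zpowers, hx, pow_one]) :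
    IsPGroup 7 (zpowers x)).exists_le_sylow
  have hPc : Nat.card (P : Subgroup K) = 7 := by
    rw [P.card_eq_multiplicity, hKc, show (168 : ℕ).factorization 7 = 1 from ?_, pow_one]
    rw [show (168 : ℕ) = 7 * 24 by norm_num, Nat.factorization_mul (by norm_num) (by norm_num),
      Finsupp.add_apply, Nat.Prime.factorization_self (by norm_num : Nat.Prime 7),
      Nat.factorization_eq_zero_of_not_dvd (by norm_num : ¬ 7 ∣ 24)]
  have hPx : (P : Subgroup K) = zpowers x :=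
    (eq_of_le_of_card_ge hP (by rw [hPc, Nat.card_zpowers, hx])).symm
  -- the normalizer of `P` in `N(T)` has order divisible by three
  have hn : Nat.card (Sylow 7 K) = (normalizer ((P : Subgroup K) : Set K)).index := P.card_eq_index_normalizer
  have hd := P.card_dvd_index
  have hm := card_sylow_modEq_one 7 K
  have hidx : (P : Subgroup K).index = 24 := by
    have := (P : Subgroup K).card_mul_index
    rw [hPc, hKc] at this
    omega
  rw [hidx] at hd
  have hn3 : ¬ 3 ∣ Nat.card (Sylow 7 K) := by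
    rw [Nat.ModEq] at hm
    intro h3d
    have hle := Nat.le_of_dvd (by norm_num) hd
    obtain ⟨c, hc⟩ := hd
    obtain ⟨d, hd'⟩ := h3d
    rw [hd'] at hm hc hle
    have hd8 : d ≤ 8 := by omega
    interval_cases d <;> omega
  have h3N : 3 ∣ Nat.card (normalizer ((P : Subgroup K) : Set K)) := by
    have := (normalizer ((P : Subgroup K) : Set K)).card_mul_index
    rw [← hn, hKc] at this
    have h168 : 3 ∣ Nat.card (normalizer ((P : Subgroup K) : Set K)) * Nat.card (Sylow 7 K) :=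
      this ▸ by norm_num
    exact (Nat.prime_three.dvd_mul.1 h168).resolve_right hn3
  obtain ⟨b, hb⟩ := exists_prime_orderOf_dvd_card' (G := normalizer ((P : Subgroup K) : Set K)) 3 h3N
  have hbx : (b : K) * x * (b : K)⁻¹ ∈ zpowers x :=
    hPx ▸ (mem_normalizer_iff.1 b.2 x).1 (hPx.symm ▸ mem_zpowers x)
  obtain ⟨w, hw⟩ := (mem_powers_iff_mem_zpowers.2 hbx : _ ∈ Submonoid.powers x)
  have hbo : orderOf ((b : K) : Y) = 3 := by rw [Subgroup.orderOf_coe, Subgroup.orderOf_coe, hb]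
  have hb3 : ((b : K) : Y) ^ 3 = 1 := hbo ▸ pow_orderOf_eq_one _
  have hxo : orderOf (x : Y) = 7 := by rw [Subgroup.orderOf_coe, hx]
  have hw' : ((b : K) : Y) * (x : Y) * ((b : K) : Y)⁻¹ = (x : Y) ^ w := by
    rw [← Subgroup.coe_pow, show x ^ w = _ from hw]; rfl
  refine ⟨x, (b : K), w, x.2, (b : K).2, hxo, hb3, hw', scalar_of_cube hxo hb3 hw' fun hc => ?_⟩
  rw [eq_one_of_comm_seven Q h3 hxo x.2 hb3 (b : K).2 hc, orderOf_one] at hbo
  omega

end CfsgLib.Walter.Outer.ThreeQ
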