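import Cfsg.Agent.Lib.Walter.Outer.Invert

/-!
# Propagation of a weight from the centralizer of an element to a whole `l`-group

`X` is an `l`-group with commuting automorphisms `τ` (order two), `σ` (order a power of `p`) and `γ`
(order a power of `l`). If `σ` fixes what `τ` fixes and sends the `τ`-inverted elements fixed by `γ`
to their `w`-th powers, then it does so to all `τ`-inverted elements.
-/

set_option autoImplicit false

namespace CfsgLib.Walter.Outer

open Subgroup

universe u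

/-- The inverted elements of weight `w`. -/
def WEl {X : Type u} [Group X] (τ σ : MulAut X) (w : ℕ) (x : X) : Prop := τ x = x⁻¹ ∧ σ x = x ^ w

/-- The standing hypotheses. -/
structure Acts (l p : ℕ) {X : Type u} [Group X] (τ σ : MulAut X) (w : ℕ) : Prop where
  isP : IsPGroup l X
  hl : l.Prime
  hl2 : l ≠ 2
  hp : p.Prime
  hpl : p ≠ l
  invol : ∀ x, τ (τ x) = x
  comm : ∀ x, σ (τ x) = τ (σ x)
  order : ∃ i, σ ^ p ^ i = 1
  weight : ∀ x : X, x ^ w ^ p = x
  weight_sq : ¬ (w ^ 2) % l = 1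
  fix : ∀ x, τ x = x → σ x = x

variable {l p w : ℕ} {X : Type u} [Group X] [Finite X] {τ σ : MulAut X}

theorem Acts.odd (h : Acts l p τ σ w) : Odd (Nat.card X) := by
  haveI : Fact l.Prime := ⟨h.hl⟩
  obtain ⟨k, hk⟩ := h.isP.exists_card_eq
  rw [hk]
  exact (h.hl.odd_of_ne_two h.hl2).pow

/-- The image of a quotient by an invariant subgroup. -/
theorem Acts.quotient (h : Acts l p τ σ w) (Z : Subgroup X) [Z.Normal] (hτ : Z.map τ.toMonoidHom = Z)
    (hσ : Z.map σ.toMonoidHom = Z) :
    Acts l p (QuotientGroup.congr Z Z τ hτ) (QuotientGroup.congr Z Z σ hσ) w where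
  isP := h.isP.to_quotient Z
  hl := h.hl
  hl2 := h.hl2
  hp := h.hp
  hpl := h.hpl
  invol x := by
    induction x using QuotientGroup.induction_on with
    | H x => exact congrArg QuotientGroup.mk (h.invol x)
  comm x := by
    induction x using QuotientGroup.induction_on with
    | H x => exact congrArg QuotientGroup.mk (h.comm x)
  order := by
    obtain ⟨i, hi⟩ := h.order
    refine ⟨i, ?_⟩
    have key : ∀ (n : ℕ) (x : X), ((QuotientGroup.congr Z Z σ hσ) ^ n) (x : X ⧸ Z) = ((σ ^ n) x : X) := by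
      intro n
      induction n with
      | zero => intro x; rfl
      | succ n ih => intro x; rw [pow_succ, pow_succ]; exact ih (σ x)
    refine MulEquiv.ext fun x => ?_
    induction x using QuotientGroup.induction_on with
    | H x => rw [key, hi]; rfl
  weight x := by
    induction x using QuotientGroup.induction_on with
    | H x => exact congrArg QuotientGroup.mk (h.weight x)
  weight_sq := h.weight_sq
  fix x hx := by
    induction x using QuotientGroup.induction_on with
    | H x =>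
      obtain ⟨c, i, rfl, hc, hi, -⟩ := exists_fixed_mul_inverted h.odd h.invol x
      have hci : τ (c * i) = c * i⁻¹ := by rw [map_mul, hc, hi]
      have e1 : ((c * i⁻¹ : X) : X ⧸ Z) = ((c * i : X) : X ⧸ Z) := by rw [← hci]; exact hx
      rw [QuotientGroup.mk_mul, QuotientGroup.mk_mul, mul_right_inj, QuotientGroup.mk_inv] at e1
      have hi1 : (i : X ⧸ Z) = 1 := eq_one_of_sq
        (h.odd.of_dvd_nat (card_quotient_dvd_card Z)) ((inv_eq_iff_mul_eq_one.1 e1))
      have e2 : ((c * i : X) : X ⧸ Z) = (c : X ⧸ Z) := by rw [QuotientGroup.mk_mul, hi1, mul_one]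
      rw [e2]
      exact congrArg QuotientGroup.mk (h.fix c hc)

/-- An inverted element of a quotient lifts to an inverted element. -/
theorem exists_inverted_lift (hodd : Odd (Nat.card X)) (hτ2 : ∀ x, τ (τ x) = x) (Z : Subgroup X) [Z.Normal]
    (hτ : Z.map τ.toMonoidHom = Z) {x : X ⧸ Z} (hx : QuotientGroup.congr Z Z τ hτ x = x⁻¹) :
    ∃ i : X, τ i = i⁻¹ ∧ (i : X ⧸ Z) = x := by
  induction x using QuotientGroup.induction_on with
  | H x =>
    obtain ⟨c, i, rfl, hc, hi, -⟩ := exists_fixed_mul_inverted hodd hτ2 x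
    refine ⟨i, hi, ?_⟩
    have e : ((c : X) : X ⧸ Z) * (i : X ⧸ Z)⁻¹ = (i : X ⧸ Z)⁻¹ * (c : X ⧸ Z)⁻¹ := by
      have h1 : ((τ (c * i) : X) : X ⧸ Z) = ((c * i : X) : X ⧸ Z)⁻¹ := hx
      rw [map_mul, hc, hi, QuotientGroup.mk_mul, QuotientGroup.mk_mul, QuotientGroup.mk_inv, mul_inv_rev] at h1
      exact h1
    have hcz : (c : X ⧸ Z) = 1 := eq_one_of_conj_inv (hodd.of_dvd_nat (card_quotient_dvd_card Z))
      (m := (i : X ⧸ Z)) (by rw [mul_assoc, e]; group)
    rw [QuotientGroup.mk_mul, hcz, one_mul]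

theorem map_center (φ : MulAut X) : (center X).map φ.toMonoidHom = center X :=
  Subgroup.characteristic_iff_map_eq.1 inferInstance φ

theorem WEl.conj (h : Acts l p τ σ w) {c x : X} (hc : τ c = c) (hx : WEl τ σ w x) :
    WEl τ σ w (c * x * c⁻¹) := by
  refine ⟨by rw [map_mul, map_mul, map_inv, hc, hx.1]; group, ?_⟩
  rw [map_mul, map_mul, map_inv, h.fix c hc, hx.2, conj_pow]

/-- Inverted elements of weight `w` commute. -/
theorem commute_wEl (h : Acts l p τ σ w) {x y : X} (hx : WEl τ σ w x) (hy : WEl τ σ w y) : Commute x y := by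
  suffices H : ∀ n, ∀ (Y : Type u) [Group Y] [Finite Y] (τ σ : MulAut Y), Nat.card Y ≤ n →
      Acts l p τ σ w → ∀ a b : Y, WEl τ σ w a → WEl τ σ w b → Commute a b from
    H _ X τ σ le_rfl h x y hx hy
  intro n
  induction n with
  | zero => intro Y _ _ _ _ hn; exact absurd (Nat.card_pos (α := Y)) (by omega)
  | succ n ih =>
    intro Y _ _ τ σ hn hA a b ha hb
    haveI : Fact l.Prime := ⟨hA.hl⟩
    rcases subsingleton_or_nontrivial Y with hs | hs
    · exact Subsingleton.elim _ _
    haveI := hA.isP.center_nontrivial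
    set Z := center Y with hZ
    have hlt : Nat.card (Y ⧸ Z) ≤ n := by
      have h1 := card_eq_card_quotient_mul_card_subgroup Z
      have h2 : 2 ≤ Nat.card Z := Finite.one_lt_card
      have h3 : 1 ≤ Nat.card (Y ⧸ Z) := Nat.card_pos
      nlinarith
    have hc := ih (Y ⧸ Z) _ _ hlt (hA.quotient Z (map_center τ) (map_center σ)) a b
      ⟨congrArg QuotientGroup.mk ha.1, congrArg QuotientGroup.mk ha.2⟩
      ⟨congrArg QuotientGroup.mk hb.1, congrArg QuotientGroup.mk hb.2⟩
    set c := a * b * a⁻¹ * b⁻¹ with hcd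
    have hcZ : c ∈ Z := by
      rw [← QuotientGroup.eq_one_iff]
      simp only [hcd, QuotientGroup.mk_mul, QuotientGroup.mk_inv, hc.eq, mul_inv_cancel_right,
        mul_inv_cancel]
    have hcen : ∀ g, c * g = g * c := fun g => (mem_center_iff.1 hcZ g).symm
    have hab : a * b = c * (b * a) := by rw [hcd]; group
    have hcτ : τ c = c := by
      rw [hcd, map_mul, map_mul, map_mul, map_inv, map_inv, ha.1, hb.1]
      calc a⁻¹ * b⁻¹ * a⁻¹⁻¹ * b⁻¹⁻¹ = (b * a)⁻¹ * (a * b) := by group
        _ = c := by rw [hab, hcen, inv_mul_cancel_left]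
    have hswap : ∀ i j : ℕ, a ^ i * b ^ j = c ^ (i * j) * (b ^ j * a ^ i) := by
      have h1 : ∀ i, a ^ i * b = c ^ i * (b * a ^ i) := by
        intro i
        induction i with
        | zero => simp
        | succ i ih =>
          have hca : Commute a (c ^ i) := Commute.pow_right (hcen a).symm i
          calc a ^ (i + 1) * b = a * (a ^ i * b) := by rw [pow_succ', mul_assoc]
            _ = c ^ i * (a * b) * a ^ i := by rw [ih, ← mul_assoc, hca.eq]; group
            _ = c ^ (i + 1) * (b * a ^ (i + 1)) := by rw [hab, pow_succ c, pow_succ' a]; group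
      intro i j
      induction j with
      | zero => simp
      | succ j ih =>
        have hcb : Commute (b ^ j) (c ^ i) := (Commute.pow_pow (hcen b).symm j i)
        calc a ^ i * b ^ (j + 1) = (a ^ i * b ^ j) * b := by rw [pow_succ, mul_assoc]
          _ = c ^ (i * j) * (b ^ j * (a ^ i * b)) := by rw [ih]; group
          _ = c ^ (i * j) * ((b ^ j * c ^ i) * (b * a ^ i)) := by rw [h1]; group
          _ = c ^ (i * (j + 1)) * (b ^ (j + 1) * a ^ i) := by
            rw [hcb.eq, Nat.mul_succ, pow_add, pow_succ b]; group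
    have hcσ : c = c ^ (w * w) := by
      conv_lhs => rw [← hA.fix c hcτ, hcd]
      rw [map_mul, map_mul, map_mul, map_inv, map_inv, ha.2, hb.2, hswap]
      group
    have hc1 : c = 1 := by
      obtain ⟨k, hk⟩ := hA.isP c
      have h1 : orderOf c ∣ l ^ k := orderOf_dvd_of_pow_eq_one hk
      obtain ⟨m, -, hm⟩ := (Nat.dvd_prime_pow hA.hl).1 h1
      rcases m with - | m
      · exact orderOf_eq_one_iff.1 (by simpa using hm)
      · exfalso
        have hmod : w * w ≡ 1 [MOD orderOf c] := (pow_eq_pow_iff_modEq).1 (by rw [pow_one, ← hcσ])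
        have hmod' : w * w ≡ 1 [MOD l] := hmod.of_dvd (hm ▸ dvd_pow_self l (Nat.succ_ne_zero m))
        refine hA.weight_sq ?_
        rw [pow_two]
        rw [Nat.ModEq, Nat.one_mod_eq_one.2 hA.hl.ne_one] at hmod'
        exact hmod'
    show a * b = b * a
    rw [hab, hc1, one_mul]

/-- The subgroup of inverted elements of weight `w`. -/
def wSub (h : Acts l p τ σ w) : Subgroup X where
  carrier := {x | WEl τ σ w x}
  one_mem' := ⟨by rw [map_one, inv_one], by rw [map_one, one_pow]⟩
  mul_mem' {a b} ha hb := ⟨by rw [map_mul, ha.1, hb.1, ← mul_inv_rev, (commute_wEl h ha hb).eq],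
    by rw [map_mul, ha.2, hb.2, (commute_wEl h ha hb).mul_pow]⟩
  inv_mem' {a} ha := ⟨by rw [map_inv, ha.1], by rw [map_inv, ha.2, inv_pow]⟩

theorem mem_wSub (h : Acts l p τ σ w) {x : X} : x ∈ wSub h ↔ WEl τ σ w x := Iff.rfl

/-- An inverted element of the group generated by the fixed and the weight `w` elements has weight `w`. -/
theorem wEl_of_mem_closure (h : Acts l p τ σ w) {x : X} (hx : τ x = x⁻¹)
    (hmem : x ∈ closure ({c | τ c = c} ∪ {y | WEl τ σ w y})) : WEl τ σ w x := by
  let C : Subgroup X := MonoidHom.eqLocus τ.toMonoidHom (MonoidHom.id X)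
  have hCn : C ≤ normalizer (wSub h : Set X) := by
    intro c hc
    rw [mem_normalizer_iff]
    intro y
    refine ⟨fun hy => WEl.conj h hc hy, fun hy => ?_⟩
    have := WEl.conj h (c := c⁻¹) (by rw [map_inv, show τ c = c from hc]) hy
    rwa [show c⁻¹ * (c * y * c⁻¹) * c⁻¹⁻¹ = y by group] at this
  have hsup : x ∈ wSub h ⊔ C := by
    refine closure_le (K := wSub h ⊔ C) |>.2 ?_ hmem
    rintro z (hz | hz)
    · exact mem_sup_right hz
    · exact mem_sup_left hz
  rw [← SetLike.mem_coe, coe_mul_of_right_le_normalizer_left _ _ hCn] at hsup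
  obtain ⟨m, hm, c, hc, rfl⟩ := hsup
  rw [map_mul, show τ c = c from hc, hm.1, mul_inv_rev] at hx
  have hcj : m⁻¹ * c * m⁻¹⁻¹ = c⁻¹ := by rw [hx, inv_inv]; group
  show WEl τ σ w (m * c)
  rw [eq_one_of_conj_inv h.odd hcj, mul_one]
  exact hm

/-- A weight modulo an invariant subgroup lifts exactly. -/
theorem exists_lift (h : Acts l p τ σ w) {A : Subgroup X} (hAτ : ∀ a ∈ A, τ a ∈ A) (hAσ : ∀ a ∈ A, σ a ∈ A)
    {x : X} (hxn : x ∈ normalizer (A : Set X)) (hx : τ x = x⁻¹) (hxσ : (x ^ w)⁻¹ * σ x ∈ A) :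
    ∃ y, x⁻¹ * y ∈ A ∧ WEl τ σ w y := by
  classical
  haveI : Fact p.Prime := ⟨h.hp⟩
  haveI := Fintype.ofFinite X
  set v := w ^ (p - 1) with hv
  have hwv : w * v = w ^ p := by
    rw [hv, ← pow_succ', Nat.sub_add_cancel h.hp.one_le]
  set J := {y : X // x⁻¹ * y ∈ A ∧ τ y = y⁻¹}
  have hnA : ∀ a ∈ A, a ∈ normalizer (A : Set X) := fun a ha => le_normalizer ha
  have hpowA : ∀ (a : X), a ∈ A → ∀ (u : X), u ∈ normalizer (A : Set X) → ∀ n : ℕ,
      (u ^ n)⁻¹ * (u * a) ^ n ∈ A := by
    intro a ha u hu n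
    induction n with
    | zero => simp
    | succ n ih =>
      have e : (u ^ (n + 1))⁻¹ * (u * a) ^ (n + 1) = u⁻¹ * ((u ^ n)⁻¹ * (u * a) ^ n) * u * a := by
        rw [pow_succ, pow_succ]; group
      rw [e]
      refine mul_mem ?_ ha
      have := (mem_normalizer_iff.1 (inv_mem hu) _).1 ih
      rwa [inv_inv] at this
  let f : J → J := fun y => ⟨(σ y.1) ^ v, by
    obtain ⟨hyA, hy⟩ := y.2
    refine ⟨?_, by rw [map_pow, ← h.comm, hy, map_inv, inv_pow]⟩
    have hsy : σ y.1 = x ^ w * ((x ^ w)⁻¹ * σ x * σ (x⁻¹ * y.1)) := by rw [map_mul, map_inv]; group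
    have h1 := hpowA _ (mul_mem hxσ (hAσ _ hyA)) (x ^ w) (pow_mem hxn _) v
    rw [← hsy, ← pow_mul, hwv, h.weight] at h1
    exact h1⟩
  have hit : ∀ (n : ℕ) (y : J), ((f^[n]) y).1 = ((σ ^ n) y.1) ^ v ^ n := by
    intro n
    induction n with
    | zero => intro y; simp
    | succ n ih =>
      intro y
      rw [Function.iterate_succ', Function.comp_apply]
      show (σ ((f^[n]) y).1) ^ v = _
      rw [ih, map_pow, ← pow_mul, ← pow_succ, pow_succ' σ]
      rfl
  obtain ⟨i, hi⟩ := h.order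
  have hvN : ∀ y : X, y ^ v ^ p ^ (i + 1) = y := by
    intro y
    have e : v ^ p ^ (i + 1) = (w ^ p) ^ ((p - 1) * p ^ i) := by
      rw [hv, ← pow_mul, ← pow_mul, pow_succ]; ring_nf
    rw [e]
    generalize (p - 1) * p ^ i = k
    induction k with
    | zero => simp
    | succ k ih => rw [pow_succ, pow_mul, ih, h.weight]
  have hσN : σ ^ p ^ (i + 1) = 1 := by rw [pow_succ, pow_mul, hi, one_pow]
  have hfN : f^[p ^ (i + 1)] = id := funext fun y => Subtype.ext (by rw [hit, hσN]; exact hvN _)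
  have hfbij : Function.Bijective f := by
    obtain ⟨N, hN⟩ : ∃ N, p ^ (i + 1) = N + 1 :=
      ⟨_, (Nat.sub_add_cancel (Nat.one_le_pow _ _ h.hp.pos)).symm⟩
    rw [hN] at hfN
    exact ⟨fun a b e => by
        have h1 := congrFun hfN a; have h2 := congrFun hfN b
        rw [Function.iterate_succ_apply] at h1 h2
        exact h1.symm.trans (by rw [e]; exact h2),
      fun b => ⟨(f^[N]) b, by
        have h1 := congrFun hfN b
        rwa [Function.iterate_succ_apply'] at h1⟩⟩
  set π : Equiv.Perm J := Equiv.ofBijective f hfbij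
  have hπ : π ^ p ^ (i + 1) = 1 := Equiv.ext fun y => by
    rw [← Equiv.Perm.iterate_eq_pow]
    exact congrFun hfN y
  have hcard : ¬ p ∣ Fintype.card J := by
    rw [← Nat.card_eq_fintype_card]
    set s := root x with hs
    have hss : s * s = x := root_mul_root h.odd x
    have hsn : s ∈ normalizer (A : Set X) := pow_mem hxn _
    have hsτ : τ s = s⁻¹ := by rw [hs, root, map_pow, hx, inv_pow]
    let e : J ≃ {a : X // a ∈ A ∧ τ a = a⁻¹} :=
      { toFun := fun y => ⟨s⁻¹ * y.1 * s⁻¹, by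
          refine ⟨?_, by rw [map_mul, map_mul, map_inv, hsτ, y.2.2]; group⟩
          obtain ⟨z, hzA, -⟩ := y
          have h1 := (mem_normalizer_iff.1 hsn _).1 hzA
          rwa [show x⁻¹ = s⁻¹ * s⁻¹ by rw [← mul_inv_rev, hss],
            show s * (s⁻¹ * s⁻¹ * z) * s⁻¹ = s⁻¹ * z * s⁻¹ by group] at h1⟩
        invFun := fun a => ⟨s * a.1 * s, by
          refine ⟨?_, by rw [map_mul, map_mul, hsτ, a.2.2]; group⟩
          have h1 := (mem_normalizer_iff.1 (inv_mem hsn) _).1 a.2.1
          rwa [show s⁻¹ * a.1 * s⁻¹⁻¹ = (s⁻¹ * s⁻¹) * (s * a.1 * s) by group, ← mul_inv_rev, hss] at h1⟩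
        left_inv := fun y => Subtype.ext (by group)
        right_inv := fun a => Subtype.ext (by group) }
    rw [Nat.card_congr e]
    intro hp
    haveI : Fact l.Prime := ⟨h.hl⟩
    obtain ⟨k, hk⟩ := (h.isP.to_subgroup A).exists_card_eq
    have h2 := hp.trans (card_inverted_dvd h.odd h.invol A hAτ)
    rw [hk] at h2
    exact h.hpl ((Nat.prime_dvd_prime_iff_eq h.hp h.hl).1 (h.hp.dvd_of_dvd_pow h2))
  obtain ⟨y, hy⟩ := Equiv.Perm.exists_fixed_point_of_prime hcard hπ
  refine ⟨y.1, y.2.1, y.2.2, ?_⟩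
  have h1 : (σ y.1) ^ v = y.1 := congrArg Subtype.val hy
  calc σ y.1 = (σ y.1) ^ w ^ p := (h.weight _).symm
    _ = ((σ y.1) ^ v) ^ w := by rw [← pow_mul, mul_comm v, hwv]
    _ = y.1 ^ w := by rw [h1]

/-- The weight propagates. -/
theorem wEl_of_fixed (h : Acts l p τ σ w) (γ : MulAut X) (hγτ : ∀ x, γ (τ x) = τ (γ x))
    (hγσ : ∀ x, γ (σ x) = σ (γ x)) (hγ : ∃ j, γ ^ l ^ j = 1)
    (hbase : ∀ a, γ a = a → τ a = a⁻¹ → σ a = a ^ w) {x : X} (hx : τ x = x⁻¹) : WEl τ σ w x := by
  suffices H : ∀ n, ∀ (Y : Type u) [Group Y] [Finite Y] (τ σ γ : MulAut Y), Nat.card Y ≤ n →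
      Acts l p τ σ w → (∀ y, γ (τ y) = τ (γ y)) → (∀ y, γ (σ y) = σ (γ y)) → (∃ j, γ ^ l ^ j = 1) →
      (∀ a, γ a = a → τ a = a⁻¹ → σ a = a ^ w) → ∀ y, τ y = y⁻¹ → WEl τ σ w y from
    H _ X τ σ γ le_rfl h hγτ hγσ hγ hbase x hx
  intro n
  induction n with
  | zero => intro Y _ _ _ _ _ hn; exact absurd (Nat.card_pos (α := Y)) (by omega)
  | succ n ih =>
    intro Y _ _ τ σ γ hn hA hγτ hγσ hγ hbase y hy
    haveI : Fact l.Prime := ⟨hA.hl⟩
    rcases subsingleton_or_nontrivial Y with hs | hs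
    · exact ⟨hy, Subsingleton.elim _ _⟩
    let A : Subgroup Y := MonoidHom.eqLocus γ.toMonoidHom (MonoidHom.id Y)
    have hmemA : ∀ a, a ∈ A ↔ γ a = a := fun a => Iff.rfl
    set Z := center Y ⊓ A with hZd
    haveI hZn : Z.Normal := ⟨fun z hz g => by
      rwa [mem_center_iff.1 hz.1 g, mul_inv_cancel_right]⟩
    have hstab : ∀ φ : MulAut Y, (∀ a, γ a = a → γ (φ a) = φ a) → Z.map φ.toMonoidHom = Z := by
      intro φ hφ
      refine eq_of_le_of_card_ge ?_ (by rw [card_map_of_injective φ.injective])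
      rintro _ ⟨z, hz, rfl⟩
      exact ⟨(map_center φ).le ⟨z, hz.1, rfl⟩, hφ z hz.2⟩
    have hτZ := hstab τ fun a ha => by rw [hγτ, ha]
    have hσZ := hstab σ fun a ha => by rw [hγσ, ha]
    have hγZ := hstab γ fun a ha => by rw [ha, ha]
    have hZne : Z ≠ ⊥ := by
      haveI := hA.isP.center_nontrivial
      obtain ⟨j, hj⟩ := hγ
      let γZ : Equiv.Perm (center Y) :=
        { toFun := fun z => ⟨γ z, (map_center γ).le ⟨z, z.2, rfl⟩⟩
          invFun := fun z => ⟨γ.symm z, (map_center γ.symm).le ⟨z, z.2, rfl⟩⟩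
          left_inv := fun z => Subtype.ext (γ.symm_apply_apply _)
          right_inv := fun z => Subtype.ext (γ.apply_symm_apply _) }
      have hpow : ∀ (m : ℕ) (z : center Y), ((γZ ^ m) z : Y) = (γ ^ m) (z : Y) := by
        intro m
        induction m with
        | zero => intro z; rfl
        | succ m ih => intro z; rw [pow_succ, pow_succ]; exact ih (γZ z)
      haveI := Fintype.ofFinite (center Y)
      have hdvd : l ∣ Fintype.card (center Y) := by
        obtain ⟨k, hk⟩ := (hA.isP.to_subgroup (center Y)).exists_card_eq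
        rw [← Nat.card_eq_fintype_card, hk]
        refine dvd_pow_self l fun hk0 => ?_
        have := Finite.one_lt_card (α := center Y)
        rw [hk, hk0, pow_zero] at this
        omega
      obtain ⟨z, hz, hz1⟩ := Equiv.Perm.exists_fixed_point_of_prime' hdvd
        (σ := γZ) (n := j) (Equiv.ext fun z => Subtype.ext (by rw [hpow, hj]; rfl)) (a := 1)
        (Subtype.ext (map_one γ))
      intro e
      exact hz1 (Subtype.ext (mem_bot.1 (e ▸ (⟨z.2, congrArg Subtype.val hz⟩ : (z : Y) ∈ Z))))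
    have hlt : Nat.card (Y ⧸ Z) ≤ n := by
      have h1 := card_eq_card_quotient_mul_card_subgroup Z
      have h2 : 2 ≤ Nat.card Z := Z.one_lt_card_iff_ne_bot.2 hZne
      have h3 : 1 ≤ Nat.card (Y ⧸ Z) := Nat.card_pos
      nlinarith
    have hAτ : ∀ a ∈ A, τ a ∈ A := fun a ha => by rw [hmemA, hγτ, (hmemA a).1 ha]
    have hAσ : ∀ a ∈ A, σ a ∈ A := fun a ha => by rw [hmemA, hγσ, (hmemA a).1 ha]
    have hAgen : ∀ a ∈ A, a ∈ closure ({c | τ c = c} ∪ {u | WEl τ σ w u}) := by
      intro a ha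
      obtain ⟨c, i, rfl, hc, hi, hmem⟩ := exists_fixed_mul_inverted hA.odd hA.invol a
      exact mul_mem (subset_closure (Or.inl hc))
        (subset_closure (Or.inr ⟨hi, hbase i (hmem A ha (hAτ _ ha)).2 hi⟩))
    have hkey : ∀ i, τ i = i⁻¹ → i⁻¹ * γ i ∈ Z → WEl τ σ w i := by
      intro i hi hc
      set c := i⁻¹ * γ i with hcd
      have hcen : ∀ g, c * g = g * c := fun g => (mem_center_iff.1 hc.1 g).symm
      have hcγ : γ c = c := hc.2
      have hcτ : τ c = c⁻¹ := by
        rw [hcd, map_mul, map_inv, hi, inv_inv, ← hγτ, hi, map_inv]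
        calc i * (γ i)⁻¹ = i * c⁻¹ * i⁻¹ := by rw [hcd]; group
          _ = c⁻¹ := by rw [hcd] at hcen ⊢; rw [← inv_inj]; simp only [mul_inv_rev, inv_inv]; rw [← mul_assoc, ← hcen]; group
      have hcW : σ c = c ^ w := hbase c hcγ hcτ
      have hγi : γ i = i * c := by rw [hcd]; group
      have hdiff : (i ^ w)⁻¹ * σ i ∈ A := by
        rw [hmemA, map_mul, map_inv, map_pow, hγσ, hγi, map_mul, hcW,
          Commute.mul_pow (hcen i).symm, mul_inv_rev, ← mul_assoc]
        have hcp : Commute (c ^ w) (σ i) := Commute.pow_left (hcen (σ i)) w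
        have hci : Commute (c ^ w) (i ^ w) := Commute.pow_pow (hcen i) w w
        rw [mul_assoc _ (σ i), ← hcp.eq, ← mul_inv_rev, ← hci.eq]
        group
      have hin : i ∈ normalizer (A : Set Y) := by
        rw [mem_normalizer_iff]
        intro a
        have e : γ (i * a * i⁻¹) = i * γ a * i⁻¹ := by
          rw [map_mul, map_mul, map_inv, hγi, mul_inv_rev, mul_assoc i c, hcen]; group
        rw [hmemA, hmemA, e, mul_left_inj, mul_right_inj]
      obtain ⟨u, hu, huW⟩ := exists_lift hA hAτ hAσ hin hi hdiff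
      refine wEl_of_mem_closure hA hi ?_
      rw [show i = u * (i⁻¹ * u)⁻¹ by group]
      exact mul_mem (subset_closure (Or.inr huW)) (inv_mem (hAgen _ hu))
    have hW : ∀ u : Y ⧸ Z, QuotientGroup.congr Z Z τ hτZ u = u⁻¹ →
        WEl (QuotientGroup.congr Z Z τ hτZ) (QuotientGroup.congr Z Z σ hσZ) w u := by
      refine ih (Y ⧸ Z) _ _ (QuotientGroup.congr Z Z γ hγZ) hlt (hA.quotient Z hτZ hσZ) ?_ ?_ ?_ ?_
      · intro u
        induction u using QuotientGroup.induction_on with
        | H u => exact congrArg QuotientGroup.mk (hγτ u)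
      · intro u
        induction u using QuotientGroup.induction_on with
        | H u => exact congrArg QuotientGroup.mk (hγσ u)
      · obtain ⟨j, hj⟩ := hγ
        refine ⟨j, MulEquiv.ext fun u => ?_⟩
        have key : ∀ (m : ℕ) (a : Y),
            ((QuotientGroup.congr Z Z γ hγZ) ^ m) (a : Y ⧸ Z) = ((γ ^ m) a : Y) := by
          intro m
          induction m with
          | zero => intro a; rfl
          | succ m ih => intro a; rw [pow_succ, pow_succ]; exact ih (γ a)
        induction u using QuotientGroup.induction_on with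
        | H u => rw [key, hj]; rfl
      · intro a ha hia
        obtain ⟨i, hi, rfl⟩ := exists_inverted_lift hA.odd hA.invol Z hτZ hia
        exact congrArg QuotientGroup.mk (hkey i hi (QuotientGroup.eq.1 ha.symm)).2
    obtain ⟨-, hy2⟩ := hW (y : Y ⧸ Z) (congrArg QuotientGroup.mk hy)
    set a := (y ^ w)⁻¹ * σ y with had
    have haZ : a ∈ Z := QuotientGroup.eq.1 (hy2.symm : ((y ^ w : Y) : Y ⧸ Z) = (σ y : Y))
    obtain ⟨u, hu, huW⟩ := exists_lift hA (A := Z) (fun z hz => hτZ.le ⟨z, hz, rfl⟩)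
      (fun z hz => hσZ.le ⟨z, hz, rfl⟩) (Subgroup.normalizer_eq_top Z ▸ mem_top y) hy haZ
    have hz : u⁻¹ * y ∈ Z := by simpa [mul_inv_rev] using inv_mem hu
    refine wEl_of_mem_closure hA hy ?_
    rw [show y = u * (u⁻¹ * y) by group]
    exact mul_mem (subset_closure (Or.inr huW)) (hAgen _ hz.2)

end CfsgLib.Walter.Outer
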